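import Groth.Agent.GLinEt.Local
import Mathlib.RingTheory.ZariskisMainTheorem
import Mathlib.RingTheory.TensorProduct.Maps

/-!
# Near a closed orbit with the same stabiliser below, the quotient square is cartesian
-/

universe u

open TensorProduct

namespace Groth.Agent.GLinEt

open ComodLib GLin

theorem mem_pow_of_mul_mem {R : Type*} [CommRing R] {J : Ideal R} {E b : R} (hE : 1 - E ∈ J) {n : ℕ}
    (h : E * b ∈ J ^ n) : b ∈ J ^ n := by
  have key : ∀ i ≤ n, b ∈ J ^ i := by
    intro i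
    induction i with
    | zero => intro _; rw [pow_zero, Ideal.one_eq_top]; trivial
    | succ i ih =>
      intro hi
      rw [show b = (1 - E) * b + E * b by ring]
      refine add_mem ?_ (Ideal.pow_le_pow_right hi h)
      rw [pow_succ']
      exact Ideal.mul_mem_mul hE (ih (by omega))
  exact key n le_rfl

theorem exists_pow_mul_eq_of_awayMap {B R : Type*} [CommRing B] [CommRing R] (i : B →+* R) (r : B)
    (h : Function.Surjective (Localization.awayMap i r)) (x : R) : ∃ (n : ℕ) (b : B), i r ^ n * x = i b := by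
  obtain ⟨z, hz⟩ := h (algebraMap R _ x)
  obtain ⟨b, ⟨_, n, rfl⟩, rfl⟩ := IsLocalization.exists_mk'_eq (.powers r) z
  have heq : ∀ c : B, Localization.awayMap i r (algebraMap B _ c) = algebraMap R _ (i c) := fun c => by
    simp [Localization.awayMap, IsLocalization.Away.map, IsLocalization.map_eq]
  have h1 := congrArg (Localization.awayMap i r) (IsLocalization.mk'_spec (Localization.Away r) b
    (⟨r ^ n, n, rfl⟩ : Submonoid.powers r))
  rw [map_mul, heq, heq] at h1
  erw [hz] at h1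
  rw [← map_mul, IsLocalization.eq_iff_exists (.powers (i r))] at h1
  obtain ⟨⟨_, m, rfl⟩, hm⟩ := h1
  refine ⟨m + n, r ^ m * b, ?_⟩
  simp only [map_pow] at hm
  rw [map_mul, map_pow, pow_add, mul_assoc, mul_comm _ x]
  exact hm

section

variable {k : Type u} [Field k] [IsAlgClosed k] {A : Type u} [CommRing A] [IsDomain A] [HopfAlgebra k A]
  [Algebra.FiniteType k A] {α : A →ₗ[k] k}
variable {R : Type u} [CommRing R] [Algebra k R] [Algebra.FiniteType k R] [HopfRep.Comod k A R] [GLin.IsCoactAlg k A R]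
variable {S : Type u} [CommRing S] [Algebra k S] [Algebra.FiniteType k S] [HopfRep.Comod k A S] [GLin.IsCoactAlg k A S]
variable [Algebra S R] [IsScalarTower k S R]

omit [IsAlgClosed k] [IsDomain A] [Algebra.FiniteType k A] [Algebra.FiniteType k R] in
theorem sub_one_mem_ker_of_invariant {x : R →ₐ[k] k} {f : R} (hf : f ∈ GLin.invariants k A R) (hxf : x f = 1) :
    1 - f ∈ RingHom.ker (orbitHom k A x) := by
  rw [RingHom.mem_ker, map_sub, map_one, orbitHom_of_invariant x hf, hxf, map_one, sub_self]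

omit [IsAlgClosed k] [IsDomain A] [Algebra.FiniteType k A] [Algebra.FiniteType k R] in
theorem transHom_invariant (g : A →ₐ[k] k) {f : R} (hf : f ∈ GLin.invariants k A R) : transHom g f = f := by
  rw [transHom_apply, (fixedPts_actF f).mp hf]
  simp

variable {S₀ : Type u} [CommRing S₀] [Algebra k S₀] [Algebra S₀ S] [IsScalarTower k S₀ S]
variable {R₀ : Type u} [CommRing R₀] [Algebra k R₀] [Algebra R₀ R] [IsScalarTower k R₀ R]
variable [Algebra S₀ R₀] [Algebra S₀ R] [IsScalarTower S₀ S R] [IsScalarTower S₀ R₀ R]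

/-- The maximal ideal of the invariants at the point is generated from below. -/
theorem exists_mul_mem_map (hα : IsIntegral k α) (h1 : α 1 = 1)
    (hφ : Hoch.IsComodHom A (IsScalarTower.toAlgHom k S R).toLinearMap)
    (hS₀ : (IsScalarTower.toAlgHom k S₀ S).range = GLin.invariants k A S)
    (hR₀i : Function.Injective (algebraMap R₀ R)) (hR₀ : (IsScalarTower.toAlgHom k R₀ R).range = GLin.invariants k A R)
    [Algebra.FiniteType k R₀] (x : R →ₐ[k] k)
    (hpow : ∀ (n : ℕ) (r : R), ∃ a : S, r - algebraMap S R a ∈ RingHom.ker (orbitHom k A x) ^ n) :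
    ∃ e : R₀, x (algebraMap R₀ R e) = 1 ∧ ∀ f : R₀, x (algebraMap R₀ R f) = 0 →
      e * f ∈ Ideal.map (algebraMap S₀ R₀)
        ((RingHom.ker (x.comp (IsScalarTower.toAlgHom k R₀ R))).comap (algebraMap S₀ R₀)) := by
  classical
  haveI : IsNoetherianRing R := Algebra.FiniteType.isNoetherianRing k R
  haveI : IsNoetherianRing R₀ := Algebra.FiniteType.isNoetherianRing k R₀
  set Q := RingHom.ker (orbitHom k A x) with hQ
  set q := RingHom.ker (x.comp (IsScalarTower.toAlgHom k R₀ R)) with hq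
  set p := q.comap (algebraMap S₀ R₀) with hp
  have hR₀mem : ∀ r₀ : R₀, algebraMap R₀ R r₀ ∈ GLin.invariants k A R := fun r₀ => hR₀ ▸ ⟨r₀, rfl⟩
  have hS₀surj : ∀ s ∈ GLin.invariants k A S, ∃ s₀ : S₀, algebraMap S₀ S s₀ = s := fun s hs => by
    rw [← hS₀] at hs; exact hs
  have hR₀surj : ∀ r ∈ GLin.invariants k A R, ∃ r₀ : R₀, algebraMap R₀ R r₀ = r := fun r hr => by
    rw [← hR₀] at hr; exact hr
  have hcompat : ∀ s₀ : S₀, algebraMap R₀ R (algebraMap S₀ R₀ s₀) = algebraMap S R (algebraMap S₀ S s₀) := fun s₀ => by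
    rw [← IsScalarTower.algebraMap_apply S₀ R₀ R, ← IsScalarTower.algebraMap_apply S₀ S R]
  have key : ∀ f ∈ q, ∃ r ∈ q, (1 - r) * f ∈ Ideal.map (algebraMap S₀ R₀) p := by
    intro f hf
    set F := algebraMap R₀ R f
    let I : Ideal R := Ideal.map (algebraMap R₀ R) (Ideal.map (algebraMap S₀ R₀) p)
    have hFn : ∀ n : ℕ, F ∈ I ⊔ Q ^ n := by
      intro n
      rcases Nat.eq_zero_or_pos n with rfl | hn
      · rw [pow_zero, Ideal.one_eq_top, sup_top_eq]; trivial
      obtain ⟨b, hb⟩ := hpow n F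
      obtain ⟨s₀, hs₀⟩ := hS₀surj (rey α b) (rey_mem_fixedPts hα b)
      have hrq : rey α (F - algebraMap S R b) ∈ Q ^ n :=
        rey_mem_of_stable (U := (Q ^ n).restrictScalars k) (fun g u hu => transHom_mem_pow g hu) hb
      rw [map_sub, rey_of_fixed h1 (hR₀mem f : F ∈ HopfRep.fixedPts k A R)] at hrq
      rw [show rey α (algebraMap S R b) = algebraMap R₀ R (algebraMap S₀ R₀ s₀) by
        rw [hcompat, hs₀]; exact (map_rey hφ b).symm] at hrq
      have hs₀p : s₀ ∈ p := by
        show x (algebraMap R₀ R (algebraMap S₀ R₀ s₀)) = 0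
        have h := ker_orbitHom_le (A := A) x (Ideal.pow_le_self (by omega) hrq)
        rw [RingHom.mem_ker, map_sub, show x F = 0 from hf, zero_sub, neg_eq_zero] at h
        exact h
      have := Submodule.add_mem_sup (show algebraMap R₀ R (algebraMap S₀ R₀ s₀) ∈ I from
        Ideal.mem_map_of_mem _ (Ideal.mem_map_of_mem _ hs₀p)) hrq
      rwa [add_sub_cancel] at this
    obtain ⟨⟨r, hr⟩, hrF⟩ := (Ideal.mem_iInf_smul_pow_eq_bot_iff Q (I.mkQ F)).mp (by
      rw [Submodule.mem_iInf]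
      intro n
      obtain ⟨u, hu, v, hv, e⟩ := Submodule.mem_sup.mp (hFn n)
      rw [← e, map_add, Submodule.mkQ_apply, (Submodule.Quotient.mk_eq_zero _).mpr hu, zero_add,
        show v = v • (1 : R) from (mul_one v).symm, map_smul]
      exact Submodule.smul_mem_smul hv Submodule.mem_top)
    have hF : (1 - r) * F ∈ I := by
      rw [← Submodule.Quotient.mk_eq_zero I, ← smul_eq_mul, Submodule.Quotient.mk_smul, sub_smul, one_smul,
        sub_eq_zero]
      exact hrF.symm
    obtain ⟨r₀, hr₀⟩ := hR₀surj (rey α r) (rey_mem_fixedPts hα r)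
    refine ⟨r₀, ?_, ?_⟩
    · show x (algebraMap R₀ R r₀) = 0
      rw [hr₀]
      exact ker_orbitHom_le (A := A) x (rey_mem_of_isSubcomod (isSubcomod_ker_orbitHom x) hr)
    have hI : ∀ u ∈ I, ∀ c : R, ∃ i ∈ Ideal.map (algebraMap S₀ R₀) p, algebraMap R₀ R i = rey α (c * u) := by
      intro u hu
      induction hu using Submodule.span_induction with
      | mem u hu =>
        obtain ⟨i, hi, rfl⟩ := hu
        intro c
        obtain ⟨c₀, hc₀⟩ := hR₀surj (rey α c) (rey_mem_fixedPts hα c)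
        exact ⟨c₀ * i, Ideal.mul_mem_left _ _ hi, by
          rw [map_mul, hc₀, rey_mul_invariant _ (hR₀mem i)]⟩
      | zero => exact fun c => ⟨0, zero_mem _, by rw [map_zero, mul_zero, map_zero]⟩
      | add u v _ _ hu hv =>
        intro c
        obtain ⟨i, hi, e⟩ := hu c
        obtain ⟨i', hi', e'⟩ := hv c
        exact ⟨i + i', add_mem hi hi', by rw [mul_add, map_add, map_add, e, e']⟩
      | smul a u _ hu =>
        intro c
        rw [smul_eq_mul, ← mul_assoc]
        exact hu _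
    obtain ⟨i, hi, e⟩ := hI _ hF 1
    rw [one_mul, rey_mul_invariant _ (hR₀mem f), map_sub,
      rey_of_fixed h1 ((GLin.invariants k A R).one_mem : (1 : R) ∈ HopfRep.fixedPts k A R), ← hr₀,
      ← map_one (algebraMap R₀ R), ← map_sub, ← map_mul] at e
    exact hR₀i e ▸ hi
  choose! r hrq hrf using key
  obtain ⟨gens, hgens⟩ := IsNoetherian.noetherian q
  refine ⟨∏ f ∈ gens, (1 - r f), ?_, fun f hf => ?_⟩
  · rw [map_prod, map_prod]
    refine Finset.prod_eq_one fun f hf => ?_
    rw [map_sub, map_sub, map_one, map_one, show x (algebraMap R₀ R (r f)) = 0 from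
      hrq f (hgens ▸ Submodule.subset_span hf), sub_zero]
  · have hf' : f ∈ Submodule.span R₀ (gens : Set R₀) := hgens.symm ▸ (show f ∈ q from hf)
    clear hf
    induction hf' using Submodule.span_induction with
    | mem f hf =>
      rw [← Finset.prod_erase_mul _ _ (Finset.mem_coe.mp hf), mul_assoc]
      exact Ideal.mul_mem_left _ _ (hrf f (hgens ▸ Submodule.subset_span hf))
    | zero => rw [mul_zero]; exact zero_mem _
    | add u v _ _ hu hv => rw [mul_add]; exact add_mem hu hv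
    | smul c u _ hu => rw [smul_eq_mul, mul_left_comm]; exact Ideal.mul_mem_left _ _ hu

set_option maxHeartbeats 1000000 in
/-- A function killing the kernel of the comparison map near the orbit. -/
theorem exists_annihilator_ker (hα : IsIntegral k α) (h1 : α 1 = 1)
    (hφ : Hoch.IsComodHom A (IsScalarTower.toAlgHom k S R).toLinearMap)
    (hS₀ : (IsScalarTower.toAlgHom k S₀ S).range = GLin.invariants k A S)
    (hR₀i : Function.Injective (algebraMap R₀ R)) (hR₀ : (IsScalarTower.toAlgHom k R₀ R).range = GLin.invariants k A R)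
    [Algebra.FiniteType S₀ R₀] [Algebra.FiniteType k R₀] (x : R →ₐ[k] k)
    (hy : GLin.IsClosedOrbit k A (x.comp (IsScalarTower.toAlgHom k S R)))
    (hpow : ∀ (n : ℕ) (r : R), ∃ a : S, r - algebraMap S R a ∈ RingHom.ker (orbitHom k A x) ^ n)
    (hmodn : ∀ (n : ℕ) (a : S), algebraMap S R a ∈ RingHom.ker (orbitHom k A x) ^ n →
      a ∈ RingHom.ker (orbitHom k A (x.comp (IsScalarTower.toAlgHom k S R))) ^ n) :
    ∃ f : R₀, x (algebraMap R₀ R f) = 1 ∧ ∀ z : S ⊗[S₀] R₀,
      Algebra.TensorProduct.productMap (IsScalarTower.toAlgHom S₀ S R) (IsScalarTower.toAlgHom S₀ R₀ R) z = 0 →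
        ((1 : S) ⊗ₜ[S₀] f) * z = 0 := by
  classical
  haveI : IsNoetherianRing S := Algebra.FiniteType.isNoetherianRing k S
  haveI : IsNoetherianRing (S ⊗[S₀] R₀) := Algebra.FiniteType.isNoetherianRing S (S ⊗[S₀] R₀)
  set Q := RingHom.ker (orbitHom k A x) with hQ
  set P := RingHom.ker (orbitHom k A (x.comp (IsScalarTower.toAlgHom k S R))) with hP
  let θ := Algebra.TensorProduct.productMap (IsScalarTower.toAlgHom S₀ S R) (IsScalarTower.toAlgHom S₀ R₀ R)
  have hθ : ∀ a u, θ (a ⊗ₜ[S₀] u) = algebraMap S R a * algebraMap R₀ R u := fun a u => by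
    simp [θ]
  have hR₀mem : ∀ r₀ : R₀, algebraMap R₀ R r₀ ∈ GLin.invariants k A R := fun r₀ => hR₀ ▸ ⟨r₀, rfl⟩
  have hS₀mem : ∀ s₀ : S₀, algebraMap S₀ S s₀ ∈ GLin.invariants k A S := fun s₀ => hS₀ ▸ ⟨s₀, rfl⟩
  have hS₀surj : ∀ s ∈ GLin.invariants k A S, ∃ s₀ : S₀, algebraMap S₀ S s₀ = s := fun s hs => by
    rw [← hS₀] at hs; exact hs
  have hcompat : ∀ s₀ : S₀, algebraMap R₀ R (algebraMap S₀ R₀ s₀) = algebraMap S R (algebraMap S₀ S s₀) := fun s₀ => by
    rw [← IsScalarTower.algebraMap_apply S₀ R₀ R, ← IsScalarTower.algebraMap_apply S₀ S R]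
  obtain ⟨e, hxe, he⟩ := exists_mul_mem_map hα h1 hφ hS₀ hR₀i hR₀ x hpow
  set q := RingHom.ker (x.comp (IsScalarTower.toAlgHom k R₀ R)) with hq
  set p := q.comap (algebraMap S₀ R₀) with hp
  set n₀ := Ideal.map (algebraMap S₀ R₀) p with hn₀
  -- modulo powers, the invariants come from below
  have hscal : ∀ (n : ℕ) (r : R₀), ∃ s : S₀, e ^ n * (r - algebraMap S₀ R₀ s) ∈ n₀ ^ n := by
    intro n
    induction n with
    | zero => exact fun r => ⟨0, by rw [pow_zero n₀, Ideal.one_eq_top]; trivial⟩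
    | succ n ih =>
      intro r
      obtain ⟨s, hs⟩ := ih r
      have hw : ∀ w ∈ n₀ ^ n, ∃ σ ∈ p ^ n, e ^ (n + 1) * algebraMap S₀ R₀ σ - e * w ∈ n₀ ^ (n + 1) := by
        intro w hw
        rw [hn₀, ← Ideal.map_pow] at hw
        induction hw using Submodule.span_induction with
        | mem w hw =>
          obtain ⟨σ, hσ, rfl⟩ := hw
          refine ⟨σ, hσ, ?_⟩
          rw [show e ^ (n + 1) * algebraMap S₀ R₀ σ - e * algebraMap S₀ R₀ σ =
            algebraMap S₀ R₀ σ * (e * (e ^ n - 1)) by rw [pow_succ]; ring, pow_succ]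
          refine Ideal.mul_mem_mul (by rw [hn₀, ← Ideal.map_pow]; exact Ideal.mem_map_of_mem _ hσ) (he _ ?_)
          rw [map_sub, map_sub, map_pow, map_pow, map_one, map_one, hxe, one_pow, sub_self]
        | zero => exact ⟨0, zero_mem _, by rw [map_zero, mul_zero, mul_zero, sub_zero]; exact zero_mem _⟩
        | add w v _ _ hw hv =>
          obtain ⟨σ, hσ, h⟩ := hw
          obtain ⟨τ, hτ, h'⟩ := hv
          refine ⟨σ + τ, add_mem hσ hτ, ?_⟩
          rw [show e ^ (n + 1) * algebraMap S₀ R₀ (σ + τ) - e * (w + v) =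
            (e ^ (n + 1) * algebraMap S₀ R₀ σ - e * w) + (e ^ (n + 1) * algebraMap S₀ R₀ τ - e * v) by
            rw [map_add]; ring]
          exact add_mem h h'
        | smul c w hw' hw =>
          obtain ⟨σ, hσ, h⟩ := hw
          let c₀ : S₀ := algebraMap k S₀ (x (algebraMap R₀ R c))
          refine ⟨c₀ * σ, Ideal.mul_mem_left _ _ hσ, ?_⟩
          have hc : x (algebraMap R₀ R (c - algebraMap S₀ R₀ c₀)) = 0 := by
            rw [map_sub, map_sub, hcompat, ← IsScalarTower.algebraMap_apply k S₀ S, ← IsScalarTower.algebraMap_apply k S R,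
              AlgHom.commutes, Algebra.algebraMap_self_apply, sub_self]
          rw [show e ^ (n + 1) * algebraMap S₀ R₀ (c₀ * σ) - e * (c • w) =
            algebraMap S₀ R₀ c₀ * (e ^ (n + 1) * algebraMap S₀ R₀ σ - e * w) -
              e * (c - algebraMap S₀ R₀ c₀) * w by rw [map_mul, smul_eq_mul]; ring]
          refine sub_mem (Ideal.mul_mem_left _ _ h) ?_
          rw [pow_succ']
          exact Ideal.mul_mem_mul (he _ hc) (by rw [hn₀, ← Ideal.map_pow]; exact hw')
      obtain ⟨σ, -, hσ⟩ := hw _ hs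
      refine ⟨s + σ, ?_⟩
      rw [show e ^ (n + 1) * (r - algebraMap S₀ R₀ (s + σ)) =
        -(e ^ (n + 1) * algebraMap S₀ R₀ σ - e * (e ^ n * (r - algebraMap S₀ R₀ s))) by
          rw [map_add, pow_succ]; ring]
      exact neg_mem hσ
  let J : Ideal (S ⊗[S₀] R₀) := Q.comap θ.toRingHom
  let B : Ideal (S ⊗[S₀] R₀) := P.map (Algebra.TensorProduct.includeLeftRingHom)
  have hBJ : B ≤ J := by
    refine Ideal.map_le_iff_le_comap.mpr fun a ha => ?_
    show θ (a ⊗ₜ[S₀] 1) ∈ Q
    rw [hθ, map_one, mul_one]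
    exact (ker_comp_eq hφ x).ge ha
  have hn₀B : Ideal.map (Algebra.TensorProduct.includeRight (R := S₀) (A := S) (B := R₀)).toRingHom n₀ ≤ B := by
    rw [Ideal.map_le_iff_le_comap, Ideal.map_le_iff_le_comap]
    intro s hs
    show (1 : S) ⊗ₜ[S₀] algebraMap S₀ R₀ s ∈ B
    rw [show (1 : S) ⊗ₜ[S₀] algebraMap S₀ R₀ s = algebraMap S₀ S s ⊗ₜ[S₀] (1 : R₀) by
      rw [Algebra.algebraMap_eq_smul_one, Algebra.algebraMap_eq_smul_one, TensorProduct.smul_tmul]]
    refine Ideal.mem_map_of_mem _ ?_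
    rw [hP, RingHom.mem_ker, orbitHom_of_invariant _ (hS₀mem s), AlgHom.comp_apply, IsScalarTower.toAlgHom_apply,
      ← hcompat]
    rw [show x (algebraMap R₀ R (algebraMap S₀ R₀ s)) = 0 from hs, map_zero]
  have hmodC : ∀ (n : ℕ) (z : S ⊗[S₀] R₀), ∃ a : S, ((1 : S) ⊗ₜ[S₀] e) ^ n * (z - a ⊗ₜ[S₀] 1) ∈ B ^ n := by
    intro n z
    induction z using TensorProduct.induction_on with
    | zero => exact ⟨0, by rw [TensorProduct.zero_tmul, sub_zero, mul_zero]; exact zero_mem _⟩
    | add u v hu hv =>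
      obtain ⟨a, ha⟩ := hu
      obtain ⟨b, hb⟩ := hv
      exact ⟨a + b, by rw [TensorProduct.add_tmul, add_sub_add_comm, mul_add]; exact add_mem ha hb⟩
    | tmul a u =>
      obtain ⟨s, hs⟩ := hscal n u
      refine ⟨a * algebraMap S₀ S s, ?_⟩
      have e1 : ((1 : S) ⊗ₜ[S₀] e) ^ n * (a ⊗ₜ[S₀] u - (a * algebraMap S₀ S s) ⊗ₜ[S₀] 1) =
          (a ⊗ₜ[S₀] 1) * ((1 : S) ⊗ₜ[S₀] (e ^ n * (u - algebraMap S₀ R₀ s))) := by
        rw [Algebra.TensorProduct.tmul_pow, one_pow,
          show (a * algebraMap S₀ S s) ⊗ₜ[S₀] (1 : R₀) = a ⊗ₜ[S₀] algebraMap S₀ R₀ s by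
            rw [mul_comm, ← Algebra.smul_def, TensorProduct.smul_tmul, ← Algebra.algebraMap_eq_smul_one],
          ← TensorProduct.tmul_sub, Algebra.TensorProduct.tmul_mul_tmul, Algebra.TensorProduct.tmul_mul_tmul,
          one_mul, one_mul, mul_one]
      rw [e1]
      refine Ideal.mul_mem_left _ _ ?_
      have h := Ideal.mem_map_of_mem (Algebra.TensorProduct.includeRight (R := S₀) (A := S) (B := R₀)).toRingHom hs
      rw [Ideal.map_pow] at h
      exact Ideal.pow_right_mono hn₀B n h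
  have hje : 1 - algebraMap R₀ R e ∈ Q := sub_one_mem_ker_of_invariant (hR₀mem e) hxe
  have hker : ∀ z, θ z = 0 → ∀ n : ℕ, z ∈ J ^ n := by
    intro z hz n
    obtain ⟨a, ha⟩ := hmodC n z
    have hE : 1 - (algebraMap R₀ R e) ^ n ∈ Q :=
      sub_one_mem_ker_of_invariant (pow_mem (hR₀mem e) n) (by rw [map_pow, hxe, one_pow])
    have h2 := Ideal.mem_map_of_mem θ.toRingHom (Ideal.pow_right_mono hBJ n ha)
    rw [Ideal.map_pow] at h2
    have h3 := Ideal.pow_right_mono Ideal.map_comap_le n h2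
    rw [AlgHom.toRingHom_eq_coe, RingHom.coe_coe, map_mul, map_pow, hθ, map_one, one_mul, map_sub, hz, hθ, map_one,
      mul_one, zero_sub, mul_neg, neg_mem_iff] at h3
    have ha' : a ⊗ₜ[S₀] (1 : R₀) ∈ B ^ n := by
      have h := Ideal.mem_map_of_mem (Algebra.TensorProduct.includeLeftRingHom : S →+* S ⊗[S₀] R₀)
        (hmodn n a (mem_pow_of_mul_mem hE h3))
      rwa [Ideal.map_pow] at h
    refine mem_pow_of_mul_mem (E := ((1 : S) ⊗ₜ[S₀] e) ^ n) ?_ (Ideal.pow_right_mono hBJ n ?_)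
    · show θ (1 - ((1 : S) ⊗ₜ[S₀] e) ^ n) ∈ Q
      rw [map_sub, map_one, map_pow, hθ, map_one, one_mul]
      exact hE
    · have := add_mem ha (Ideal.mul_mem_left _ (((1 : S) ⊗ₜ[S₀] e) ^ n) ha')
      rwa [← mul_add, sub_add_cancel] at this
  let K : Ideal (S ⊗[S₀] R₀) := RingHom.ker θ.toRingHom
  have hK : ∀ z ∈ K, ∃ c : S ⊗[S₀] R₀, x (θ c) = 1 ∧ c * z = 0 := by
    intro z hz
    obtain ⟨⟨r, hr⟩, hrz⟩ := (Ideal.mem_iInf_smul_pow_eq_bot_iff J z).mp (by
      rw [Submodule.mem_iInf]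
      intro n
      rw [show z = z • (1 : S ⊗[S₀] R₀) from (mul_one z).symm]
      exact Submodule.smul_mem_smul (hker z hz n) Submodule.mem_top)
    refine ⟨1 - r, ?_, ?_⟩
    · rw [map_sub, map_one, map_sub, map_one, show x (θ r) = 0 from ker_orbitHom_le (A := A) x hr, sub_zero]
    · rw [sub_mul, one_mul, ← smul_eq_mul, hrz, sub_self]
  choose! c hc hcz using hK
  obtain ⟨gens, hgens⟩ := IsNoetherian.noetherian K
  let Ann : Ideal (S ⊗[S₀] R₀) := (⊥ : Ideal (S ⊗[S₀] R₀)).colon (K : Set (S ⊗[S₀] R₀))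
  have hAnn : ∀ c, c ∈ Ann ↔ ∀ z ∈ K, c * z = 0 := fun c => by
    simp [Ann, Submodule.mem_colon, Submodule.mem_annihilator, smul_eq_mul]
  have hc0 : ∏ z ∈ gens, c z ∈ Ann := (hAnn _).mpr fun z hz => by
    have hz' : z ∈ Submodule.span (S ⊗[S₀] R₀) (gens : Set (S ⊗[S₀] R₀)) := hgens.symm ▸ hz
    clear hz
    induction hz' using Submodule.span_induction with
    | mem z hz =>
      rw [← Finset.prod_erase_mul _ _ (Finset.mem_coe.mp hz), mul_assoc, hcz z (hgens ▸ Submodule.subset_span hz),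
        mul_zero]
    | zero => rw [mul_zero]
    | add u v _ _ hu hv => rw [mul_add, hu, hv, add_zero]
    | smul a u _ hu => rw [smul_eq_mul, mul_left_comm, hu, mul_zero]
  have hxc : x (θ (∏ z ∈ gens, c z)) = 1 := by
    rw [map_prod, map_prod]
    exact Finset.prod_eq_one fun z hz => hc z (hgens ▸ Submodule.subset_span hz)
  -- translations on the tensor product
  let σ : (A →ₐ[k] k) → (S →ₐ[S₀] S) := fun g =>
    { (transHom (R := S) g).toRingHom with commutes' := fun s => transHom_invariant g (hS₀mem s) }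
  let σC : (A →ₐ[k] k) → (S ⊗[S₀] R₀ →ₐ[S₀] S ⊗[S₀] R₀) := fun g =>
    Algebra.TensorProduct.map (σ g) (AlgHom.id S₀ R₀)
  have hσθ : ∀ g z, θ (σC g z) = transHom g (θ z) := fun g z => by
    induction z using TensorProduct.induction_on with
    | zero => simp
    | tmul a u =>
      show θ (transHom g a ⊗ₜ[S₀] u) = _
      rw [hθ, hθ, map_mul, transHom_invariant g (hR₀mem u)]
      exact congrArg (· * _) (transHom_comp (IsScalarTower.toAlgHom k S R) hφ g a).symm
    | add u v hu hv => simp only [map_add, hu, hv]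
  have hσinv : ∀ g z, σC g (σC (g.comp (HopfAlgebra.antipodeAlgHom k A)) z) = z := fun g z => by
    induction z using TensorProduct.induction_on with
    | zero => simp
    | tmul a u =>
      show transHom g (transHom (g.comp (HopfAlgebra.antipodeAlgHom k A)) a) ⊗ₜ[S₀] u = _
      have h := transHom_antipode (g.comp (HopfAlgebra.antipodeAlgHom k A)) a
      rw [show (g.comp (HopfAlgebra.antipodeAlgHom k A)).comp (HopfAlgebra.antipodeAlgHom k A) = g from
        AlgHom.ext fun b => by simp [antipode_antipode_apply]] at h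
      rw [h]
    | add u v hu hv => simp only [map_add, hu, hv]
  have hAnnσ : ∀ g, ∀ c ∈ Ann, σC g c ∈ Ann := fun g c hc => (hAnn _).mpr fun z hz => by
    have hz' : σC (g.comp (HopfAlgebra.antipodeAlgHom k A)) z ∈ K := by
      show θ _ = 0
      rw [hσθ, show θ z = 0 from hz, map_zero]
    have h := congrArg (σC g) ((hAnn c).mp hc _ hz')
    rwa [map_mul, hσinv, map_zero] at h
  let U : Submodule S R :=
    { carrier := {b | ∃ c ∈ Ann, θ c = b}
      add_mem' := fun {b b'} => by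
        rintro ⟨c, hc, rfl⟩ ⟨c', hc', rfl⟩
        exact ⟨c + c', add_mem hc hc', map_add θ c c'⟩
      zero_mem' := ⟨0, zero_mem _, map_zero θ⟩
      smul_mem' := fun a b => by
        rintro ⟨c, hc, rfl⟩
        exact ⟨(a ⊗ₜ[S₀] 1) * c, Ideal.mul_mem_left _ _ hc, by
          rw [map_mul, hθ, map_one, mul_one, Algebra.smul_def]⟩ }
  have hsurj : ∀ r : R, ∃ a : S, r - algebraMap S R a ∈ Q := fun r => by
    obtain ⟨a, ha⟩ := hpow 1 r
    rw [pow_one] at ha
    exact ⟨a, ha⟩
  obtain ⟨_, ⟨c₁, hc₁, rfl⟩, hxv⟩ := exists_mem_apply_rey hα h1 hφ x hy hsurj U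
    (fun g b => by rintro ⟨c, hc, rfl⟩; exact ⟨_, hAnnσ g c hc, hσθ g c⟩)
    (r := θ (∏ z ∈ gens, c z)) ⟨_, hc0, rfl⟩ (by rw [hxc]; exact one_ne_zero)
  obtain ⟨T, rfl⟩ := TensorProduct.exists_finset (R := S₀) c₁
  -- averaging the coefficients
  let U' : Submodule k ({w // w ∈ T} → S) :=
    { carrier := {v | ∑ w : {w // w ∈ T}, v w ⊗ₜ[S₀] w.1.2 ∈ Ann}
      add_mem' := fun {v v'} hv hv' => by
        show ∑ w : {w // w ∈ T}, (v w + v' w) ⊗ₜ[S₀] w.1.2 ∈ Ann
        simp only [TensorProduct.add_tmul, Finset.sum_add_distrib]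
        exact add_mem hv hv'
      zero_mem' := by
        show ∑ w : {w // w ∈ T}, (0 : S) ⊗ₜ[S₀] w.1.2 ∈ Ann
        simp only [TensorProduct.zero_tmul, Finset.sum_const_zero]
        exact zero_mem _
      smul_mem' := fun a v hv => by
        show ∑ w : {w // w ∈ T}, (a • v w) ⊗ₜ[S₀] w.1.2 ∈ Ann
        have h2 : ∑ w : {w // w ∈ T}, (a • v w) ⊗ₜ[S₀] w.1.2 =
            (algebraMap k S a ⊗ₜ[S₀] (1 : R₀)) * ∑ w : {w // w ∈ T}, v w ⊗ₜ[S₀] w.1.2 := by
          rw [Finset.mul_sum]
          exact Finset.sum_congr rfl fun w _ => by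
            rw [Algebra.TensorProduct.tmul_mul_tmul, one_mul, Algebra.smul_def]
        rw [h2]
        exact Ideal.mul_mem_left _ _ hv }
  have hgU : ∀ g : A →ₐ[k] k, (fun w : {w // w ∈ T} => transHom g w.1.1) ∈ U' := fun g => by
    have h := hAnnσ g _ hc₁
    show ∑ w : {w // w ∈ T}, transHom g w.1.1 ⊗ₜ[S₀] w.1.2 ∈ Ann
    rw [map_sum] at h
    exact (Finset.sum_coe_sort T (fun w => transHom g w.1 ⊗ₜ[S₀] w.2)).symm ▸ h
  have hrey : (fun w : {w // w ∈ T} => rey α w.1.1) ∈ U' := by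
    by_contra hne
    obtain ⟨ψ, hψne, hψ⟩ := Submodule.exists_dual_map_eq_bot_of_notMem hne inferInstance
    have hψU : ∀ v ∈ U', ψ v = 0 := fun v hv =>
      (Submodule.mem_bot k).mp (hψ ▸ Submodule.mem_map_of_mem hv)
    let w₀ : A := ∑ w, TensorProduct.lid k A ((ψ ∘ₗ LinearMap.single k (fun _ : {w // w ∈ T} => S) w).rTensor A
      (HopfRep.Comod.coact (k := k) (A := A) w.1.1))
    have hβ : ∀ β : A →ₗ[k] k, β w₀ = ψ (fun w => actF β w.1.1) := by
      intro β
      have e1 : ∀ w : {w // w ∈ T}, β (TensorProduct.lid k A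
          ((ψ ∘ₗ LinearMap.single k (fun _ : {w // w ∈ T} => S) w).rTensor A
            (HopfRep.Comod.coact (k := k) (A := A) w.1.1))) = ψ (Pi.single w (actF β w.1.1)) := by
        intro w
        rw [actF_apply]
        induction HopfRep.Comod.coact (k := k) (A := A) w.1.1 using TensorProduct.induction_on with
        | zero => simp
        | tmul a b =>
          simp only [LinearMap.rTensor_tmul, TensorProduct.lid_tmul, map_smul, slice_tmul, LinearMap.comp_apply,
            LinearMap.single_apply, smul_eq_mul, Pi.single_smul]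
          rw [mul_comm]
        | add a b ha hb => simp only [map_add, ha, hb, Pi.single_add]
      rw [map_sum]
      simp only [e1, ← map_sum]
      congr 1
      exact Finset.univ_sum_single fun w : {w // w ∈ T} => actF β w.1.1
    have hw₀ : w₀ = 0 := by
      by_contra h
      obtain ⟨g, hg⟩ := exists_point_ne_zero (k := k) (fun hn : IsNilpotent w₀ => h hn.eq_zero)
      refine hg ?_
      show g.toLinearMap w₀ = 0
      rw [hβ]
      simp only [← transHom_apply]
      exact hψU _ (hgU g)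
    refine hψne ?_
    have := hβ (α ∘ₗ HopfAlgebra.antipode k)
    rw [hw₀, map_zero] at this
    exact this.symm
  choose s₀ hs₀ using fun w : {w // w ∈ T} => hS₀surj (rey α w.1.1) (rey_mem_fixedPts hα _)
  refine ⟨∑ w : {w // w ∈ T}, algebraMap S₀ R₀ (s₀ w) * w.1.2, ?_, fun z hz => ?_⟩
  · rw [← hxv]
    congr 1
    rw [map_sum, map_sum, map_sum, ← Finset.sum_coe_sort T]
    refine Finset.sum_congr rfl fun w _ => ?_
    rw [map_mul, hcompat, hs₀, hθ, rey_mul_invariant _ (hR₀mem _)]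
    exact congrArg (· * _) (map_rey hφ w.1.1)
  · have h2 : (1 : S) ⊗ₜ[S₀] (∑ w : {w // w ∈ T}, algebraMap S₀ R₀ (s₀ w) * w.1.2) =
        ∑ w : {w // w ∈ T}, rey α w.1.1 ⊗ₜ[S₀] w.1.2 := by
      rw [TensorProduct.tmul_sum]
      refine Finset.sum_congr rfl fun w _ => ?_
      rw [← hs₀, ← Algebra.smul_def, ← TensorProduct.smul_tmul, ← Algebra.algebraMap_eq_smul_one]
    rw [h2]
    exact (hAnn _).mp hrey z hz

set_option maxHeartbeats 1000000 in
/-- A function carrying everything into the image of the comparison map near the orbit. -/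
theorem exists_mul_pow_mem_range (hα : IsIntegral k α) (h1 : α 1 = 1)
    (hφ : Hoch.IsComodHom A (IsScalarTower.toAlgHom k S R).toLinearMap)
    (hR₀ : (IsScalarTower.toAlgHom k R₀ R).range = GLin.invariants k A R)
    (x : R →ₐ[k] k) (hy : GLin.IsClosedOrbit k A (x.comp (IsScalarTower.toAlgHom k S R)))
    (hsurj : ∀ r : R, ∃ a : S, r - algebraMap S R a ∈ RingHom.ker (orbitHom k A x))
    (hQ2 : RingHom.ker (orbitHom k A x) ≤ Ideal.map (algebraMap S R) ((RingHom.ker (orbitHom k A x)).comap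
      (algebraMap S R)) ⊔ RingHom.ker (orbitHom k A x) * RingHom.ker (orbitHom k A x))
    (m : Ideal R) [m.IsPrime] (hm : m = RingHom.ker x) [Algebra.WeaklyQuasiFiniteAt S m] :
    ∃ f : R₀, x (algebraMap R₀ R f) = 1 ∧ ∀ r : R, ∃ (n : ℕ) (z : S ⊗[S₀] R₀),
      Algebra.TensorProduct.productMap (IsScalarTower.toAlgHom S₀ S R) (IsScalarTower.toAlgHom S₀ R₀ R) z =
        algebraMap R₀ R f ^ n * r := by
  classical
  haveI : Algebra.FiniteType S R := Algebra.FiniteType.of_restrictScalars_finiteType k S R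
  set Q := RingHom.ker (orbitHom k A x) with hQ
  let θ := Algebra.TensorProduct.productMap (IsScalarTower.toAlgHom S₀ S R) (IsScalarTower.toAlgHom S₀ R₀ R)
  have hθ : ∀ a u, θ (a ⊗ₜ[S₀] u) = algebraMap S R a * algebraMap R₀ R u := fun a u => by
    simp [θ]
  have hR₀mem : ∀ r₀ : R₀, algebraMap R₀ R r₀ ∈ GLin.invariants k A R := fun r₀ => hR₀ ▸ ⟨r₀, rfl⟩
  have hR₀surj : ∀ r ∈ GLin.invariants k A R, ∃ r₀ : R₀, algebraMap R₀ R r₀ = r := fun r hr => by
    rw [← hR₀] at hr; exact hr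
  have hTφ : ∀ g (a : S), transHom g (algebraMap S R a) = algebraMap S R (transHom g a) := fun g a =>
    transHom_comp (IsScalarTower.toAlgHom k S R) hφ g a
  have hanti : ∀ (g : A →ₐ[k] k) (z : R), transHom g (transHom (g.comp (HopfAlgebra.antipodeAlgHom k A)) z) = z :=
    fun g z => by
      have h := transHom_antipode (g.comp (HopfAlgebra.antipodeAlgHom k A)) z
      rwa [show (g.comp (HopfAlgebra.antipodeAlgHom k A)).comp (HopfAlgebra.antipodeAlgHom k A) = g from
        AlgHom.ext fun b => by simp [antipode_antipode_apply]] at h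
  let E : Subalgebra S R := Algebra.adjoin S (Set.range (algebraMap R₀ R))
  have hEinv : ∀ f ∈ GLin.invariants k A R, f ∈ E := fun f hf => by
    obtain ⟨f₀, rfl⟩ := hR₀surj f hf
    exact Algebra.subset_adjoin ⟨f₀, rfl⟩
  have hEθ : ∀ z ∈ E, ∃ c, θ c = z := by
    intro z hz
    induction hz using Algebra.adjoin_induction with
    | mem z hz =>
      obtain ⟨u, rfl⟩ := hz
      exact ⟨1 ⊗ₜ u, by rw [hθ, map_one, one_mul]⟩
    | algebraMap a => exact ⟨a ⊗ₜ 1, by rw [hθ, map_one, mul_one]⟩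
    | add u v _ _ hu hv =>
      obtain ⟨c, rfl⟩ := hu
      obtain ⟨d, rfl⟩ := hv
      exact ⟨c + d, map_add θ c d⟩
    | mul u v _ _ hu hv =>
      obtain ⟨c, rfl⟩ := hu
      obtain ⟨d, rfl⟩ := hv
      exact ⟨c * d, map_mul θ c d⟩
  -- a stable finitely generated integral extension containing a neighbourhood of the orbit
  obtain ⟨S', hS', r₁, hr₁, hbij⟩ := Algebra.QuasiFiniteAt.exists_fg_and_exists_notMem_and_awayMap_bijective (R := S) m
  obtain ⟨G, hG⟩ := hS'
  obtain ⟨W₀, hW₀f, hW₀s, hW₀⟩ := exists_finite_subcomod_le (k := k) (C := A) (V := R) G.finite_toSet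
  haveI := hW₀f
  let Ui : Submodule k R := Subalgebra.toSubmodule ((integralClosure S R).restrictScalars k)
  have hUi : HopfRep.IsSubcomod (k := k) (A := A) Ui := isSubcomod_of_forall_act fun g b hb => by
    rw [transHom_eq_act]
    exact IsIntegral.map_of_comp_eq (transHom (R := S) g).toRingHom (transHom (R := R) g).toRingHom
      (RingHom.ext fun s => (hTφ g s).symm) (hb : _root_.IsIntegral S b)
  let W : Submodule k R := W₀ ⊓ Ui
  have hW : HopfRep.IsSubcomod (k := k) (A := A) W := isSubcomod_inf hW₀ hUi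
  haveI : Module.Finite k W := Submodule.finiteDimensional_inf_left W₀ Ui
  obtain ⟨t, ht⟩ := (Module.Finite.iff_fg.mp inferInstance : W.FG)
  have htW : ∀ z ∈ t, z ∈ W := fun z hz => ht ▸ Submodule.subset_span hz
  let R' : Subalgebra E R := Algebra.adjoin E (t : Set R)
  have hR'fg : (Subalgebra.toSubmodule R').FG :=
    fg_adjoin_of_finite t.finite_toSet fun z hz => ((htW z hz).2 : _root_.IsIntegral S z).tower_top
  have hEstable : ∀ g : A →ₐ[k] k, ∀ z ∈ E, transHom g z ∈ E := by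
    intro g z hz
    induction hz using Algebra.adjoin_induction with
    | mem z hz =>
      obtain ⟨u, rfl⟩ := hz
      rw [transHom_invariant g (hR₀mem u)]
      exact Algebra.subset_adjoin ⟨u, rfl⟩
    | algebraMap a => rw [hTφ]; exact E.algebraMap_mem _
    | add u v _ _ hu hv => rw [map_add]; exact add_mem hu hv
    | mul u v _ _ hu hv => rw [map_mul]; exact mul_mem hu hv
  have hER' : ∀ z ∈ E, z ∈ R' := fun z hz => R'.algebraMap_mem ⟨z, hz⟩
  have hWR' : ∀ z ∈ W, z ∈ R' := fun z hz => by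
    rw [← ht] at hz
    induction hz using Submodule.span_induction with
    | mem z hz => exact Algebra.subset_adjoin hz
    | zero => exact zero_mem _
    | add u v _ _ hu hv => exact add_mem hu hv
    | smul a u _ hu =>
      rw [Algebra.smul_def, IsScalarTower.algebraMap_apply k S R]
      exact mul_mem (hER' _ (E.algebraMap_mem _)) hu
  have hR'stable : ∀ g : A →ₐ[k] k, ∀ z ∈ R', transHom g z ∈ R' := by
    intro g z hz
    induction hz using Algebra.adjoin_induction with
    | mem z hz =>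
      apply hWR'
      rw [transHom_apply]
      exact subcomod_actF_mem hW _ (htW z hz)
    | algebraMap a => exact hER' _ (hEstable g _ a.2)
    | add u v _ _ hu hv => rw [map_add]; exact add_mem hu hv
    | mul u v _ _ hu hv => rw [map_mul]; exact mul_mem hu hv
  have hS'R' : ∀ z ∈ S', z ∈ R' := fun z hz => by
    have hz' : z ∈ Submodule.span S (G : Set R) := hG.symm ▸ hz
    clear hz
    induction hz' using Submodule.span_induction with
    | mem z hz =>
      refine hWR' z ⟨hW₀s hz, IsIntegral.of_mem_of_fg S' ⟨G, hG⟩ z ?_⟩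
      exact (hG ▸ Submodule.subset_span hz : z ∈ Subalgebra.toSubmodule S')
    | zero => exact zero_mem _
    | add u v _ _ hu hv => exact add_mem hu hv
    | smul a u _ hu =>
      rw [Algebra.smul_def]
      exact mul_mem (hER' _ (E.algebraMap_mem a)) hu
  have hloc : ∀ z : R, ∃ n : ℕ, r₁.1 ^ n * z ∈ R' := by
    intro z
    obtain ⟨n, b, hb⟩ := exists_pow_mul_eq_of_awayMap _ _ hbij.2 z
    exact ⟨n, (show r₁.1 ^ n * z = b.1 from hb) ▸ hS'R' _ b.2⟩
  let U₁ : Submodule S R :=
    { carrier := {b | b ∈ R' ∧ ∀ z : R, ∃ n : ℕ, b ^ n * z ∈ R'}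
      add_mem' := fun {b c} hb hc => ⟨add_mem hb.1 hc.1, fun z => by
        obtain ⟨n, hn⟩ := hb.2 z
        obtain ⟨m, hm⟩ := hc.2 z
        refine ⟨n + m, ?_⟩
        rw [add_pow, Finset.sum_mul]
        refine sum_mem fun i _ => ?_
        rcases le_or_gt n i with hi | hi
        · rw [show b ^ i * c ^ (n + m - i) * ((n + m).choose i : R) * z =
            b ^ (i - n) * c ^ (n + m - i) * ((n + m).choose i : R) * (b ^ n * z) by
            conv_lhs => rw [show i = i - n + n from by omega, pow_add, show i - n + n = i from by omega]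
            ring]
          exact mul_mem (mul_mem (mul_mem (pow_mem hb.1 _) (pow_mem hc.1 _)) (natCast_mem R' _)) hn
        · rw [show b ^ i * c ^ (n + m - i) * ((n + m).choose i : R) * z =
            b ^ i * c ^ (n + m - i - m) * ((n + m).choose i : R) * (c ^ m * z) by
            conv_lhs => rw [show n + m - i = n + m - i - m + m from by omega, pow_add]
            ring]
          exact mul_mem (mul_mem (mul_mem (pow_mem hb.1 _) (pow_mem hc.1 _)) (natCast_mem R' _)) hm⟩
      zero_mem' := ⟨zero_mem _, fun z => ⟨1, by rw [pow_one, zero_mul]; exact zero_mem _⟩⟩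
      smul_mem' := fun a b hb => by
        refine ⟨by rw [Algebra.smul_def]; exact mul_mem (hER' _ (E.algebraMap_mem a)) hb.1, fun z => ?_⟩
        obtain ⟨n, hn⟩ := hb.2 z
        refine ⟨n, ?_⟩
        rw [Algebra.smul_def, mul_pow, mul_assoc]
        exact mul_mem (pow_mem (hER' _ (E.algebraMap_mem a)) n) hn }
  obtain ⟨u, hu, huinv, hxu⟩ := exists_invariant_mem hα h1 hφ x hy hsurj U₁ (fun g b hb => ⟨hR'stable g b hb.1, fun z => by
      obtain ⟨n, hn⟩ := hb.2 (transHom (g.comp (HopfAlgebra.antipodeAlgHom k A)) z)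
      refine ⟨n, ?_⟩
      have h := hR'stable g _ hn
      rwa [map_mul, map_pow, hanti] at h⟩)
    (r := r₁.1) ⟨hS'R' _ r₁.2, hloc⟩ (fun h => hr₁ (hm ▸ h))
  obtain ⟨e, heinv, hxe, he⟩ := exists_invariant_mul_ker_le hα h1 hφ x hy hsurj hQ2
  let 𝔞 : Ideal E := Q.comap E.val.toRingHom
  let M : Submodule E R := Subalgebra.toSubmodule R'
  have hPR : ∀ w ∈ Ideal.map (algebraMap S R) (Q.comap (algebraMap S R)), ∀ c : R,
      ∃ n : ℕ, u ^ n * (c * w) ∈ 𝔞 • M := by
    intro w hw
    induction hw using Submodule.span_induction with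
    | mem w hw =>
      obtain ⟨p, hp, rfl⟩ := hw
      intro c
      obtain ⟨n, hn⟩ := hu.2 c
      refine ⟨n, ?_⟩
      rw [← mul_assoc, mul_comm, show algebraMap S R p * (u ^ n * c) =
        (⟨algebraMap S R p, E.algebraMap_mem p⟩ : E) • (u ^ n * c) from rfl]
      exact Submodule.smul_mem_smul (show algebraMap S R p ∈ Q from hp) hn
    | zero => exact fun c => ⟨0, by rw [mul_zero, mul_zero]; exact zero_mem _⟩
    | add w v _ _ hw hv =>
      intro c
      obtain ⟨n, hn⟩ := hw c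
      obtain ⟨n', hn'⟩ := hv c
      refine ⟨n + n', ?_⟩
      rw [show u ^ (n + n') * (c * (w + v)) = (⟨u ^ n', pow_mem (hEinv u huinv) n'⟩ : E) • (u ^ n * (c * w)) +
          (⟨u ^ n, pow_mem (hEinv u huinv) n⟩ : E) • (u ^ n' * (c * v)) by
        show _ = u ^ n' * (u ^ n * (c * w)) + u ^ n * (u ^ n' * (c * v))
        rw [pow_add]; ring]
      exact add_mem (Submodule.smul_mem _ _ hn) (Submodule.smul_mem _ _ hn')
    | smul a w _ hw =>
      intro c
      rw [smul_eq_mul, ← mul_assoc c]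
      exact hw _
  let Es : Submodule E R := LinearMap.range (Algebra.linearMap E R)
  have hEs : ∀ z ∈ E, z ∈ Es := fun z hz => ⟨⟨z, hz⟩, rfl⟩
  have hgen : ∀ z ∈ M, ∃ n : ℕ, u ^ n * (e * z) ∈ Es ⊔ 𝔞 • M := by
    intro z _
    obtain ⟨a, ha⟩ := hsurj z
    obtain ⟨n, hn⟩ := hPR _ (he _ ha) 1
    rw [one_mul] at hn
    refine ⟨n, ?_⟩
    rw [show u ^ n * (e * z) = u ^ n * (e * algebraMap S R a) + u ^ n * (e * (z - algebraMap S R a)) by ring]
    exact Submodule.add_mem_sup (hEs _ (mul_mem (pow_mem (hEinv u huinv) n)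
      (mul_mem (hEinv e heinv) (E.algebraMap_mem a)))) hn
  obtain ⟨gens, hgens⟩ := hR'fg
  have hgM : ∀ z ∈ gens, z ∈ M := fun z hz => by
    show z ∈ Subalgebra.toSubmodule R'
    rw [← hgens]; exact Submodule.subset_span hz
  choose! nz hnz using fun z (hz : z ∈ gens) => hgen z (hgM z hz)
  set N := gens.sup nz
  let ε : E := ⟨u ^ N * e, mul_mem (pow_mem (hEinv u huinv) N) (hEinv e heinv)⟩
  have hε : 1 - ε ∈ 𝔞 := by
    show 1 - u ^ N * e ∈ Q
    exact sub_one_mem_ker_of_invariant (mul_mem (pow_mem huinv N) heinv)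
      (by rw [map_mul, map_pow, hxu, hxe, one_pow, one_mul])
  have hle : M ≤ Es ⊔ 𝔞 • M := by
    rw [show M = Submodule.span E (gens : Set R) from hgens.symm, Submodule.span_le]
    intro z hz
    show z ∈ Es ⊔ 𝔞 • Submodule.span E (gens : Set R)
    rw [show z = (1 - ε) • z + ε • z by rw [sub_smul, one_smul, sub_add_cancel]]
    refine add_mem (Submodule.mem_sup_right (Submodule.smul_mem_smul hε (Submodule.subset_span hz))) ?_
    have h := hnz z hz
    rw [show M = Submodule.span E (gens : Set R) from hgens.symm] at h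
    rw [show ε • z = (⟨u ^ (N - nz z), pow_mem (hEinv u huinv) _⟩ : E) • (u ^ nz z * (e * z)) by
      show u ^ N * e * z = u ^ (N - nz z) * (u ^ nz z * (e * z))
      rw [← mul_assoc (u ^ (N - nz z)), ← pow_add, Nat.sub_add_cancel (Finset.le_sup (f := nz) hz), mul_assoc]]
    exact Submodule.smul_mem _ _ h
  obtain ⟨c, hc, hcM⟩ := Submodule.exists_sub_one_mem_and_smul_eq_zero_of_fg_of_le_smul 𝔞 (M.map Es.mkQ)
    (Submodule.FG.map _ ⟨gens, hgens⟩) (by
      have h := Submodule.map_mono (f := Es.mkQ) hle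
      rwa [Submodule.map_sup, Submodule.mkQ_map_self, bot_sup_eq, Submodule.map_smul''] at h)
  let U₂ : Submodule S R :=
    { carrier := {b | b ∈ E ∧ ∀ z ∈ R', b * z ∈ E}
      add_mem' := fun {b b'} hb hb' => ⟨add_mem hb.1 hb'.1, fun z hz => by
        rw [add_mul]; exact add_mem (hb.2 z hz) (hb'.2 z hz)⟩
      zero_mem' := ⟨zero_mem _, fun z _ => by rw [zero_mul]; exact zero_mem _⟩
      smul_mem' := fun a b hb => ⟨E.smul_mem hb.1 a, fun z hz => by
        rw [smul_mul_assoc]; exact E.smul_mem (hb.2 z hz) a⟩ }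
  obtain ⟨f, hf, hfinv, hxf⟩ := exists_invariant_mem hα h1 hφ x hy hsurj U₂
    (fun g b hb => ⟨hEstable g b hb.1, fun z hz => by
      have h := hEstable g _ (hb.2 _ (hR'stable (g.comp (HopfAlgebra.antipodeAlgHom k A)) z hz))
      rwa [map_mul, hanti] at h⟩)
    (r := c.1) ⟨c.2, fun z hz => by
      have h := hcM _ (Submodule.mem_map_of_mem (show z ∈ M from hz))
      rw [← map_smul, Submodule.mkQ_apply, Submodule.Quotient.mk_eq_zero] at h
      obtain ⟨w, hw⟩ := h
      exact (show c.1 * z = w.1 from hw.symm) ▸ w.2⟩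
    (by
      have h : x (c.1 - 1) = 0 := ker_orbitHom_le (A := A) x hc
      rw [map_sub, map_one, sub_eq_zero] at h
      rw [h]; exact one_ne_zero)
  obtain ⟨f₀, hf₀⟩ := hR₀surj (f * u) (mul_mem hfinv huinv)
  refine ⟨f₀, by rw [hf₀, map_mul, hxf, hxu, mul_one], fun r => ?_⟩
  obtain ⟨n, hn⟩ := hu.2 r
  have hmem : algebraMap R₀ R f₀ ^ (n + 1) * r ∈ E := by
    rw [hf₀, show (f * u) ^ (n + 1) * r = (f ^ n * u) * (f * (u ^ n * r)) by rw [mul_pow, pow_succ, pow_succ]; ring]
    exact mul_mem (mul_mem (pow_mem hf.1 n) (hEinv u huinv)) (hf.2 _ hn)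
  obtain ⟨z, hz⟩ := hEθ _ hmem
  exact ⟨n + 1, z, hz⟩

end

end Groth.Agent.GLinEt
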