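import Mathlib.RingTheory.Flat.EquationalCriterion
import Mathlib.RingTheory.Kaehler.TensorProduct
import Mathlib.RingTheory.RingHom.Etale
import Mathlib.RingTheory.Smooth.Fiber
import Mathlib.RingTheory.Spectrum.Prime.Chevalley
import Mathlib.RingTheory.Ideal.GoingDown

/-!
# Descent of étaleness along a split extension, and lifting of primes through a base change
-/

universe u

open TensorProduct

namespace Groth.Agent.GLinEt

variable {S₀ S L : Type u} [CommRing S₀] [CommRing S] [Algebra S₀ S] [CommRing L] [Algebra S₀ L]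

theorem flat_of_baseChange_of_retraction (ρ : S →ₗ[S₀] S₀) (hρ : ρ 1 = 1) [Module.Flat S (S ⊗[S₀] L)] :
    Module.Flat S₀ L := by
  rw [Module.Flat.iff_lTensor_injective']
  intro I
  rw [injective_iff_map_eq_zero]
  intro z hz
  let f : (S ⊗[S₀] I) →ₗ[S] (S ⊗[S₀] S₀) := AlgebraTensorModule.lTensor S S I.subtype
  -- move to the base change
  let ι : ∀ (M : Type u) [AddCommGroup M] [Module S₀ M], L ⊗[S₀] M →ₗ[S₀] (S ⊗[S₀] L) ⊗[S] (S ⊗[S₀] M) :=
    fun M _ _ => TensorProduct.lift
      { toFun := fun l =>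
          ((TensorProduct.mk S (S ⊗[S₀] L) (S ⊗[S₀] M) ((1 : S) ⊗ₜ[S₀] l)).restrictScalars S₀).comp
            (TensorProduct.mk S₀ S M 1)
        map_add' := fun l l' => by ext m; simp [tmul_add, add_tmul]
        map_smul' := fun c l => by ext m; simp [smul_tmul'] }
  have hι : ∀ (M : Type u) [AddCommGroup M] [Module S₀ M] (l : L) (m : M),
      ι M (l ⊗ₜ[S₀] m) = ((1 : S) ⊗ₜ[S₀] l) ⊗ₜ[S] ((1 : S) ⊗ₜ[S₀] m) := fun M _ _ l m => rfl
  have hnat : ∀ w : L ⊗[S₀] I, f.lTensor (S ⊗[S₀] L) (ι I w) = ι S₀ (I.subtype.lTensor L w) := fun w => by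
    induction w using TensorProduct.induction_on with
    | zero => simp
    | tmul l m => simp [hι, f]
    | add a b ha hb => simp only [map_add, ha, hb]
  have hker : ι I z ∈ LinearMap.range ((LinearMap.ker f).subtype.lTensor (S ⊗[S₀] L)) := by
    have hx0 : Function.Exact (LinearMap.ker f).subtype f := LinearMap.exact_subtype_ker_map f
    have hex := @Module.Flat.lTensor_exact S (S ⊗[S₀] L) _ _ _ _ (LinearMap.ker f) (S ⊗[S₀] I) (S ⊗[S₀] S₀) _ _ _ _ _ _ (LinearMap.ker f).subtype f hx0
    exact (hex _).mp (by rw [hnat, hz, map_zero])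
  -- the retraction
  let π : ∀ (M : Type u) [AddCommGroup M] [Module S₀ M], S ⊗[S₀] M →ₗ[S₀] M :=
    fun M _ _ => (TensorProduct.lid S₀ M).toLinearMap ∘ₗ ρ.rTensor M
  have hπk : ∀ w : S ⊗[S₀] I, f w = 0 → π I w = 0 := fun w hw => by
    apply Subtype.val_injective
    have h : ∀ v : S ⊗[S₀] I, ((π I v : I) : S₀) = π S₀ (f v) := fun v => by
      induction v using TensorProduct.induction_on with
      | zero => simp
      | tmul a m => simp [π, f]
      | add a b ha hb => simp only [map_add, Submodule.coe_add, ha, hb]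
    rw [h, hw, map_zero, ZeroMemClass.coe_zero]
  -- read off
  let τ : ∀ (M : Type u) [AddCommGroup M] [Module S₀ M],
      (S ⊗[S₀] L) ⊗[S] (S ⊗[S₀] M) →ₗ[S₀] L ⊗[S₀] M := fun M _ _ =>
    (TensorProduct.comm S₀ M L).toLinearMap ∘ₗ π (M ⊗[S₀] L) ∘ₗ
      ((TensorProduct.assoc S₀ S M L).toLinearMap ∘ₗ
        ((AlgebraTensorModule.cancelBaseChange S₀ S S (S ⊗[S₀] M) L).restrictScalars S₀).toLinearMap ∘ₗ
        ((TensorProduct.comm S (S ⊗[S₀] L) (S ⊗[S₀] M)).restrictScalars S₀).toLinearMap)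
  have hτ : ∀ (M : Type u) [AddCommGroup M] [Module S₀ M] (w : S ⊗[S₀] M) (l : L),
      τ M (((1 : S) ⊗ₜ[S₀] l) ⊗ₜ[S] w) = l ⊗ₜ[S₀] π M w := fun M _ _ w l => by
    induction w using TensorProduct.induction_on with
    | zero => simp
    | tmul a m => simp [τ, π, tmul_smul]
    | add a b ha hb => simp only [tmul_add, map_add, ha, hb]
  have hτι : ∀ w : L ⊗[S₀] I, τ I (ι I w) = w := fun w => by
    induction w using TensorProduct.induction_on with
    | zero => simp
    | tmul l m => rw [hι, hτ]; simp [π, hρ]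
    | add a b ha hb => simp only [map_add, ha, hb]
  rw [← hτι z]
  obtain ⟨w, hw⟩ := hker
  rw [← hw]
  clear hw hnat hz
  induction w using TensorProduct.induction_on with
  | zero => simp
  | tmul c v =>
    rw [LinearMap.lTensor_tmul]
    clear hτι
    induction c using TensorProduct.induction_on with
    | zero => simp
    | tmul a l =>
      rw [Submodule.subtype_apply, show a ⊗ₜ[S₀] l = a • ((1 : S) ⊗ₜ[S₀] l) by rw [smul_tmul', smul_eq_mul, mul_one], smul_tmul, hτ,
        hπk _ ((LinearMap.ker f).smul_mem a v.2), tmul_zero]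
    | add a b ha hb => simp only [add_tmul, map_add, ha, hb, add_zero]
  | add a b ha hb => simp only [map_add, ha, hb, add_zero]

theorem formallyUnramified_of_baseChange_of_retraction (ρ : S →ₗ[S₀] S₀) (hρ : ρ 1 = 1)
    [Algebra.FormallyUnramified S (S ⊗[S₀] L)] : Algebra.FormallyUnramified S₀ L := by
  letI : Algebra L (S ⊗[S₀] L) := Algebra.TensorProduct.rightAlgebra
  refine ⟨⟨fun ω ω' => ?_⟩⟩
  suffices h : ∀ ω : Ω[L⁄S₀], ω = 0 by rw [h ω, h ω']
  intro ω
  haveI : Subsingleton ((S ⊗[S₀] L) ⊗[L] Ω[L⁄S₀]) :=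
    (KaehlerDifferential.tensorKaehlerEquiv S₀ S L (S ⊗[S₀] L)).toEquiv.subsingleton
  let π : S ⊗[S₀] L →ₗ[L] L :=
    { ((TensorProduct.lid S₀ L).toLinearMap ∘ₗ ρ.rTensor L) with
      map_smul' := fun c v => by
        show TensorProduct.lid S₀ L (ρ.rTensor L (c • v)) = c • TensorProduct.lid S₀ L (ρ.rTensor L v)
        rw [Algebra.smul_def, smul_eq_mul, RingHom.algebraMap_toAlgebra]
        induction v using TensorProduct.induction_on with
        | zero => simp
        | tmul a b => simp [mul_left_comm]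
        | add a b ha hb => simp only [mul_add, map_add, ha, hb] }
  have h1 : π ((1 : S) ⊗ₜ[S₀] (1 : L)) = 1 := by
    show TensorProduct.lid S₀ L (ρ.rTensor L ((1 : S) ⊗ₜ[S₀] (1 : L))) = 1
    simp [hρ]
  have h := congrArg (fun t => TensorProduct.lid L Ω[L⁄S₀] (π.rTensor Ω[L⁄S₀] t))
    (Subsingleton.elim ((1 : S ⊗[S₀] L) ⊗ₜ[L] ω) 0)
  simp only [LinearMap.rTensor_tmul, TensorProduct.lid_tmul, map_zero] at h
  rwa [Algebra.TensorProduct.one_def, h1, one_smul] at h

theorem etale_of_baseChange_of_retraction [Algebra.FinitePresentation S₀ L] (ρ : S →ₗ[S₀] S₀) (hρ : ρ 1 = 1)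
    [Algebra.Etale S (S ⊗[S₀] L)] : Algebra.Etale S₀ L := by
  haveI := flat_of_baseChange_of_retraction (L := L) ρ hρ
  haveI := formallyUnramified_of_baseChange_of_retraction (L := L) ρ hρ
  exact Algebra.Etale.of_formallyUnramified_of_flat

/-- A prime of the base with image in the image lifts to the base change. -/
theorem exists_prime_comap_includeLeft (P : Ideal S) [P.IsPrime] (q : Ideal L) [q.IsPrime]
    (h : q.comap (algebraMap S₀ L) = P.comap (algebraMap S₀ S)) :
    ∃ M : Ideal (S ⊗[S₀] L), M.IsPrime ∧ M.comap (Algebra.TensorProduct.includeLeftRingHom) = P := by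
  let P₀ := P.comap (algebraMap S₀ S)
  letI : Algebra P₀.ResidueField P.ResidueField := (Ideal.ResidueField.map P₀ P (algebraMap S₀ S) rfl).toAlgebra
  letI : Algebra P₀.ResidueField q.ResidueField :=
    (Ideal.ResidueField.map P₀ q (algebraMap S₀ L) h.symm).toAlgebra
  haveI : IsScalarTower S₀ P₀.ResidueField P.ResidueField := IsScalarTower.of_algebraMap_eq fun s => by
    rw [RingHom.algebraMap_toAlgebra, Ideal.ResidueField.map_algebraMap, ← IsScalarTower.algebraMap_apply]
  haveI : IsScalarTower S₀ P₀.ResidueField q.ResidueField := IsScalarTower.of_algebraMap_eq fun s => by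
    rw [RingHom.algebraMap_toAlgebra, Ideal.ResidueField.map_algebraMap, ← IsScalarTower.algebraMap_apply]
  haveI : Nontrivial (P.ResidueField ⊗[P₀.ResidueField] q.ResidueField) :=
    (Algebra.TensorProduct.includeLeft_injective (R := P₀.ResidueField) (S := P₀.ResidueField)
      (A := P.ResidueField) (B := q.ResidueField) (algebraMap P₀.ResidueField q.ResidueField).injective).nontrivial
  obtain ⟨M₁, hM₁⟩ := Ideal.exists_maximal (P.ResidueField ⊗[P₀.ResidueField] q.ResidueField)
  let g : S ⊗[S₀] L →ₐ[S₀] P.ResidueField ⊗[P₀.ResidueField] q.ResidueField :=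
    Algebra.TensorProduct.lift
      (((Algebra.TensorProduct.includeLeft : P.ResidueField →ₐ[P₀.ResidueField]
        P.ResidueField ⊗[P₀.ResidueField] q.ResidueField).restrictScalars S₀).comp (IsScalarTower.toAlgHom S₀ S P.ResidueField))
      (((Algebra.TensorProduct.includeRight : q.ResidueField →ₐ[P₀.ResidueField]
        P.ResidueField ⊗[P₀.ResidueField] q.ResidueField).restrictScalars S₀).comp (IsScalarTower.toAlgHom S₀ L q.ResidueField))
      fun _ _ => mul_comm _ _
  refine ⟨M₁.comap g.toRingHom, Ideal.IsPrime.comap _, ?_⟩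
  refine Ideal.ext fun a => ?_
  have h2 : (M₁.comap (Algebra.TensorProduct.includeLeftRingHom :
      P.ResidueField →+* P.ResidueField ⊗[P₀.ResidueField] q.ResidueField)) = ⊥ :=
    Ideal.eq_bot_of_prime _
  show g (a ⊗ₜ[S₀] 1) ∈ M₁ ↔ a ∈ P
  rw [Algebra.TensorProduct.lift_tmul, map_one, mul_one]
  rw [← Ideal.algebraMap_residueField_eq_zero (I := P) (x := a), ← Ideal.mem_bot, ← h2]
  exact Iff.rfl

end Groth.Agent.GLinEt
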