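import Mathlib.RingTheory.Unramified.LocalRing
import Mathlib.RingTheory.Algebraic.Integral
import Mathlib.RingTheory.Localization.Integral
import Mathlib.RingTheory.IntegralClosure.IsIntegral.Basic

/-!
# An unramified map is finite over a dense open of the image, on an integral closed subset
-/

universe u v

namespace Groth.Agent.GLinEt

theorem exists_fg_generic (S : Type u) {R : Type v} [CommRing S] [CommRing R] [Algebra S R] [Algebra.FiniteType S R]
    (Q : Ideal R) [Q.IsPrime] [Algebra.IsUnramifiedAt S Q] :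
    ∃ a : S, algebraMap S R a ∉ Q ∧ ∃ M : Submodule S R, M.FG ∧
      ∀ r : R, ∃ n : ℕ, algebraMap S R (a ^ n) * r ∈ M ⊔ Q.restrictScalars S := by
  classical
  let P := Q.under S
  letI := Localization.AtPrime.algebraOfLiesOver P Q
  haveI : Algebra.IsAlgebraic P.ResidueField Q.ResidueField := Algebra.IsAlgebraic.of_finite _ _
  letI : Algebra (S ⧸ P) Q.ResidueField :=
    ((algebraMap P.ResidueField Q.ResidueField).comp (algebraMap (S ⧸ P) P.ResidueField)).toAlgebra
  haveI : IsScalarTower (S ⧸ P) P.ResidueField Q.ResidueField := IsScalarTower.of_algebraMap_eq' rfl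
  haveI : IsScalarTower (S ⧸ P) (R ⧸ Q) Q.ResidueField := IsScalarTower.of_algebraMap_eq fun z => by
    obtain ⟨z, rfl⟩ := Ideal.Quotient.mk_surjective z
    rw [RingHom.algebraMap_toAlgebra, RingHom.comp_apply, Ideal.algebraMap_quotient_residueField_mk]
    show _ = algebraMap (R ⧸ Q) Q.ResidueField (Ideal.Quotient.mk Q (algebraMap S R z))
    rw [Ideal.algebraMap_quotient_residueField_mk, ← IsScalarTower.algebraMap_apply S P.ResidueField Q.ResidueField,
      ← IsScalarTower.algebraMap_apply S R Q.ResidueField]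
  haveI : Algebra.IsAlgebraic (S ⧸ P) Q.ResidueField :=
    (IsFractionRing.comap_isAlgebraic_iff (A := S ⧸ P) (K := P.ResidueField) (C := Q.ResidueField)).mpr inferInstance
  haveI : Algebra.IsAlgebraic (S ⧸ P) (R ⧸ Q) := ⟨fun z => (isAlgebraic_algHom_iff
    (IsScalarTower.toAlgHom (S ⧸ P) (R ⧸ Q) Q.ResidueField) Q.injective_algebraMap_quotient_residueField).mp
      (Algebra.IsAlgebraic.isAlgebraic _)⟩
  obtain ⟨gens, hgens⟩ := (Algebra.FiniteType.out : (⊤ : Subalgebra S R).FG)
  obtain ⟨c, hc0, hc⟩ := Algebra.IsAlgebraic.exists_integral_multiples (S ⧸ P) (gens.image (Ideal.Quotient.mk Q))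
  obtain ⟨a, rfl⟩ := Ideal.Quotient.mk_surjective c
  refine ⟨a, fun h => hc0 (Ideal.Quotient.eq_zero_iff_mem.mpr h), ?_⟩
  have hint : ∀ z ∈ gens, IsIntegral S (Ideal.Quotient.mk Q (algebraMap S R a * z)) := fun z hz => by
    haveI : Algebra.IsIntegral S (S ⧸ P) :=
      ⟨fun w => by obtain ⟨w, rfl⟩ := Ideal.Quotient.mk_surjective w; exact isIntegral_algebraMap⟩
    have h := hc _ (Finset.mem_image_of_mem _ hz)
    rw [Algebra.smul_def, ← show Ideal.Quotient.mk Q (algebraMap S R a * z) =
      algebraMap (S ⧸ P) (R ⧸ Q) (Ideal.Quotient.mk P a) * Ideal.Quotient.mk Q z by rw [map_mul]; rfl] at h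
    exact isIntegral_trans (R := S) (A := S ⧸ P) _ h
  let F : Subalgebra S (R ⧸ Q) := Algebra.adjoin S
    ((fun z => Ideal.Quotient.mk Q (algebraMap S R a * z)) '' (gens : Set R))
  obtain ⟨G, hG⟩ := fg_adjoin_of_finite (gens.finite_toSet.image _) (show ∀ x ∈
    ((fun z => Ideal.Quotient.mk Q (algebraMap S R a * z)) '' (gens : Set R)), IsIntegral S x by
      rintro _ ⟨z, hz, rfl⟩; exact hint z hz)
  choose lift hlift using Ideal.Quotient.mk_surjective (I := Q)
  refine ⟨Submodule.span S ((G.image lift : Finset R) : Set R), ⟨_, rfl⟩, fun r => ?_⟩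
  have hF : ∃ n : ℕ, Ideal.Quotient.mk Q (algebraMap S R (a ^ n) * r) ∈ F := by
    have hr : r ∈ Algebra.adjoin S (gens : Set R) := hgens ▸ Algebra.mem_top
    induction hr using Algebra.adjoin_induction with
    | mem z hz => exact ⟨1, by rw [pow_one]; exact Algebra.subset_adjoin ⟨z, hz, rfl⟩⟩
    | algebraMap s =>
      refine ⟨0, ?_⟩
      rw [pow_zero, map_one, one_mul]
      exact F.algebraMap_mem s
    | add u v _ _ hu hv =>
      obtain ⟨n, hn⟩ := hu
      obtain ⟨m, hm⟩ := hv
      refine ⟨n + m, ?_⟩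
      have e : Ideal.Quotient.mk Q (algebraMap S R (a ^ (n + m)) * (u + v)) =
          algebraMap S (R ⧸ Q) (a ^ m) * Ideal.Quotient.mk Q (algebraMap S R (a ^ n) * u) +
            algebraMap S (R ⧸ Q) (a ^ n) * Ideal.Quotient.mk Q (algebraMap S R (a ^ m) * v) := by
        rw [IsScalarTower.algebraMap_apply S R (R ⧸ Q), IsScalarTower.algebraMap_apply S R (R ⧸ Q),
          Ideal.Quotient.algebraMap_eq, pow_add]
        simp only [map_mul, map_add]
        ring
      rw [e]
      exact add_mem (mul_mem (F.algebraMap_mem _) hn) (mul_mem (F.algebraMap_mem _) hm)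
    | mul u v _ _ hu hv =>
      obtain ⟨n, hn⟩ := hu
      obtain ⟨m, hm⟩ := hv
      refine ⟨n + m, ?_⟩
      have e : Ideal.Quotient.mk Q (algebraMap S R (a ^ (n + m)) * (u * v)) =
          Ideal.Quotient.mk Q (algebraMap S R (a ^ n) * u) * Ideal.Quotient.mk Q (algebraMap S R (a ^ m) * v) := by
        rw [pow_add]
        simp only [map_mul]
        ring
      rw [e]
      exact mul_mem hn hm
  obtain ⟨n, hn⟩ := hF
  refine ⟨n, ?_⟩
  let π : R →ₗ[S] R ⧸ Q := (Ideal.Quotient.mkₐ S Q).toLinearMap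
  have hle : Subalgebra.toSubmodule F ≤ (Submodule.span S ((G.image lift : Finset R) : Set R)).map π := by
    rw [← hG, Submodule.span_le]
    intro z hz
    exact ⟨lift z, Submodule.subset_span (Finset.mem_image_of_mem lift hz), hlift z⟩
  obtain ⟨w, hw, he⟩ := hle hn
  rw [show algebraMap S R (a ^ n) * r = w + (algebraMap S R (a ^ n) * r - w) by ring]
  exact Submodule.add_mem_sup hw (Ideal.Quotient.eq.mp he.symm)

end Groth.Agent.GLinEt
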