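import Groth.Agent.GLinEt.Orbit
import Groth.Agent.GLinEt.Generic
import Groth.Agent.ComodLib.StableOrbit

/-!
# Equivariant maps along an orbit lying over a closed orbit
-/

universe u

open TensorProduct

namespace Groth.Agent.GLinEt

open ComodLib GLin

section

variable {k : Type u} [Field k] {A : Type u} [CommRing A] [HopfAlgebra k A]
variable {R : Type u} [CommRing R] [Algebra k R] [HopfRep.Comod k A R] [GLin.IsCoactAlg k A R]
variable {S : Type u} [CommRing S] [Algebra k S] [HopfRep.Comod k A S] [GLin.IsCoactAlg k A S]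

theorem transHom_eq_act (g : A →ₐ[k] k) (f : R) : HopfRep.Comod.act k A R g f = transHom g f := by
  rw [transHom_apply]; rfl

theorem exists_actPt_actPt_eq (g₀ g₁ : A →ₐ[k] k) (y : S →ₐ[k] k) :
    ∃ h : A →ₐ[k] k, GLin.actPt k h (GLin.actPt k g₀ y) = GLin.actPt k g₁ y :=
  ⟨g₁.comp (translatePt (g₀.comp (HopfAlgebra.antipodeAlgHom k A))), by rw [← actPt_actPt, actPt_inv]⟩

theorem ker_comp_eq [Algebra S R] [IsScalarTower k S R]
    (hφ : Hoch.IsComodHom A (IsScalarTower.toAlgHom k S R).toLinearMap) (x : R →ₐ[k] k) :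
    (RingHom.ker (orbitHom k A x)).comap (algebraMap S R) =
      RingHom.ker (orbitHom k A (x.comp (IsScalarTower.toAlgHom k S R))) := by
  rw [← orbitHom_comp _ hφ]
  exact Ideal.ext fun a => Iff.rfl

variable [IsAlgClosed k] [IsDomain A] [Algebra.FiniteType k A]

theorem exists_apply_transHom_ne_zero {y : S →ₐ[k] k} {a : S} (ha : a ∉ RingHom.ker (orbitHom k A y))
    (g₀ : A →ₐ[k] k) : ∃ h : A →ₐ[k] k, GLin.actPt k g₀ y (transHom h a) ≠ 0 := by
  obtain ⟨g₁, hg₁⟩ := exists_point_ne_zero (k := k) (a := orbitHom k A y a) fun hn => ha (RingHom.mem_ker.mpr hn.eq_zero)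
  obtain ⟨h, hh⟩ := exists_actPt_actPt_eq g₀ g₁ y
  exact ⟨h, by rw [apply_transHom, hh]; exact hg₁⟩

variable [Algebra.FiniteType k R] [Algebra.FiniteType k S] [Algebra S R] [IsScalarTower k S R]

/-- The orbit is finite over the orbit below. -/
theorem exists_fg_sup_ker_eq_top (hφ : Hoch.IsComodHom A (IsScalarTower.toAlgHom k S R).toLinearMap)
    (x : R →ₐ[k] k) (hy : GLin.IsClosedOrbit k A (x.comp (IsScalarTower.toAlgHom k S R)))
    (hQ : ∀ (_ : (RingHom.ker (orbitHom k A x)).IsPrime), Algebra.IsUnramifiedAt S (RingHom.ker (orbitHom k A x))) :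
    ∃ M : Submodule S R, M.FG ∧ M ⊔ (RingHom.ker (orbitHom k A x)).restrictScalars S = ⊤ := by
  classical
  haveI hQp : (RingHom.ker (orbitHom k A x)).IsPrime := RingHom.ker_isPrime _
  haveI := hQ hQp
  haveI : Algebra.FiniteType S R := Algebra.FiniteType.of_restrictScalars_finiteType k S R
  set Q := RingHom.ker (orbitHom k A x) with hQdef
  set y := x.comp (IsScalarTower.toAlgHom k S R)
  obtain ⟨a, ha, M, hM, hMa⟩ := exists_fg_generic S Q
  have haP : a ∉ RingHom.ker (orbitHom k A y) := fun h => ha ((ker_comp_eq hφ x).ge h)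
  have hspan : Ideal.span (Set.range fun h : A →ₐ[k] k => transHom h a) ⊔ RingHom.ker (orbitHom k A y) = ⊤ := by
    by_contra hne
    obtain ⟨z, hz⟩ := exists_point (k := k) _ hne
    obtain ⟨g₀, rfl⟩ := mem_orbit_of_isClosedOrbit hy (le_sup_right.trans hz)
    obtain ⟨h, hh⟩ := exists_apply_transHom_ne_zero haP g₀
    exact hh (hz (Submodule.mem_sup_left (Ideal.subset_span ⟨h, rfl⟩)))
  obtain ⟨u, hu, p, hp, hup⟩ := Submodule.mem_sup.mp ((Ideal.eq_top_iff_one _).mp hspan)
  obtain ⟨J, hJs, hJ⟩ := Submodule.mem_span_finite_of_mem_span hu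
  have hJ' : ∀ w : J, ∃ h : A →ₐ[k] k, transHom h a = w.1 := fun w => hJs w.2
  choose tr htr using hJ'
  obtain ⟨G, hG⟩ := hM
  let N : Submodule S R :=
    Submodule.span S (⋃ w : J, ((fun m => transHom (R := R) (tr w) m) '' (G : Set R)))
  refine ⟨N, Submodule.fg_span (Set.finite_iUnion fun w => G.finite_toSet.image _), eq_top_iff.mpr fun r _ => ?_⟩
  have key : ∀ w : J, ∃ n : ℕ, algebraMap S R (w.1 ^ n) * r ∈ N ⊔ Q.restrictScalars S := by
    intro w
    obtain ⟨n, hn⟩ := hMa (transHom ((tr w).comp (HopfAlgebra.antipodeAlgHom k A)) r)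
    refine ⟨n, ?_⟩
    obtain ⟨m, hm, q, hq, e⟩ := Submodule.mem_sup.mp hn
    have htt : transHom (tr w) (transHom ((tr w).comp (HopfAlgebra.antipodeAlgHom k A)) r) = r := by
      have h := transHom_antipode ((tr w).comp (HopfAlgebra.antipodeAlgHom k A)) r
      rwa [show ((tr w).comp (HopfAlgebra.antipodeAlgHom k A)).comp (HopfAlgebra.antipodeAlgHom k A) = tr w from
        AlgHom.ext fun b => by simp [antipode_antipode_apply]] at h
    have e' := congrArg (transHom (R := R) (tr w)) e
    rw [map_mul, htt, map_add] at e'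
    rw [show algebraMap S R (w.1 ^ n) = transHom (tr w) (algebraMap S R (a ^ n)) by
      rw [← htr w, ← map_pow]; exact (transHom_comp (IsScalarTower.toAlgHom k S R) hφ _ _).symm, ← e']
    refine Submodule.add_mem_sup ?_ ?_
    · rw [← hG] at hm
      clear e e' hn
      induction hm using Submodule.span_induction with
      | mem m hm => exact Submodule.subset_span (Set.mem_iUnion.mpr ⟨w, m, hm, rfl⟩)
      | zero => rw [map_zero]; exact zero_mem _
      | add m m' _ _ h h' => rw [map_add]; exact add_mem h h'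
      | smul c m _ h =>
        rw [Algebra.smul_def, map_mul, show algebraMap S R c = (IsScalarTower.toAlgHom k S R) c from rfl,
          transHom_comp (IsScalarTower.toAlgHom k S R) hφ, IsScalarTower.toAlgHom_apply, ← Algebra.smul_def]
        exact N.smul_mem _ h
    · rw [transHom_apply]
      exact subcomod_actF_mem (isSubcomod_ker_orbitHom x) _ hq
  let 𝔠 : Ideal S :=
    { carrier := {s | algebraMap S R s * r ∈ N ⊔ Q.restrictScalars S}
      add_mem' := fun {s t} hs ht => by
        show algebraMap S R (s + t) * r ∈ N ⊔ Q.restrictScalars S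
        rw [map_add, add_mul]; exact add_mem hs ht
      zero_mem' := by
        show algebraMap S R 0 * r ∈ N ⊔ Q.restrictScalars S
        rw [map_zero, zero_mul]; exact zero_mem _
      smul_mem' := fun c s hs => by
        show algebraMap S R (c • s) * r ∈ N ⊔ Q.restrictScalars S
        rw [smul_eq_mul, map_mul, mul_assoc, ← Algebra.smul_def]; exact Submodule.smul_mem _ c hs }
  have hrad : 𝔠.radical = ⊤ := by
    rw [Ideal.eq_top_iff_one, ← hup]
    refine add_mem (Submodule.span_le.mpr (fun w hw => ?_) hJ) (Ideal.le_radical ?_)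
    · obtain ⟨n, hn⟩ := key ⟨w, hw⟩
      exact ⟨n, hn⟩
    · exact Submodule.mem_sup_right (Q.mul_mem_right r ((ker_comp_eq hφ x).ge hp))
  have h1 : (1 : S) ∈ 𝔠 := (Ideal.eq_top_iff_one _).mp (Ideal.radical_eq_top.mp hrad)
  have h2 : algebraMap S R 1 * r ∈ N ⊔ Q.restrictScalars S := h1
  rwa [map_one, one_mul] at h2

omit [IsAlgClosed k] [IsDomain A] [Algebra.FiniteType k A] [Algebra.FiniteType k R] [Algebra.FiniteType k S] in
theorem finite_quotient_ker {x : R →ₐ[k] k}
    (h : ∃ M : Submodule S R, M.FG ∧ M ⊔ (RingHom.ker (orbitHom k A x)).restrictScalars S = ⊤) :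
    Module.Finite S (R ⧸ RingHom.ker (orbitHom k A x)) := by
  obtain ⟨M, hM, htop⟩ := h
  let π : R →ₗ[S] R ⧸ RingHom.ker (orbitHom k A x) := (Ideal.Quotient.mkₐ S _).toLinearMap
  refine ⟨?_⟩
  rw [show (⊤ : Submodule S (R ⧸ RingHom.ker (orbitHom k A x))) = M.map π from ?_]
  · exact hM.map π
  refine (eq_top_iff.mpr fun z _ => ?_).symm
  obtain ⟨r, rfl⟩ := Ideal.Quotient.mk_surjective z
  obtain ⟨m, hm, q, hq, rfl⟩ := Submodule.mem_sup.mp (htop ▸ Submodule.mem_top : r ∈ M ⊔ _)
  refine ⟨m, hm, ?_⟩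
  show Ideal.Quotient.mk _ m = Ideal.Quotient.mk _ (m + q)
  rw [map_add, Ideal.Quotient.eq_zero_iff_mem.mpr hq, add_zero]

/-- Every point over the orbit closure is in the orbit. -/
theorem exists_eq_actPt (hφ : Hoch.IsComodHom A (IsScalarTower.toAlgHom k S R).toLinearMap)
    (x : R →ₐ[k] k) (hy : GLin.IsClosedOrbit k A (x.comp (IsScalarTower.toAlgHom k S R)))
    [Module.Finite S (R ⧸ RingHom.ker (orbitHom k A x))]
    (z : R →ₐ[k] k) (hz : RingHom.ker (orbitHom k A x) ≤ RingHom.ker z) :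
    ∃ g : A →ₐ[k] k, z = GLin.actPt k g x := by
  set Q := RingHom.ker (orbitHom k A x) with hQdef
  have hle : Q ≤ RingHom.ker (orbitHom k A z) := (inOrbitClosure_iff x z).mp hz
  obtain ⟨g, hg⟩ := mem_orbit_of_isClosedOrbit hy (z := z.comp (IsScalarTower.toAlgHom k S R))
    (show RingHom.ker _ ≤ RingHom.ker _ from (ker_comp_eq hφ x).ge.trans (Ideal.comap_mono hz))
  have hcomap : (RingHom.ker (orbitHom k A z)).comap (algebraMap S R) = Q.comap (algebraMap S R) := by
    rw [ker_comp_eq hφ z, hg, ker_orbitHom_actPt, hQdef, ker_comp_eq hφ x]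
  haveI : Q.IsPrime := RingHom.ker_isPrime _
  let P := Q.under S
  haveI : Module.Finite (S ⧸ P) (R ⧸ Q) := Module.Finite.of_restrictScalars_finite S (S ⧸ P) (R ⧸ Q)
  haveI : (RingHom.ker (orbitHom k A z)).IsPrime := RingHom.ker_isPrime _
  have hbot : (RingHom.ker (orbitHom k A z)).map (Ideal.Quotient.mk Q) = ⊥ := by
    refine Ideal.eq_bot_of_comap_eq_bot (R := S ⧸ P) (eq_bot_iff.mpr fun w hw => ?_)
    obtain ⟨w, rfl⟩ := Ideal.Quotient.mk_surjective w
    rw [Ideal.mem_comap] at hw
    rw [Ideal.mem_bot, Ideal.Quotient.eq_zero_iff_mem]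
    have h1 : algebraMap S R w ∈ RingHom.ker (orbitHom k A z) := by
      have h := Ideal.mem_comap.mpr (show Ideal.Quotient.mk Q (algebraMap S R w) ∈ _ from hw)
      rwa [Ideal.comap_map_of_surjective _ Ideal.Quotient.mk_surjective, ← RingHom.ker_eq_comap_bot, Ideal.mk_ker,
        sup_eq_left.mpr hle] at h
    exact hcomap.le h1
  have heq : RingHom.ker (orbitHom k A z) = Q :=
    le_antisymm (fun w hw => Ideal.Quotient.eq_zero_iff_mem.mp
      (Ideal.mem_bot.mp (hbot ▸ Ideal.mem_map_of_mem _ hw))) hle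
  exact exists_actPt_of_ker_eq heq.symm

/-- A stable space of functions not all vanishing at a point has a member with Reynolds value one there. -/
theorem exists_mem_apply_rey {α : A →ₗ[k] k} (hα : IsIntegral k α) (h1 : α 1 = 1)
    (hφ : Hoch.IsComodHom A (IsScalarTower.toAlgHom k S R).toLinearMap)
    (x : R →ₐ[k] k) (hy : GLin.IsClosedOrbit k A (x.comp (IsScalarTower.toAlgHom k S R)))
    (hsurj : ∀ r : R, ∃ a : S, r - algebraMap S R a ∈ RingHom.ker (orbitHom k A x))
    (U : Submodule S R) (hU : ∀ g : A →ₐ[k] k, ∀ u ∈ U, transHom g u ∈ U) {r : R} (hr : r ∈ U) (hxr : x r ≠ 0) :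
    ∃ v ∈ U, x (rey α v) = 1 := by
  set Q := RingHom.ker (orbitHom k A x) with hQ
  set y := x.comp (IsScalarTower.toAlgHom k S R)
  let 𝔠 : Ideal S := (U ⊔ Q.restrictScalars S).comap (Algebra.linearMap S R)
  have htop : 𝔠 = ⊤ := by
    by_contra hne
    obtain ⟨z, hz⟩ := exists_point (k := k) _ hne
    have hPz : RingHom.ker (orbitHom k A y) ≤ RingHom.ker z := fun p hp =>
      hz (Submodule.mem_sup_right ((ker_comp_eq hφ x).ge hp))
    obtain ⟨g, rfl⟩ := mem_orbit_of_isClosedOrbit hy hPz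
    obtain ⟨a, ha⟩ := hsurj r
    have hya : y a = x r := by
      have h := ker_orbitHom_le (A := A) x ha
      rw [RingHom.mem_ker, map_sub, sub_eq_zero] at h
      exact h.symm
    let h := g.comp (HopfAlgebra.antipodeAlgHom k A)
    have hmem : transHom h a ∈ 𝔠 := by
      show algebraMap S R (transHom h a) ∈ U ⊔ Q.restrictScalars S
      rw [show algebraMap S R (transHom h a) = transHom h r - transHom h (r - algebraMap S R a) by
        rw [map_sub, sub_sub_cancel]; exact (transHom_comp (IsScalarTower.toAlgHom k S R) hφ h a).symm, sub_eq_add_neg]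
      refine Submodule.add_mem_sup (hU h r hr) (neg_mem ?_)
      rw [transHom_apply]
      exact subcomod_actF_mem (isSubcomod_ker_orbitHom x) _ ha
    have h0 : GLin.actPt k g y (transHom h a) = 0 := hz hmem
    rw [apply_transHom, actPt_inv, hya] at h0
    exact hxr h0
  obtain ⟨u, hu, q, hq, e⟩ := Submodule.mem_sup.mp (show (1 : R) ∈ U ⊔ Q.restrictScalars S from by
    have h := (Ideal.eq_top_iff_one _).mp htop
    change algebraMap S R 1 ∈ U ⊔ Q.restrictScalars S at h
    rwa [map_one] at h)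
  refine ⟨u, hu, ?_⟩
  have h2 : rey α u + rey α q = 1 := by
    rw [← map_add, e, rey_of_fixed h1 ((GLin.invariants k A R).one_mem : (1 : R) ∈ HopfRep.fixedPts k A R)]
  have h3 : x (rey α q) = 0 :=
    ker_orbitHom_le (A := A) x (rey_mem_of_isSubcomod (isSubcomod_ker_orbitHom x) hq)
  have h4 := congrArg x h2
  rwa [map_add, h3, add_zero, map_one] at h4

end

end Groth.Agent.GLinEt
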