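import Groth.Agent.GLinEt.Finite
import Mathlib.RingTheory.Flat.Basic
import Mathlib.LinearAlgebra.TensorProduct.Quotient

/-!
# The infinitesimal neighbourhoods of an orbit with the same stabiliser below
-/

universe u

open TensorProduct

namespace Groth.Agent.GLinEt

open ComodLib GLin

theorem map_colon_eq_top_of_flat {S L : Type*} [CommRing S] [CommRing L] [Algebra S L] [Module.Flat S L]
    (J : Ideal S) (a : S) (h : algebraMap S L a ∈ Ideal.map (algebraMap S L) J) :
    Ideal.map (algebraMap S L) (J.colon {a}) = ⊤ := by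
  let I : Ideal S := J.colon {a}
  let g : (S ⧸ I) →ₗ[S] (S ⧸ J) := Submodule.mapQ I J (LinearMap.mul S S a) fun s hs => by
    simp only [Submodule.mem_comap, LinearMap.mul_apply']
    rw [mul_comm]
    exact Submodule.mem_colon.mp hs a rfl
  have hg : Function.Injective g := by
    rw [← LinearMap.ker_eq_bot, eq_bot_iff]
    intro z hz
    obtain ⟨s, rfl⟩ := Submodule.Quotient.mk_surjective I z
    rw [LinearMap.mem_ker, Submodule.mapQ_apply, Submodule.Quotient.mk_eq_zero, LinearMap.mul_apply'] at hz
    rw [Submodule.mem_bot, Submodule.Quotient.mk_eq_zero]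
    exact Submodule.mem_colon.mpr fun b hb => by
      rw [Set.mem_singleton_iff] at hb
      subst hb
      rw [smul_eq_mul, mul_comm]; exact hz
  have h1 : g.lTensor L ((1 : L) ⊗ₜ[S] Submodule.Quotient.mk (1 : S)) = 0 := by
    rw [LinearMap.lTensor_tmul, Submodule.mapQ_apply, LinearMap.mul_apply']
    apply (TensorProduct.tensorQuotEquivQuotSMul L J).injective
    rw [map_zero, mul_one]
    have e : (TensorProduct.tensorQuotEquivQuotSMul L J) ((1 : L) ⊗ₜ[S] Submodule.Quotient.mk a) =
        Submodule.Quotient.mk (a • (1 : L)) := by simp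
    rw [e, Submodule.Quotient.mk_eq_zero, Ideal.smul_top_eq_map, Submodule.restrictScalars_mem,
      Algebra.smul_def, mul_one]
    exact h
  have h2 := Module.Flat.lTensor_preserves_injective_linearMap (M := L) g hg (h1.trans (map_zero _).symm)
  have h3 := congrArg (TensorProduct.tensorQuotEquivQuotSMul L I) h2
  rw [map_zero] at h3
  have e : (TensorProduct.tensorQuotEquivQuotSMul L I) ((1 : L) ⊗ₜ[S] Submodule.Quotient.mk (1 : S)) =
      Submodule.Quotient.mk ((1 : S) • (1 : L)) :=
    TensorProduct.quotTensorEquivQuotSMul_mk_tmul I 1 1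
  rw [e, one_smul, Submodule.Quotient.mk_eq_zero, Ideal.smul_top_eq_map, Submodule.restrictScalars_mem] at h3
  exact (Ideal.eq_top_iff_one _).mpr h3

section

variable {k : Type u} [Field k] [IsAlgClosed k] {A : Type u} [CommRing A] [IsDomain A] [HopfAlgebra k A]
  [Algebra.FiniteType k A]
variable {R : Type u} [CommRing R] [Algebra k R] [Algebra.FiniteType k R] [HopfRep.Comod k A R] [GLin.IsCoactAlg k A R]
variable {S : Type u} [CommRing S] [Algebra k S] [Algebra.FiniteType k S] [HopfRep.Comod k A S] [GLin.IsCoactAlg k A S]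
variable [Algebra S R] [IsScalarTower k S R]

omit [IsAlgClosed k] [IsDomain A] [Algebra.FiniteType k A] [Algebra.FiniteType k R] in
theorem transHom_mem_pow {x : R →ₐ[k] k} {n : ℕ} {f : R} (g : A →ₐ[k] k) (hf : f ∈ RingHom.ker (orbitHom k A x) ^ n) :
    transHom g f ∈ RingHom.ker (orbitHom k A x) ^ n := by
  have h : (RingHom.ker (orbitHom k A x)).map (transHom (R := R) g).toRingHom ≤ RingHom.ker (orbitHom k A x) := by
    rw [Ideal.map_le_iff_le_comap]
    intro q hq
    show transHom g q ∈ RingHom.ker (orbitHom k A x)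
    rw [transHom_apply]
    exact subcomod_actF_mem (isSubcomod_ker_orbitHom x) _ hq
  have h2 := Ideal.mem_map_of_mem (transHom (R := R) g).toRingHom hf
  rw [Ideal.map_pow] at h2
  exact Ideal.pow_right_mono h n h2

omit [IsAlgClosed k] [IsDomain A] [Algebra.FiniteType k A] [Algebra.FiniteType k R] [Algebra.FiniteType k S] in
theorem pow_le_map_pow_sup {Q : Ideal R} {P : Ideal S} (hPQ : Ideal.map (algebraMap S R) P ≤ Q)
    (h1 : Q ≤ Ideal.map (algebraMap S R) P ⊔ Q * Q) (n : ℕ) :
    ∀ N : ℕ, Q ^ n ≤ Ideal.map (algebraMap S R) (P ^ n) ⊔ Q ^ (n + N) := by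
  have hstep : ∀ n, Q ^ n ≤ Ideal.map (algebraMap S R) (P ^ n) ⊔ Q ^ (n + 1) := by
    intro n
    induction n with
    | zero => simp [Ideal.one_eq_top, Ideal.map_top]
    | succ n ih =>
      rw [pow_succ Q n]
      refine (Ideal.mul_mono ih h1).trans ?_
      rw [Ideal.sup_mul, Ideal.mul_sup, Ideal.mul_sup]
      refine sup_le (sup_le ?_ ?_) (sup_le ?_ ?_)
      · rw [pow_succ P n, Ideal.map_mul]; exact le_sup_left
      · refine le_sup_of_le_right ?_
        rw [pow_succ Q (n + 1), pow_succ Q n, ← mul_assoc]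
        exact Ideal.mul_mono (Ideal.mul_mono (by rw [Ideal.map_pow]; exact Ideal.pow_right_mono hPQ n) le_rfl) le_rfl
      · refine le_sup_of_le_right ?_
        rw [pow_succ Q (n + 1)]
        exact Ideal.mul_mono le_rfl hPQ
      · refine le_sup_of_le_right ?_
        rw [← mul_assoc, ← pow_succ Q (n + 1)]; exact Ideal.mul_le_left
  intro N
  induction N with
  | zero => exact le_sup_right
  | succ N ih =>
    refine ih.trans (sup_le le_sup_left ((hstep (n + N)).trans (sup_le_sup_right ?_ _)))
    exact Ideal.map_mono (Ideal.pow_le_pow_right (Nat.le_add_right n N))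

/-- Below, the infinitesimal neighbourhoods of the orbit are the same. -/
theorem mem_pow_of_map_mem (hφ : Hoch.IsComodHom A (IsScalarTower.toAlgHom k S R).toLinearMap)
    (x : R →ₐ[k] k) (hy : GLin.IsClosedOrbit k A (x.comp (IsScalarTower.toAlgHom k S R)))
    (hQ2 : RingHom.ker (orbitHom k A x) ≤ Ideal.map (algebraMap S R) ((RingHom.ker (orbitHom k A x)).comap
      (algebraMap S R)) ⊔ RingHom.ker (orbitHom k A x) * RingHom.ker (orbitHom k A x))
    (m : Ideal R) [m.IsPrime] (hm : m = RingHom.ker x) [Module.Flat S (Localization.AtPrime m)]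
    (n : ℕ) (a : S) (ha : algebraMap S R a ∈ RingHom.ker (orbitHom k A x) ^ n) :
    a ∈ RingHom.ker (orbitHom k A (x.comp (IsScalarTower.toAlgHom k S R))) ^ n := by
  haveI : IsNoetherianRing R := Algebra.FiniteType.isNoetherianRing k R
  set Q := RingHom.ker (orbitHom k A x) with hQ
  set y := x.comp (IsScalarTower.toAlgHom k S R) with hy'
  set P := RingHom.ker (orbitHom k A y) with hP
  have hPQ : Q.comap (algebraMap S R) = P := ker_comp_eq hφ x
  rw [hPQ] at hQ2
  have hlocal : ∀ b : S, algebraMap S R b ∈ Q ^ n → ∃ t : S, y t ≠ 0 ∧ t * b ∈ P ^ n := by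
    intro b hb
    let I : Ideal R := Ideal.map (algebraMap S R) (P ^ n)
    obtain ⟨⟨r, hr⟩, hrb⟩ := (Ideal.mem_iInf_smul_pow_eq_bot_iff Q (I.mkQ (algebraMap S R b))).mp (by
      rw [Submodule.mem_iInf]
      intro i
      obtain ⟨u, hu, v, hv, e⟩ := Submodule.mem_sup.mp
        (pow_le_map_pow_sup (Ideal.map_le_iff_le_comap.mpr hPQ.ge) hQ2 n i hb)
      have hv' : v ∈ Q ^ i := Ideal.pow_le_pow_right (Nat.le_add_left i n) hv
      rw [← e, map_add, Submodule.mkQ_apply, (Submodule.Quotient.mk_eq_zero _).mpr hu, zero_add,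
        show v = v • (1 : R) from (mul_one v).symm, map_smul]
      exact Submodule.smul_mem_smul hv' Submodule.mem_top)
    have hb' : (1 - r) * algebraMap S R b ∈ I := by
      rw [← Submodule.Quotient.mk_eq_zero I, ← smul_eq_mul, Submodule.Quotient.mk_smul, sub_smul, one_smul,
        sub_eq_zero]
      exact hrb.symm
    have hunit : IsUnit (algebraMap R (Localization.AtPrime m) (1 - r)) := by
      refine IsLocalization.map_units (M := m.primeCompl) _ ⟨1 - r, fun h => ?_⟩
      rw [SetLike.mem_coe, hm, RingHom.mem_ker, map_sub, map_one, show x r = 0 from ker_orbitHom_le (A := A) x hr, sub_zero] at h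
      exact one_ne_zero h
    have hmem : algebraMap S (Localization.AtPrime m) b ∈ Ideal.map (algebraMap S (Localization.AtPrime m)) (P ^ n) := by
      rw [IsScalarTower.algebraMap_eq S R (Localization.AtPrime m), ← Ideal.map_map, RingHom.comp_apply]
      have h := Ideal.mem_map_of_mem (algebraMap R (Localization.AtPrime m)) hb'
      rw [map_mul] at h
      exact (Ideal.unit_mul_mem_iff_mem _ hunit).mp h
    have htop := map_colon_eq_top_of_flat _ _ hmem
    by_contra hne
    simp only [not_exists, not_and] at hne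
    have hle : (P ^ n).colon {b} ≤ RingHom.ker y := fun t ht => by
      by_contra hty
      exact hne t hty (Submodule.mem_colon.mp ht b rfl)
    have hsub : Ideal.map (algebraMap S (Localization.AtPrime m)) ((P ^ n).colon {b}) ≤
        IsLocalRing.maximalIdeal _ := by
      rw [Ideal.map_le_iff_le_comap]
      intro t ht
      rw [Ideal.mem_comap, IsScalarTower.algebraMap_apply S R (Localization.AtPrime m),
        IsLocalization.AtPrime.to_map_mem_maximal_iff _ m, hm]
      exact hle ht
    rw [htop, top_le_iff] at hsub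
    exact (IsLocalRing.maximalIdeal.isMaximal _).ne_top hsub
  rcases Nat.eq_zero_or_pos n with rfl | hn
  · rw [pow_zero, Ideal.one_eq_top]; trivial
  let C : Ideal S := (P ^ n).colon {a}
  suffices h : C = ⊤ by simpa using Submodule.mem_colon.mp (h ▸ Submodule.mem_top : (1 : S) ∈ C) a rfl
  by_contra hne
  obtain ⟨z, hz⟩ := exists_point (k := k) C hne
  have hPn : P ^ n ≤ RingHom.ker z := fun p hp => hz (Submodule.mem_colon.mpr fun b hb => by
    rw [smul_eq_mul]; exact Ideal.mul_mem_right b _ hp)
  haveI : (RingHom.ker z).IsPrime := RingHom.ker_isPrime _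
  obtain ⟨g, rfl⟩ := mem_orbit_of_isClosedOrbit hy (Ideal.IsPrime.le_of_pow_le hPn : P ≤ RingHom.ker z)
  obtain ⟨t, hty, ht⟩ := hlocal (transHom g a) (by
    rw [show algebraMap S R (transHom g a) = transHom g (algebraMap S R a) from
      (transHom_comp (IsScalarTower.toAlgHom k S R) hφ g a).symm]
    exact transHom_mem_pow g ha)
  set h := g.comp (HopfAlgebra.antipodeAlgHom k A)
  have h1 := transHom_mem_pow (x := y) h ht
  rw [map_mul, transHom_antipode] at h1
  have h2 : GLin.actPt k g y (transHom h t) = 0 := hz (Submodule.mem_colon.mpr fun b hb => by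
    rw [Set.mem_singleton_iff] at hb
    subst hb
    exact h1)
  rw [apply_transHom, actPt_inv] at h2
  exact hty h2

omit [Algebra S R] [IsScalarTower k S R] [Algebra.FiniteType k S] [HopfRep.Comod k A S] [GLin.IsCoactAlg k A S] in
theorem rey_mem_of_stable {α : A →ₗ[k] k} {U : Submodule k R} (hU : ∀ g : A →ₐ[k] k, ∀ u ∈ U, transHom g u ∈ U)
    {u : R} (hu : u ∈ U) : rey α u ∈ U :=
  rey_mem_of_isSubcomod (isSubcomod_of_forall_act fun g v hv => by rw [transHom_eq_act]; exact hU g v hv) hu

/-- An invariant member of a stable space of functions, one at the point. -/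
theorem exists_invariant_mem {α : A →ₗ[k] k} (hα : IsIntegral k α) (h1 : α 1 = 1)
    (hφ : Hoch.IsComodHom A (IsScalarTower.toAlgHom k S R).toLinearMap)
    (x : R →ₐ[k] k) (hy : GLin.IsClosedOrbit k A (x.comp (IsScalarTower.toAlgHom k S R)))
    (hsurj : ∀ r : R, ∃ a : S, r - algebraMap S R a ∈ RingHom.ker (orbitHom k A x))
    (U : Submodule S R) (hU : ∀ g : A →ₐ[k] k, ∀ u ∈ U, transHom g u ∈ U) {r : R} (hr : r ∈ U) (hxr : x r ≠ 0) :
    ∃ u ∈ U, u ∈ GLin.invariants k A R ∧ x u = 1 := by
  obtain ⟨v, hv, hxv⟩ := exists_mem_apply_rey hα h1 hφ x hy hsurj U hU hr hxr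
  exact ⟨rey α v, rey_mem_of_stable (U := U.restrictScalars k) hU hv, rey_mem_fixedPts hα v, hxv⟩

/-- Near the orbit, its ideal is generated from below. -/
theorem exists_invariant_mul_ker_le {α : A →ₗ[k] k} (hα : IsIntegral k α) (h1 : α 1 = 1)
    (hφ : Hoch.IsComodHom A (IsScalarTower.toAlgHom k S R).toLinearMap)
    (x : R →ₐ[k] k) (hy : GLin.IsClosedOrbit k A (x.comp (IsScalarTower.toAlgHom k S R)))
    (hsurj : ∀ r : R, ∃ a : S, r - algebraMap S R a ∈ RingHom.ker (orbitHom k A x))
    (hQ2 : RingHom.ker (orbitHom k A x) ≤ Ideal.map (algebraMap S R) ((RingHom.ker (orbitHom k A x)).comap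
      (algebraMap S R)) ⊔ RingHom.ker (orbitHom k A x) * RingHom.ker (orbitHom k A x)) :
    ∃ e ∈ GLin.invariants k A R, x e = 1 ∧ ∀ q ∈ RingHom.ker (orbitHom k A x),
      e * q ∈ Ideal.map (algebraMap S R) ((RingHom.ker (orbitHom k A x)).comap (algebraMap S R)) := by
  haveI : IsNoetherianRing R := Algebra.FiniteType.isNoetherianRing k R
  set Q := RingHom.ker (orbitHom k A x) with hQ
  set I := Ideal.map (algebraMap S R) (Q.comap (algebraMap S R)) with hI
  obtain ⟨r, hr, hrQ⟩ := Submodule.exists_sub_one_mem_and_smul_eq_zero_of_fg_of_le_smul Q (Submodule.map I.mkQ Q)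
    ((IsNoetherian.noetherian Q).map _) (by
      have h := Submodule.map_mono (f := I.mkQ) hQ2
      rwa [Submodule.map_sup, Submodule.mkQ_map_self, bot_sup_eq, ← smul_eq_mul, Submodule.map_smul''] at h)
  let U : Submodule S R := (I.colon (Q : Set R)).restrictScalars S
  have hUmem : ∀ b, b ∈ U ↔ ∀ q ∈ Q, b * q ∈ I := fun b => Submodule.mem_colon
  obtain ⟨e, he, heinv, hxe⟩ := exists_invariant_mem hα h1 hφ x hy hsurj U (fun g b hb => by
    rw [hUmem] at hb ⊢
    intro q hq
    have hIst : I.map (transHom (R := R) g).toRingHom ≤ I := by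
      rw [Ideal.map_le_iff_le_comap, hI, Ideal.map_le_iff_le_comap]
      intro p hp
      show transHom g ((IsScalarTower.toAlgHom k S R) p) ∈ I
      rw [transHom_comp _ hφ]
      refine Ideal.mem_map_of_mem _ ?_
      show algebraMap S R (transHom g p) ∈ Q
      rw [show algebraMap S R (transHom g p) = transHom g (algebraMap S R p) from
        (transHom_comp (IsScalarTower.toAlgHom k S R) hφ g p).symm]
      have h := transHom_mem_pow (x := x) (n := 1) g (by rw [pow_one]; exact hp)
      rw [pow_one] at h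
      exact h
    have hq' : transHom (g.comp (HopfAlgebra.antipodeAlgHom k A)) q ∈ Q := by
      have h := transHom_mem_pow (x := x) (n := 1) (g.comp (HopfAlgebra.antipodeAlgHom k A)) (by rw [pow_one]; exact hq)
      rw [pow_one] at h
      exact h
    have h := hIst (Ideal.mem_map_of_mem (transHom (R := R) g).toRingHom (hb _ hq'))
    rw [AlgHom.toRingHom_eq_coe, RingHom.coe_coe, map_mul] at h
    have htt : transHom g (transHom (g.comp (HopfAlgebra.antipodeAlgHom k A)) q) = q := by
      have h := transHom_antipode (g.comp (HopfAlgebra.antipodeAlgHom k A)) q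
      rwa [show (g.comp (HopfAlgebra.antipodeAlgHom k A)).comp (HopfAlgebra.antipodeAlgHom k A) = g from
        AlgHom.ext fun b => by simp [antipode_antipode_apply]] at h
    rwa [htt] at h)
    ((hUmem r).mpr fun q hq => by
      have h := hrQ _ (Submodule.mem_map_of_mem hq)
      rwa [← map_smul, Submodule.mkQ_apply, Submodule.Quotient.mk_eq_zero] at h)
    (by
      have h := ker_orbitHom_le (A := A) x hr
      rw [RingHom.mem_ker, map_sub, map_one, sub_eq_zero] at h
      rw [h]; exact one_ne_zero)
  exact ⟨e, heinv, hxe, (hUmem e).mp he⟩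

end

end Groth.Agent.GLinEt
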