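import Groth.Agent.GLinEt.Cart
import Groth.Agent.GLinEt.Descent
import Groth.Agent.ComodLib.StableClosed
import Mathlib.RingTheory.Etale.Locus
import Mathlib.RingTheory.Unramified.LocalStructure
import Mathlib.RingTheory.Smooth.Flat

/-!
# An étale equivariant map is strongly étale near a closed orbit with the same stabiliser below
-/

universe u

open TensorProduct

namespace Groth.Agent.GLinEt

open ComodLib GLin

section

variable {k : Type u} [Field k] [IsAlgClosed k] {A : Type u} [CommRing A] [IsDomain A] [HopfAlgebra k A]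
  [Algebra.FiniteType k A]
variable {R : Type u} [CommRing R] [Algebra k R] [Algebra.FiniteType k R] [HopfRep.Comod k A R] [GLin.IsCoactAlg k A R]
variable {S : Type u} [CommRing S] [Algebra k S] [Algebra.FiniteType k S] [HopfRep.Comod k A S] [GLin.IsCoactAlg k A S]
variable [Algebra S R] [IsScalarTower k S R]

omit [IsAlgClosed k] [IsDomain A] [Algebra.FiniteType k A] [Algebra.FiniteType k R] [Algebra.FiniteType k S] in
theorem etale_away_transHom (hφ : Hoch.IsComodHom A (IsScalarTower.toAlgHom k S R).toLinearMap)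
    (g : A →ₐ[k] k) (b : R) [Algebra.Etale S (Localization.Away b)] :
    Algebra.Etale S (Localization.Away (transHom g b)) := by
  have hgg : (g.comp (HopfAlgebra.antipodeAlgHom k A)).comp (HopfAlgebra.antipodeAlgHom k A) = g :=
    AlgHom.ext fun c => by simp [antipode_antipode_apply]
  let gi := g.comp (HopfAlgebra.antipodeAlgHom k A)
  let σR : R ≃+* R :=
    { (transHom (R := R) g).toRingHom with
      invFun := transHom gi
      left_inv := fun r => transHom_antipode g r
      right_inv := fun r => by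
        have h := transHom_antipode gi r
        rw [hgg] at h
        exact h }
  let σS : S ≃+* S :=
    { (transHom (R := S) g).toRingHom with
      invFun := transHom gi
      left_inv := fun r => transHom_antipode g r
      right_inv := fun r => by
        have h := transHom_antipode gi r
        rw [hgg] at h
        exact h }
  have hmap : Submonoid.map σR.toMonoidHom (Submonoid.powers b) = Submonoid.powers (transHom g b) := by
    rw [Submonoid.map_powers]; rfl
  let e : Localization.Away b ≃+* Localization.Away (transHom g b) :=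
    IsLocalization.ringEquivOfRingEquiv _ _ σR hmap
  have hcomp : algebraMap S (Localization.Away (transHom g b)) =
      ((e : Localization.Away b →+* _).comp (algebraMap S (Localization.Away b))).comp (σS.symm : S →+* S) := by
    refine RingHom.ext fun s => ?_
    show _ = e (algebraMap S (Localization.Away b) (σS.symm s))
    rw [IsScalarTower.algebraMap_apply S R (Localization.Away b), IsLocalization.ringEquivOfRingEquiv_eq,
      IsScalarTower.algebraMap_apply S R (Localization.Away (transHom g b))]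
    congr 1
    show algebraMap S R s = transHom g ((IsScalarTower.toAlgHom k S R) (transHom gi s))
    rw [transHom_comp _ hφ, IsScalarTower.toAlgHom_apply]
    exact congrArg _ (σS.apply_symm_apply s).symm
  rw [← RingHom.etale_algebraMap, hcomp]
  exact RingHom.Etale.stableUnderComposition _ _ (RingHom.Etale.of_bijective σS.symm.bijective)
    (RingHom.Etale.stableUnderComposition _ _ (RingHom.etale_algebraMap.mpr inferInstance)
      (RingHom.Etale.of_bijective e.bijective))

end

theorem isUnramPt_of_isUnramifiedAt {k : Type u} [Field k] {R S : Type u} [CommRing R] [Algebra k R] [IsNoetherianRing R]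
    [CommRing S] [Algebra k S] [Algebra S R] [IsScalarTower k S R] [Algebra.EssFiniteType S R]
    (x : R →ₐ[k] k) (m : Ideal R) [m.IsPrime] (hm : m = RingHom.ker x) [Algebra.IsUnramifiedAt S m] :
    IsUnramPt S x := by
  classical
  have hxm : ∀ f : R, x f = 0 ↔ f ∈ m := fun f => by rw [hm]; exact Iff.rfl
  letI := Localization.AtPrime.algebraOfLiesOver (m.under S) m
  have hmap := ((Algebra.isUnramifiedAt_iff_map_eq S (m.under S) m).mp inferInstance).2
  have hstep : ∀ f ∈ m, ∃ s ∉ m, s * f ∈ Ideal.map (algebraMap S R) (m.under S) := fun f hf => by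
    have h1 : algebraMap R (Localization.AtPrime m) f ∈
        Ideal.map (algebraMap R (Localization.AtPrime m)) (Ideal.map (algebraMap S R) (m.under S)) := by
      rw [Ideal.map_map, ← IsScalarTower.algebraMap_eq, hmap, ← Localization.AtPrime.map_eq_maximalIdeal]
      exact Ideal.mem_map_of_mem _ hf
    obtain ⟨s, hs, h⟩ := (IsLocalization.algebraMap_mem_map_algebraMap_iff m.primeCompl _ _ _).mp h1
    exact ⟨s, hs, h⟩
  choose! s hs hsf using hstep
  obtain ⟨gens, hgens⟩ := IsNoetherian.noetherian m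
  refine ⟨∏ f ∈ gens, s f, ?_, fun f hf => ?_⟩
  · rw [map_prod, Finset.prod_ne_zero_iff]
    exact fun f hf h => hs f (hgens ▸ Submodule.subset_span hf) ((hxm _).mp h)
  · have hker : RingHom.ker (x.comp (IsScalarTower.toAlgHom k S R)) = m.under S :=
      Ideal.ext fun b => hxm _
    rw [hker]
    have hf' : f ∈ Submodule.span R (gens : Set R) := hgens.symm ▸ (hxm f).mp hf
    clear hf
    induction hf' using Submodule.span_induction with
    | mem f hf =>
      have hfm : f ∈ m := hgens ▸ Submodule.subset_span hf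
      rw [← Finset.prod_erase_mul _ _ (Finset.mem_coe.mp hf), mul_assoc]
      exact Ideal.mul_mem_left _ _ (hsf f hfm)
    | zero => rw [mul_zero]; exact zero_mem _
    | add u v _ _ hu hv => rw [mul_add]; exact add_mem hu hv
    | smul r u _ hu => rw [smul_eq_mul, mul_left_comm]; exact Ideal.mul_mem_left _ _ hu

theorem finiteType_of_range_eq_invariants {k : Type u} [Field k] {A : Type u} [CommRing A] [HopfAlgebra k A]
    {α : A →ₗ[k] k} (hα : IsIntegral k α) (h1 : α 1 = 1)
    (R : Type u) [CommRing R] [Algebra k R] [Algebra.FiniteType k R] [HopfRep.Comod k A R] [GLin.IsCoactAlg k A R]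
    (R₀ : Type u) [CommRing R₀] [Algebra k R₀] [Algebra R₀ R] [IsScalarTower k R₀ R]
    (hi : Function.Injective (algebraMap R₀ R))
    (hR₀ : (IsScalarTower.toAlgHom k R₀ R).range = GLin.invariants k A R) : Algebra.FiniteType k R₀ := by
  haveI : IsNoetherianRing R := Algebra.FiniteType.isNoetherianRing k R
  obtain ⟨t, ht⟩ := exists_finset_invariants_adjoin (C := R) hα h1
  haveI : Algebra.FiniteType k (GLin.invariants k A R) :=
    (Subalgebra.fg_iff_finiteType _).mp ⟨t, ht.symm⟩
  exact Algebra.FiniteType.equiv ‹_›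
    ((AlgEquiv.ofInjective (IsScalarTower.toAlgHom k R₀ R) hi).trans (Subalgebra.equivOfEq _ _ hR₀)).symm

set_option maxHeartbeats 1000000 in
/-- Luna's fundamental lemma, for connected groups and rational points. -/
theorem exists_stronglyEtale_nhd {k : Type u} [Field k] [IsAlgClosed k] {A : Type u} [CommRing A] [IsDomain A]
    [HopfAlgebra k A] [Algebra.FiniteType k A] {α : A →ₗ[k] k} (hα : IsIntegral k α) (h1 : α 1 = 1)
    {S : Type u} [CommRing S] [Algebra k S] [Algebra.FiniteType k S] [HopfRep.Comod k A S] [GLin.IsCoactAlg k A S]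
    {R : Type u} [CommRing R] [Algebra k R] [Algebra.FiniteType k R] [HopfRep.Comod k A R] [GLin.IsCoactAlg k A R]
    [Algebra S R] [IsScalarTower k S R]
    (hφ : Hoch.IsComodHom A (IsScalarTower.toAlgHom k S R).toLinearMap)
    {S₀ : Type u} [CommRing S₀] [Algebra k S₀] [Algebra S₀ S] [IsScalarTower k S₀ S]
    (hS₀i : Function.Injective (algebraMap S₀ S)) (hS₀ : (IsScalarTower.toAlgHom k S₀ S).range = GLin.invariants k A S)
    {R₀ : Type u} [CommRing R₀] [Algebra k R₀] [Algebra R₀ R] [IsScalarTower k R₀ R]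
    (hR₀i : Function.Injective (algebraMap R₀ R)) (hR₀ : (IsScalarTower.toAlgHom k R₀ R).range = GLin.invariants k A R)
    [Algebra S₀ R₀] [Algebra S₀ R] [IsScalarTower S₀ S R] [IsScalarTower S₀ R₀ R]
    (x : R →ₐ[k] k) (m : Ideal R) [m.IsPrime] (hm : m = RingHom.ker x) (het : Algebra.IsEtaleAt S m)
    (hy : GLin.IsClosedOrbit k A (x.comp (IsScalarTower.toAlgHom k S R)))
    (hinj : ∀ g : A →ₐ[k] k, GLin.actPt k g (x.comp (IsScalarTower.toAlgHom k S R)) =
      x.comp (IsScalarTower.toAlgHom k S R) → GLin.actPt k g x = x) :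
    ∃ (f : R₀) (g : S₀), x (algebraMap R₀ R (f * algebraMap S₀ R₀ g)) ≠ 0 ∧
      (∀ P : Ideal S, P.IsPrime → algebraMap S₀ S g ∉ P →
        ∃ Q : Ideal R, Q.IsPrime ∧ algebraMap R₀ R (f * algebraMap S₀ R₀ g) ∉ Q ∧ Q.comap (algebraMap S R) = P) ∧
      (∀ (Q : Ideal R) [Q.IsPrime], algebraMap R₀ R (f * algebraMap S₀ R₀ g) ∉ Q → Algebra.IsEtaleAt S Q) ∧
      (∀ x' : R →ₐ[k] k, x' (algebraMap R₀ R (f * algebraMap S₀ R₀ g)) ≠ 0 → GLin.IsClosedOrbit k A x' →
        GLin.IsClosedOrbit k A (x'.comp (IsScalarTower.toAlgHom k S R))) ∧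
      (∀ (q : Ideal R₀) [q.IsPrime], f * algebraMap S₀ R₀ g ∉ q → Algebra.IsEtaleAt S₀ q) ∧
      (∀ z : S ⊗[S₀] R₀, Algebra.TensorProduct.productMap (IsScalarTower.toAlgHom S₀ S R) (IsScalarTower.toAlgHom S₀ R₀ R) z = 0 →
        ∃ n : ℕ, ((1 : S) ⊗ₜ[S₀] (f * algebraMap S₀ R₀ g)) ^ n * z = 0) ∧
      (∀ r : R, ∃ (n : ℕ) (z : S ⊗[S₀] R₀),
        Algebra.TensorProduct.productMap (IsScalarTower.toAlgHom S₀ S R) (IsScalarTower.toAlgHom S₀ R₀ R) z =
          algebraMap R₀ R (f * algebraMap S₀ R₀ g) ^ n * r) := by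
  classical
  haveI : IsNoetherianRing R := Algebra.FiniteType.isNoetherianRing k R
  haveI : IsNoetherianRing S := Algebra.FiniteType.isNoetherianRing k S
  haveI : Algebra.FiniteType S R := Algebra.FiniteType.of_restrictScalars_finiteType k S R
  haveI : Algebra.FinitePresentation S R := Algebra.FinitePresentation.of_finiteType.mp inferInstance
  haveI : Algebra.FiniteType k S₀ := finiteType_of_range_eq_invariants hα h1 S S₀ hS₀i hS₀
  haveI : Algebra.FiniteType k R₀ := finiteType_of_range_eq_invariants hα h1 R R₀ hR₀i hR₀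
  haveI : IsNoetherianRing S₀ := Algebra.FiniteType.isNoetherianRing k S₀
  have hcompat : ∀ s₀ : S₀, algebraMap R₀ R (algebraMap S₀ R₀ s₀) = algebraMap S R (algebraMap S₀ S s₀) := fun s₀ => by
    rw [← IsScalarTower.algebraMap_apply S₀ R₀ R, ← IsScalarTower.algebraMap_apply S₀ S R]
  haveI : IsScalarTower k S₀ R₀ := IsScalarTower.of_algebraMap_eq fun c => hR₀i (by
    rw [hcompat, ← IsScalarTower.algebraMap_apply k S₀ S, ← IsScalarTower.algebraMap_apply k S R,
      ← IsScalarTower.algebraMap_apply k R₀ R])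
  haveI : Algebra.FiniteType S₀ R₀ := Algebra.FiniteType.of_restrictScalars_finiteType k S₀ R₀
  haveI := het
  have hR₀mem : ∀ r₀ : R₀, algebraMap R₀ R r₀ ∈ GLin.invariants k A R := fun r₀ => hR₀ ▸ ⟨r₀, rfl⟩
  have hS₀mem : ∀ s₀ : S₀, algebraMap S₀ S s₀ ∈ GLin.invariants k A S := fun s₀ => hS₀ ▸ ⟨s₀, rfl⟩
  have hR₀surj : ∀ r ∈ GLin.invariants k A R, ∃ r₀ : R₀, algebraMap R₀ R r₀ = r := fun r hr => by
    rw [← hR₀] at hr; exact hr
  -- the étale neighbourhood
  obtain ⟨a, ha, hetA⟩ := Algebra.exists_etale_of_isEtaleAt (R := S) m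
  haveI := hetA
  set Q := RingHom.ker (orbitHom k A x) with hQ
  have hQm : Q ≤ m := hm ▸ ker_orbitHom_le x
  haveI : Module.Finite S (R ⧸ Q) := finite_quotient_ker (exists_fg_sup_ker_eq_top hφ x hy fun hQp => by
    haveI := hQp
    haveI : Algebra.IsEtaleAt S Q := (Algebra.basicOpen_subset_etaleLocus_iff (R := S) (f := a)).mpr inferInstance
      (show (⟨Q, hQp⟩ : PrimeSpectrum R) ∈ (PrimeSpectrum.basicOpen a : Set (PrimeSpectrum R)) from
        fun h => ha (hQm h))
    infer_instance)
  have horb := exists_eq_actPt hφ x hy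
  have hu : ∀ g : A →ₐ[k] k, IsUnramPt S (GLin.actPt k g x) := fun g =>
    (isUnramPt_of_isUnramifiedAt x m hm).translate hφ g
  have hsurj := exists_sub_mem_ker_orbitHom (S := S) hφ x hu horb hinj
  have hQ2 := ker_orbitHom_le_map_sup_sq (S := S) hφ x hu horb hsurj
  have hpow := exists_sub_mem_pow hsurj hQ2
  haveI : Module.Flat S (Localization.AtPrime m) := by
    letI : Algebra (Localization.Away a) (Localization.AtPrime m) :=
      (IsLocalization.Away.lift a (g := algebraMap R (Localization.AtPrime m))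
        (IsLocalization.map_units (M := m.primeCompl) _ ⟨a, ha⟩)).toAlgebra
    haveI : IsScalarTower R (Localization.Away a) (Localization.AtPrime m) :=
      IsScalarTower.of_algebraMap_eq fun r => (IsLocalization.Away.lift_eq a _ r).symm
    haveI : IsScalarTower S (Localization.Away a) (Localization.AtPrime m) := IsScalarTower.to₁₃₄ S R _ _
    haveI : IsLocalization (m.primeCompl.map (algebraMap R (Localization.Away a))) (Localization.AtPrime m) :=
      IsLocalization.isLocalization_of_submonoid_le (Localization.Away a) (Localization.AtPrime m) (Submonoid.powers a)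
        m.primeCompl (Submonoid.powers_le.mpr ha)
    haveI : Module.Flat (Localization.Away a) (Localization.AtPrime m) :=
      IsLocalization.flat _ (m.primeCompl.map (algebraMap R (Localization.Away a)))
    exact Module.Flat.trans S (Localization.Away a) (Localization.AtPrime m)
  have hmodn := mem_pow_of_map_mem hφ x hy hQ2 m hm
  obtain ⟨fa, hxfa, hfa⟩ := exists_annihilator_ker hα h1 hφ hS₀ hR₀i hR₀ x hy hpow hmodn
  obtain ⟨fs, hxfs, hfs⟩ := exists_mul_pow_mem_range (S₀ := S₀) hα h1 hφ hR₀ x hy hsurj hQ2 m hm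
  -- where the map is étale
  let U : Submodule S R :=
    { carrier := {b | (PrimeSpectrum.basicOpen b : Set (PrimeSpectrum R)) ⊆ Algebra.etaleLocus S R}
      add_mem' := fun {b c} hb hc p hp => by
        by_cases hbp : b ∈ p.asIdeal
        · exact hc fun h => hp (p.asIdeal.add_mem hbp h)
        · exact hb hbp
      zero_mem' := fun p hp => absurd p.asIdeal.zero_mem hp
      smul_mem' := fun c b hb p hp => hb fun h => hp (by rw [Algebra.smul_def]; exact p.asIdeal.mul_mem_left _ h) }
  have hUmem : ∀ b, b ∈ U ↔ Algebra.Etale S (Localization.Away b) := fun b =>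
    Algebra.basicOpen_subset_etaleLocus_iff_etale
  obtain ⟨u, hu', huinv, hxu⟩ := exists_invariant_mem hα h1 hφ x hy hsurj U
    (fun g b hb => by
      haveI := (hUmem b).mp hb
      exact (hUmem _).mpr (etale_away_transHom hφ g b))
    (r := a) ((hUmem a).mpr hetA) (fun h => ha (hm ▸ h))
  obtain ⟨fe, rfl⟩ := hR₀surj u huinv
  set f := fe * fa * fs with hf
  have hxf : x (algebraMap R₀ R f) = 1 := by rw [hf, map_mul, map_mul, map_mul, map_mul, hxu, hxfa, hxfs]; simp
  let j := algebraMap R₀ R f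
  haveI hetj : Algebra.Etale S (Localization.Away j) := by
    refine (hUmem j).mp fun p hp => hu' fun h => hp ?_
    show algebraMap R₀ R f ∈ p.asIdeal
    rw [hf, map_mul, map_mul, mul_assoc]
    exact p.asIdeal.mul_mem_right _ h
  let θ := Algebra.TensorProduct.productMap (IsScalarTower.toAlgHom S₀ S R) (IsScalarTower.toAlgHom S₀ R₀ R)
  have hθ : ∀ c u, θ (c ⊗ₜ[S₀] u) = algebraMap S R c * algebraMap R₀ R u := fun c u => by
    simp [θ]
  have hker : ∀ z, θ z = 0 → ((1 : S) ⊗ₜ[S₀] f) * z = 0 := fun z hz => by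
    rw [hf, show fe * fa * fs = (fe * fs) * fa by ring,
      show (1 : S) ⊗ₜ[S₀] (fe * fs * fa) = ((1 : S) ⊗ₜ[S₀] (fe * fs)) * ((1 : S) ⊗ₜ[S₀] fa) by
        rw [Algebra.TensorProduct.tmul_mul_tmul, one_mul], mul_assoc, hfa z hz, mul_zero]
  have hrange : ∀ r : R, ∃ (n : ℕ) (z : S ⊗[S₀] R₀), θ z = j ^ n * r := fun r => by
    obtain ⟨n, z, hz⟩ := hfs r
    refine ⟨n, ((1 : S) ⊗ₜ[S₀] ((fe * fa) ^ n)) * z, ?_⟩
    have e : θ ((1 : S) ⊗ₜ[S₀] ((fe * fa) ^ n)) = algebraMap R₀ R ((fe * fa) ^ n) := by
      rw [hθ, map_one, one_mul]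
    rw [map_mul, show θ z = _ from hz, ← mul_assoc]
    erw [e]
    rw [← map_pow, ← map_mul, ← mul_pow, map_pow]
  -- the comparison isomorphism
  let L := Localization.Away f
  let jL : L →ₐ[S₀] Localization.Away j :=
    IsLocalization.liftAlgHom (M := Submonoid.powers f)
      (f := (IsScalarTower.toAlgHom S₀ R (Localization.Away j)).comp (IsScalarTower.toAlgHom S₀ R₀ R)) (by
        rintro ⟨_, n, rfl⟩
        show IsUnit (algebraMap R (Localization.Away j) (algebraMap R₀ R (f ^ n)))
        rw [map_pow, map_pow]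
        exact (IsLocalization.Away.algebraMap_isUnit j).pow n)
  have hjL : ∀ r₀ : R₀, jL (algebraMap R₀ L r₀) = algebraMap R (Localization.Away j) (algebraMap R₀ R r₀) :=
    fun r₀ => IsLocalization.lift_eq _ r₀
  let ψ : S ⊗[S₀] L →ₐ[S₀] Localization.Away j :=
    Algebra.TensorProduct.productMap (IsScalarTower.toAlgHom S₀ S (Localization.Away j)) jL
  have hψ : ∀ c l, ψ (c ⊗ₜ[S₀] l) = algebraMap S (Localization.Away j) c * jL l := fun c l => by
    simp [ψ]
  let ι : S ⊗[S₀] R₀ →ₐ[S₀] S ⊗[S₀] L :=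
    Algebra.TensorProduct.map (AlgHom.id S₀ S) (IsScalarTower.toAlgHom S₀ R₀ L)
  have hψι : ∀ z, ψ (ι z) = algebraMap R (Localization.Away j) (θ z) := fun z => by
    induction z using TensorProduct.induction_on with
    | zero => simp
    | tmul c r₀ =>
      show ψ (c ⊗ₜ[S₀] algebraMap R₀ L r₀) = _
      rw [hψ, hjL, hθ, map_mul, ← IsScalarTower.algebraMap_apply S R]
    | add p q hp hq => simp only [map_add, hp, hq]
  let v : S ⊗[S₀] L := (1 : S) ⊗ₜ[S₀] algebraMap R₀ L f
  have hv : IsUnit v :=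
    (IsLocalization.Away.algebraMap_isUnit (S := L) f).map
      (Algebra.TensorProduct.includeRight : L →ₐ[S₀] S ⊗[S₀] L)
  have hιf : ι ((1 : S) ⊗ₜ[S₀] f) = v := rfl
  have hclear : ∀ w : S ⊗[S₀] L, ∃ (n : ℕ) (z : S ⊗[S₀] R₀), v ^ n * w = ι z := fun w => by
    induction w using TensorProduct.induction_on with
    | zero => exact ⟨0, 0, by simp⟩
    | tmul c l =>
      obtain ⟨n, r₀, hr⟩ := IsLocalization.Away.surj f l
      refine ⟨n, c ⊗ₜ[S₀] r₀, ?_⟩
      show v ^ n * c ⊗ₜ[S₀] l = c ⊗ₜ[S₀] algebraMap R₀ L r₀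
      rw [← hr, Algebra.TensorProduct.tmul_pow, one_pow, Algebra.TensorProduct.tmul_mul_tmul, one_mul, mul_comm]
    | add p q hp hq =>
      obtain ⟨n, z, hz⟩ := hp
      obtain ⟨n', z', hz'⟩ := hq
      refine ⟨n + n', ((1 : S) ⊗ₜ[S₀] f) ^ n' * z + ((1 : S) ⊗ₜ[S₀] f) ^ n * z', ?_⟩
      rw [map_add, map_mul, map_mul, map_pow, map_pow, hιf, ← hz, ← hz', pow_add]
      ring
  have hψbij : Function.Bijective ψ := by
    constructor
    · rw [injective_iff_map_eq_zero]
      intro w hw
      obtain ⟨n, z, hz⟩ := hclear w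
      have h0 : algebraMap R (Localization.Away j) (θ z) = 0 := by
        rw [← hψι, ← hz, map_mul, hw, mul_zero]
      rw [IsLocalization.map_eq_zero_iff (Submonoid.powers j)] at h0
      obtain ⟨⟨_, i, rfl⟩, hi⟩ := h0
      have h2 := hker (((1 : S) ⊗ₜ[S₀] f) ^ i * z) (by
        rw [map_mul, map_pow, hθ, map_one, one_mul]; exact hi)
      have h3 := congrArg ι h2
      rw [map_mul, map_mul, map_pow, hιf, ← hz, map_zero, ← mul_assoc, ← mul_assoc] at h3
      exact ((hv.mul (hv.pow i)).mul (hv.pow n)).mul_right_eq_zero.mp (by simpa only [mul_assoc] using h3)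
    · intro y'
      obtain ⟨r, ⟨_, i, rfl⟩, rfl⟩ := IsLocalization.exists_mk'_eq (Submonoid.powers j) y'
      obtain ⟨n, z, hz⟩ := hrange r
      refine ⟨↑((hv.pow (n + i)).unit⁻¹) * ι z, ?_⟩
      have hu : IsUnit (algebraMap R (Localization.Away j) j) := IsLocalization.Away.algebraMap_isUnit j
      apply (hu.pow (n + i)).mul_left_cancel
      have hψv : ψ v = algebraMap R (Localization.Away j) j := by
        rw [← hιf, hψι, hθ, map_one, one_mul]
      rw [← hψv, ← map_pow, ← map_mul, ← mul_assoc, IsUnit.mul_val_inv, one_mul, hψι, map_pow, hψv, hz, pow_add, mul_assoc, ← map_pow,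
        ← map_pow, map_mul]
      congr 1
      · rw [map_pow]
      refine (IsLocalization.mk'_spec' (M := Submonoid.powers j) (Localization.Away j) r ⟨j ^ i, i, rfl⟩).symm.trans ?_
      show algebraMap R (Localization.Away j) (j ^ i) * _ = _
      rw [map_pow]
  let eψ : S ⊗[S₀] L ≃ₐ[S] Localization.Away j :=
    AlgEquiv.ofBijective
      ({ ψ.toRingHom with
         commutes' := fun s => by
           show ψ (s ⊗ₜ[S₀] 1) = _
           rw [hψ, map_one, mul_one] } : S ⊗[S₀] L →ₐ[S] Localization.Away j) hψbij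
  haveI : Algebra.Etale S (S ⊗[S₀] L) := Algebra.Etale.of_equiv eψ.symm
  -- descent to the invariants
  let es := (AlgEquiv.ofInjective (IsScalarTower.toAlgHom k S₀ S) hS₀i).trans (Subalgebra.equivOfEq _ _ hS₀)
  let ρ : S →ₗ[S₀] S₀ :=
    { toFun := fun s => es.symm ⟨rey α s, rey_mem_fixedPts hα s⟩
      map_add' := fun s t => by
        rw [← map_add]; exact congrArg _ (Subtype.ext (map_add (rey α) s t))
      map_smul' := fun c s => by
        apply es.injective
        rw [RingHom.id_apply, smul_eq_mul, map_mul, AlgEquiv.apply_symm_apply, AlgEquiv.apply_symm_apply]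
        refine Subtype.ext ?_
        show rey α (c • s) = algebraMap S₀ S c * rey α s
        rw [Algebra.smul_def, mul_comm, rey_mul_invariant _ (hS₀mem c), mul_comm] }
  have hρ : ρ 1 = 1 := by
    apply es.injective
    refine (AlgEquiv.apply_symm_apply es _).trans ((Subtype.ext ?_).trans (map_one es).symm)
    exact rey_of_fixed h1 ((GLin.invariants k A S).one_mem : (1 : S) ∈ HopfRep.fixedPts k A S)
  haveI : Algebra.FinitePresentation S₀ R₀ := Algebra.FinitePresentation.of_finiteType.mp inferInstance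
  haveI : Algebra.FinitePresentation R₀ L := IsLocalization.Away.finitePresentation f
  haveI : Algebra.FinitePresentation S₀ L := Algebra.FinitePresentation.trans S₀ R₀ L
  haveI hetL : Algebra.Etale S₀ L := etale_of_baseChange_of_retraction ρ hρ
  -- the image downstairs
  set q : Ideal R₀ := RingHom.ker (x.comp (IsScalarTower.toAlgHom k R₀ R)) with hq
  haveI : q.IsPrime := RingHom.ker_isPrime _
  have hfq : f ∉ q := fun h => by
    have h' : x (algebraMap R₀ R f) = 0 := h
    rw [hxf] at h'
    exact one_ne_zero h'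
  have hqimg : (⟨q.comap (algebraMap S₀ R₀), Ideal.IsPrime.comap _⟩ : PrimeSpectrum S₀) ∈
      Set.range (PrimeSpectrum.comap (algebraMap S₀ L)) := by
    obtain ⟨qL, hqL⟩ : (⟨q, inferInstance⟩ : PrimeSpectrum R₀) ∈ Set.range (PrimeSpectrum.comap (algebraMap R₀ L)) := by
      rw [PrimeSpectrum.localization_away_comap_range L f]
      exact hfq
    refine ⟨qL, ?_⟩
    rw [IsScalarTower.algebraMap_eq S₀ R₀ L, PrimeSpectrum.comap_comp_apply, hqL]
    rfl
  obtain ⟨_, ⟨_, ⟨g, rfl⟩, rfl⟩, hgq, hgsub⟩ := PrimeSpectrum.isBasis_basic_opens.exists_subset_of_mem_open hqimg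
    (PrimeSpectrum.isOpenMap_comap_of_hasGoingDown_of_finitePresentation (R := S₀) (S := L)).isOpen_range
  have hxg : x (algebraMap R₀ R (algebraMap S₀ R₀ g)) ≠ 0 := hgq
  refine ⟨f, g, ?_, ?_, ?_, ?_, ?_, ?_, ?_⟩
  · rw [map_mul, map_mul, hxf, one_mul]; exact hxg
  · intro P hP hgP
    haveI := hP
    obtain ⟨qL, hqL⟩ := hgsub (show (⟨P.comap (algebraMap S₀ S), Ideal.IsPrime.comap _⟩ : PrimeSpectrum S₀) ∈
      (PrimeSpectrum.basicOpen g : Set (PrimeSpectrum S₀)) from hgP)
    haveI := qL.isPrime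
    obtain ⟨M, hM, hMP⟩ := exists_prime_comap_includeLeft (S₀ := S₀) P qL.asIdeal (congrArg PrimeSpectrum.asIdeal hqL)
    haveI := hM
    let Q' : Ideal R := (M.comap eψ.symm.toRingEquiv.toRingHom).comap (algebraMap R (Localization.Away j))
    have hcomap : Q'.comap (algebraMap S R) = P := by
      rw [← hMP]
      ext s
      show eψ.symm (algebraMap R (Localization.Away j) (algebraMap S R s)) ∈ M ↔ s ⊗ₜ[S₀] (1 : L) ∈ M
      rw [← IsScalarTower.algebraMap_apply, AlgEquiv.commutes]
      rfl
    refine ⟨Q', Ideal.IsPrime.comap _, fun hmem => ?_, hcomap⟩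
    rw [map_mul] at hmem
    rcases (inferInstance : Q'.IsPrime).mem_or_mem hmem with h | h
    · have hunit : IsUnit (eψ.symm (algebraMap R (Localization.Away j) j)) :=
        (IsLocalization.Away.algebraMap_isUnit j).map _
      exact hM.ne_top (Ideal.eq_top_of_isUnit_mem _ h hunit)
    · rw [hcompat] at h
      exact hgP (hcomap ▸ Ideal.mem_comap.mpr h)
  · intro Q' _ hQ'
    refine (Algebra.basicOpen_subset_etaleLocus_iff (R := S) (f := j)).mpr inferInstance
      (show (⟨Q', inferInstance⟩ : PrimeSpectrum R) ∈ (PrimeSpectrum.basicOpen j : Set (PrimeSpectrum R)) from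
        fun h => hQ' ?_)
    rw [map_mul]
    exact Q'.mul_mem_right _ h
  · intro x' hx' hclosed
    set y' := x'.comp (IsScalarTower.toAlgHom k S R) with hy'
    obtain ⟨z, hz1, hz2⟩ := exists_minimal_orbit hα h1 y'
    have hclos : GLin.InOrbitClosure k A y' z := hz2 y' fun _ _ => rfl
    have hzinv : ∀ s₀ : S₀, z (algebraMap S₀ S s₀) = y' (algebraMap S₀ S s₀) := fun s₀ =>
      eq_of_closures_meet_invariant hclos (hS₀mem s₀)
    have hx'f : IsUnit (x' (algebraMap R₀ R f)) := by
      refine isUnit_iff_ne_zero.mpr fun h => hx' ?_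
      rw [map_mul, map_mul, h, zero_mul]
    let xL : L →+* k := IsLocalization.Away.lift f (g := x'.toRingHom.comp (algebraMap R₀ R)) hx'f
    have hxL : ∀ r₀, xL (algebraMap R₀ L r₀) = x' (algebraMap R₀ R r₀) := fun r₀ => IsLocalization.Away.lift_eq f _ r₀
    letI : Algebra S₀ k := (z.toRingHom.comp (algebraMap S₀ S)).toAlgebra
    let zS : S →ₐ[S₀] k := { z.toRingHom with commutes' := fun _ => rfl }
    have hxLc : ∀ s₀ : S₀, xL (algebraMap S₀ L s₀) = z (algebraMap S₀ S s₀) := fun s₀ => by
      rw [IsScalarTower.algebraMap_apply S₀ R₀ L, hxL, hcompat, hzinv]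
      rfl
    let xS : L →ₐ[S₀] k := { xL with commutes' := hxLc }
    let w₁ : S ⊗[S₀] L →ₐ[S₀] k := Algebra.TensorProduct.productMap zS xS
    let w₂ : R →+* k := w₁.toRingHom.comp (eψ.symm.toRingEquiv.toRingHom.comp (algebraMap R (Localization.Away j)))
    have hw₂S : ∀ s, w₂ (algebraMap S R s) = z s := fun s => by
      show w₁ (eψ.symm (algebraMap R (Localization.Away j) (algebraMap S R s))) = _
      rw [← IsScalarTower.algebraMap_apply, AlgEquiv.commutes]
      show w₁ (s ⊗ₜ[S₀] (1 : L)) = _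
      simp [w₁, zS]
    let x'' : R →ₐ[k] k :=
      { w₂ with commutes' := fun c => by
                  show w₂ (algebraMap k R c) = _
                  rw [IsScalarTower.algebraMap_apply k S R, hw₂S, AlgHom.commutes] }
    have hx''φ : x''.comp (IsScalarTower.toAlgHom k S R) = z := AlgHom.ext hw₂S
    have hx''j : ∀ r₀, x'' (algebraMap R₀ R r₀) = x' (algebraMap R₀ R r₀) := fun r₀ => by
      show w₁ (eψ.symm (algebraMap R (Localization.Away j) (algebraMap R₀ R r₀))) = _
      have e : eψ ((1 : S) ⊗ₜ[S₀] algebraMap R₀ L r₀) = algebraMap R (Localization.Away j) (algebraMap R₀ R r₀) := by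
        refine (show eψ _ = ψ _ from rfl).trans ?_
        rw [hψ, map_one, one_mul, hjL]
      rw [← e, AlgEquiv.symm_apply_apply, ← hxL r₀]
      simp [w₁, xS]
    obtain ⟨w, hw1, hw2⟩ := exists_closures_meet hα h1 x'' x' fun r hr => by
      obtain ⟨r₀, rfl⟩ := hR₀surj r hr
      exact hx''j r₀
    obtain ⟨g', rfl⟩ := mem_orbit_of_isClosedOrbit hclosed hw2
    have hkerx : RingHom.ker (orbitHom k A x'') ≤ RingHom.ker (orbitHom k A x') := by
      rw [← ker_orbitHom_actPt g' x']
      exact (inOrbitClosure_iff _ _).mp hw1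
    have hkerz : RingHom.ker (orbitHom k A z) ≤ RingHom.ker (orbitHom k A y') := by
      rw [← hx''φ, hy', ← ker_comp_eq hφ, ← ker_comp_eq hφ]
      exact Ideal.comap_mono hkerx
    have heq : RingHom.ker (orbitHom k A z) = RingHom.ker (orbitHom k A y') :=
      le_antisymm hkerz ((inOrbitClosure_iff _ _).mp hclos)
    refine isClosedOrbit_of_forall_mem fun w hw => ?_
    obtain ⟨g₁, rfl⟩ := hz1 w (show RingHom.ker (orbitHom k A z) ≤ RingHom.ker w from heq.le.trans hw)
    exact exists_actPt_of_ker_eq (by rw [ker_orbitHom_actPt, heq])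
  · intro q' _ hq'
    exact (Algebra.basicOpen_subset_etaleLocus_iff (R := S₀) (f := f)).mpr inferInstance
      (show (⟨q', inferInstance⟩ : PrimeSpectrum R₀) ∈ (PrimeSpectrum.basicOpen f : Set (PrimeSpectrum R₀)) from
        fun h => hq' (q'.mul_mem_right _ h))
  · intro z hz
    refine ⟨1, ?_⟩
    rw [pow_one, mul_comm f, show (1 : S) ⊗ₜ[S₀] (algebraMap S₀ R₀ g * f) =
      ((1 : S) ⊗ₜ[S₀] algebraMap S₀ R₀ g) * ((1 : S) ⊗ₜ[S₀] f) by
        rw [Algebra.TensorProduct.tmul_mul_tmul, one_mul], mul_assoc, hker z hz, mul_zero]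
  · intro r
    obtain ⟨n, z, hz⟩ := hrange r
    refine ⟨n, ((1 : S) ⊗ₜ[S₀] ((algebraMap S₀ R₀ g) ^ n)) * z, ?_⟩
    show θ _ = _
    rw [map_mul θ, hθ, map_one, one_mul, hz, map_mul, map_pow, mul_pow]
    ring

end Groth.Agent.GLinEt
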