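import Groth.Agent.ComodLib.Orbits
import Groth.Agent.ComodLib.Integral
import Mathlib.RingTheory.Filtration
import Mathlib.RingTheory.Finiteness.Nakayama
import Mathlib.RingTheory.Ideal.GoingUp

/-!
# A finite equivariant map near a closed orbit with the same stabiliser
-/

universe u v w w'

open TensorProduct WithConv

namespace Groth.Agent.GLinEt

open ComodLib GLin

section Trans

variable {k : Type u} [Field k] {A : Type v} [CommRing A] [HopfAlgebra k A]
variable {R : Type w} [CommRing R] [Algebra k R] [HopfRep.Comod k A R] [GLin.IsCoactAlg k A R]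

/-- Translation of functions by a rational point of the group. -/
noncomputable def transHom (g : A →ₐ[k] k) : R →ₐ[k] R :=
  (Algebra.TensorProduct.rid k k R).toAlgHom.comp
    ((Algebra.TensorProduct.map (AlgHom.id k R) g).comp (GLin.coactAlgHom k A R))

theorem transHom_apply (g : A →ₐ[k] k) (f : R) : transHom g f = actF g.toLinearMap f := by
  rw [actF_apply]
  show Algebra.TensorProduct.rid k k R (Algebra.TensorProduct.map (AlgHom.id k R) g
    (HopfRep.Comod.coact (k := k) (A := A) f)) = _
  induction HopfRep.Comod.coact (k := k) (A := A) f using TensorProduct.induction_on with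
  | zero => simp
  | tmul a b => simp
  | add p q hp hq => simp only [map_add, hp, hq]

theorem apply_transHom (g : A →ₐ[k] k) (x : R →ₐ[k] k) (f : R) : x (transHom g f) = actPt k g x f := by
  show _ = g (orbitHom k A x f)
  rw [orbitHom_apply, transHom_apply, actF_apply]
  induction HopfRep.Comod.coact (k := k) (A := A) f using TensorProduct.induction_on with
  | zero => simp
  | tmul a b => simp [_root_.mul_comm]
  | add p q hp hq => simp only [map_add, hp, hq]

theorem transHom_antipode (g : A →ₐ[k] k) (f : R) :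
    transHom (g.comp (HopfAlgebra.antipodeAlgHom k A)) (transHom g f) = f := by
  set h := g.comp (HopfAlgebra.antipodeAlgHom k A)
  rw [transHom_apply, transHom_apply, ← actF_convMul (toConv h.toLinearMap) (toConv g.toLinearMap) f]
  have key : (toConv h.toLinearMap * toConv g.toLinearMap).ofConv = Coalgebra.counit (R := k) (A := A) := by
    refine LinearMap.ext fun a => ?_
    have h1 : ∀ z : A ⊗[k] A, LinearMap.mul' k k (TensorProduct.map h.toLinearMap g.toLinearMap z) =
        g (LinearMap.mul' k A ((HopfAlgebra.antipode k).rTensor A z)) := fun z => by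
      induction z using TensorProduct.induction_on with
      | zero => simp
      | tmul p q => simp [h]
      | add p q hp hq => simp only [map_add, hp, hq]
    refine (h1 _).trans ?_
    rw [HopfAlgebra.mul_antipode_rTensor_comul_apply, AlgHom.commutes, Algebra.algebraMap_self_apply]
  rw [key, actF_counit]

variable {S : Type w'} [CommRing S] [Algebra k S] [HopfRep.Comod k A S] [GLin.IsCoactAlg k A S]

theorem orbitHom_comp (φ : S →ₐ[k] R) (hφ : Hoch.IsComodHom A φ.toLinearMap) (x : R →ₐ[k] k) :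
    (orbitHom k A x).comp φ = orbitHom k A (x.comp φ) := by
  refine AlgHom.ext fun s => ?_
  have h := LinearMap.congr_fun hφ s
  simp only [LinearMap.comp_apply, AlgHom.toLinearMap_apply] at h
  rw [AlgHom.comp_apply, orbitHom_apply, orbitHom_apply, h]
  induction HopfRep.Comod.coact (k := k) (A := A) s using TensorProduct.induction_on with
  | zero => simp
  | tmul a b => simp
  | add p q hp hq => simp only [map_add, hp, hq]

theorem actPt_comp (φ : S →ₐ[k] R) (hφ : Hoch.IsComodHom A φ.toLinearMap) (g : A →ₐ[k] k) (x : R →ₐ[k] k) :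
    (actPt k g x).comp φ = actPt k g (x.comp φ) := by
  show (g.comp (orbitHom k A x)).comp φ = g.comp (orbitHom k A (x.comp φ))
  rw [AlgHom.comp_assoc, orbitHom_comp φ hφ]

theorem transHom_comp (φ : S →ₐ[k] R) (hφ : Hoch.IsComodHom A φ.toLinearMap) (g : A →ₐ[k] k) (s : S) :
    transHom g (φ s) = φ (transHom g s) := by
  rw [transHom_apply, transHom_apply]
  exact (comodHom_actF hφ g.toLinearMap s).symm

end Trans

section Finite

variable {k : Type u} [Field k] {A : Type v} [CommRing A] [HopfAlgebra k A]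
variable {R : Type w} [CommRing R] [Algebra k R] [HopfRep.Comod k A R] [GLin.IsCoactAlg k A R]
variable {S : Type w'} [CommRing S] [Algebra k S] [HopfRep.Comod k A S] [GLin.IsCoactAlg k A S]
variable [Algebra S R] [IsScalarTower k S R]

variable (S) in
/-- At the point `x`, the fibre ideal is the maximal ideal up to a function not vanishing at `x`. -/
def IsUnramPt (x : R →ₐ[k] k) : Prop :=
  ∃ s : R, x s ≠ 0 ∧ ∀ f : R, x f = 0 →
    s * f ∈ Ideal.map (algebraMap S R) (RingHom.ker (x.comp (IsScalarTower.toAlgHom k S R)))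

theorem IsUnramPt.translate (hφ : Hoch.IsComodHom A (IsScalarTower.toAlgHom k S R).toLinearMap)
    {x : R →ₐ[k] k} (hx : IsUnramPt S x) (g : A →ₐ[k] k) : IsUnramPt S (GLin.actPt k g x) := by
  obtain ⟨s, hs, hsf⟩ := hx
  set h := g.comp (HopfAlgebra.antipodeAlgHom k A)
  have hx' : GLin.actPt k h (GLin.actPt k g x) = x := actPt_inv g x
  refine ⟨transHom h s, ?_, fun f hf => ?_⟩
  · rw [apply_transHom, hx']; exact hs
  · have hle : Ideal.map (algebraMap S R) (RingHom.ker (x.comp (IsScalarTower.toAlgHom k S R))) ≤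
        (Ideal.map (algebraMap S R)
          (RingHom.ker ((GLin.actPt k g x).comp (IsScalarTower.toAlgHom k S R)))).comap (transHom h).toRingHom := by
      rw [Ideal.map_le_iff_le_comap]
      intro b hb
      show transHom h ((IsScalarTower.toAlgHom k S R) b) ∈ Ideal.map (algebraMap S R) _
      rw [transHom_comp _ hφ]
      refine Ideal.mem_map_of_mem _ ?_
      rw [RingHom.mem_ker, AlgHom.comp_apply, ← transHom_comp _ hφ, apply_transHom, hx']
      exact hb
    have h1 := hle (hsf (transHom g f) (by rw [apply_transHom]; exact hf))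
    rw [Ideal.mem_comap, AlgHom.toRingHom_eq_coe, RingHom.coe_coe, map_mul, transHom_antipode] at h1
    exact h1

variable [IsAlgClosed k] [Algebra.FiniteType k R] [Algebra.FiniteType k S]

/-- The orbit maps isomorphically onto its image. -/
theorem exists_sub_mem_ker_orbitHom (hφ : Hoch.IsComodHom A (IsScalarTower.toAlgHom k S R).toLinearMap)
    (x : R →ₐ[k] k) [Module.Finite S (R ⧸ RingHom.ker (orbitHom k A x))] (hu : ∀ g : A →ₐ[k] k, IsUnramPt S (GLin.actPt k g x))
    (horb : ∀ z : R →ₐ[k] k, RingHom.ker (orbitHom k A x) ≤ RingHom.ker z → ∃ g : A →ₐ[k] k, z = GLin.actPt k g x)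
    (hinj : ∀ g : A →ₐ[k] k, GLin.actPt k g (x.comp (IsScalarTower.toAlgHom k S R)) =
      x.comp (IsScalarTower.toAlgHom k S R) → GLin.actPt k g x = x) (r : R) :
    ∃ a : S, r - algebraMap S R a ∈ RingHom.ker (orbitHom k A x) := by
  let Q : Ideal R := RingHom.ker (orbitHom k A x)
  let N : Submodule S R := LinearMap.range (Algebra.linearMap S R) ⊔ Q.restrictScalars S
  suffices hN : ∀ f : R, f ∈ N by
    obtain ⟨_, ⟨a, rfl⟩, q, hq, e⟩ := Submodule.mem_sup.mp (hN r)
    exact ⟨a, by rw [← e, Algebra.linearMap_apply, add_sub_cancel_left]; exact hq⟩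
  let C : Ideal S :=
    { carrier := {a | ∀ f : R, algebraMap S R a * f ∈ N}
      add_mem' := fun ha hb f => by rw [map_add, add_mul]; exact N.add_mem (ha f) (hb f)
      zero_mem' := fun f => by rw [map_zero, zero_mul]; exact N.zero_mem
      smul_mem' := fun c a ha f => by
        rw [smul_eq_mul, map_mul, mul_assoc, ← Algebra.smul_def]; exact N.smul_mem c (ha f) }
  by_contra hne
  have hC : C ≠ ⊤ := fun h => hne fun f => by
    simpa using ((h ▸ Submodule.mem_top : (1 : S) ∈ C) : ∀ f, algebraMap S R 1 * f ∈ N) f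
  obtain ⟨𝔶, h𝔶, hC𝔶⟩ := Ideal.exists_le_maximal C hC
  haveI := h𝔶
  have hPC : Q.comap (algebraMap S R) ≤ C := fun a ha f => Submodule.mem_sup_right (Q.mul_mem_right f ha)
  have hP : Q.comap (algebraMap S R) ≤ 𝔶 := hPC.trans hC𝔶
  haveI : Module.Finite S (R ⧸ Q) := ‹_›
  obtain ⟨Q₁, -, hQ₁, hQ₁c⟩ := Ideal.exists_ideal_over_prime_of_isIntegral 𝔶 (⊥ : Ideal (R ⧸ Q)) fun a ha =>
    hP (show algebraMap S R a ∈ Q from Ideal.Quotient.eq_zero_iff_mem.mp (Ideal.mem_bot.mp (Ideal.mem_comap.mp ha)))
  obtain ⟨Q', hQQ', hQ', hQ'c⟩ : ∃ Q' ≥ Q, Q'.IsPrime ∧ Q'.comap (algebraMap S R) = 𝔶 :=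
    ⟨Q₁.comap (Ideal.Quotient.mk Q), fun q hq => by
      rw [Ideal.mem_comap, Ideal.Quotient.eq_zero_iff_mem.mpr hq]; exact zero_mem _,
      Ideal.IsPrime.comap _, by rw [Ideal.comap_comap]; exact hQ₁c⟩
  haveI : Module.Finite S (R ⧸ N) := by
    refine Module.Finite.of_surjective (M := R ⧸ Q) (Submodule.liftQ (Q.restrictScalars S) N.mkQ (fun q hq => ?_) ∘ₗ
      (Submodule.Quotient.restrictScalarsEquiv S Q).symm.toLinearMap) ?_
    · rw [LinearMap.mem_ker, Submodule.mkQ_apply, Submodule.Quotient.mk_eq_zero]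
      exact Submodule.mem_sup_right hq
    · intro z
      obtain ⟨r, rfl⟩ := N.mkQ_surjective z
      exact ⟨Submodule.Quotient.mk r, rfl⟩
  obtain ⟨x', hx'⟩ := exists_point (k := k) Q' hQ'.ne_top
  obtain ⟨g, rfl⟩ := horb x' (hQQ'.trans hx')
  set x' := GLin.actPt k g x
  set y' := x'.comp (IsScalarTower.toAlgHom k S R) with hy'
  have hy : 𝔶 = RingHom.ker y' :=
    h𝔶.eq_of_le (RingHom.ker_ne_top _) fun a ha => by
      have : algebraMap S R a ∈ Q' := Ideal.mem_comap.mp (hQ'c ▸ ha)
      exact hx' this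
  let J : Ideal R := Q ⊔ Ideal.map (algebraMap S R) 𝔶
  have huniq : ∀ z : R →ₐ[k] k, J ≤ RingHom.ker z → z = x' := by
    intro z hz
    obtain ⟨g'', rfl⟩ := horb z (le_sup_left.trans hz)
    have hzy : (GLin.actPt k g'' x).comp (IsScalarTower.toAlgHom k S R) = y' := by
      refine (eq_of_ker_le fun a ha => ?_).symm
      rw [← hy] at ha
      exact hz (Submodule.mem_sup_right (Ideal.mem_map_of_mem _ ha))
    rw [hy', actPt_comp _ hφ, actPt_comp _ hφ] at hzy
    set gi := g.comp (HopfAlgebra.antipodeAlgHom k A)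
    have h3 : GLin.actPt k gi (GLin.actPt k g'' x) = x := by
      have h1 := congrArg (GLin.actPt k gi) hzy
      rw [actPt_inv, actPt_actPt] at h1
      rw [actPt_actPt]
      exact hinj _ h1
    have h4 := congrArg (GLin.actPt k (gi.comp (HopfAlgebra.antipodeAlgHom k A)))
      (h3.trans (actPt_inv g x).symm)
    rwa [actPt_inv, actPt_inv] at h4
  obtain ⟨s, hs, hsf⟩ := hu g
  rw [← hy', ← hy] at hsf
  have htop : J ⊔ Ideal.span {s} = ⊤ := by
    by_contra h
    obtain ⟨z, hz⟩ := exists_point (k := k) _ h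
    have e := huniq z (le_sup_left.trans hz)
    subst e
    exact hs (hz (Submodule.mem_sup_right (Ideal.mem_span_singleton_self s)))
  obtain ⟨j, hj, t, ht, hjt⟩ := Submodule.mem_sup.mp ((Ideal.eq_top_iff_one _).mp htop)
  obtain ⟨c, rfl⟩ := Ideal.mem_span_singleton'.mp ht
  have hJ : ∀ f, x' f = 0 → f ∈ J := fun f hf => by
    have : f = j * f + c * (s * f) := by rw [← mul_assoc, ← add_mul, hjt, one_mul]
    rw [this]
    exact J.add_mem (J.mul_mem_right f hj) (J.mul_mem_left c (Submodule.mem_sup_right (hsf f hf)))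
  have hle : (⊤ : Submodule S R) ≤ N ⊔ 𝔶 • ⊤ := by
    intro f _
    have h1 : f - algebraMap k R (x' f) ∈ J := hJ _ (by
      rw [map_sub, AlgHom.commutes, Algebra.algebraMap_self_apply, sub_self])
    obtain ⟨q, hq, m, hm, e⟩ := Submodule.mem_sup.mp h1
    rw [show f = (algebraMap k R (x' f) + q) + m by rw [add_assoc, e]; abel]
    refine Submodule.add_mem_sup (N.add_mem ?_ (Submodule.mem_sup_right hq)) ?_
    · exact Submodule.mem_sup_left ⟨algebraMap k S (x' f), (IsScalarTower.algebraMap_apply k S R _).symm⟩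
    · rwa [Ideal.smul_top_eq_map, Submodule.restrictScalars_mem]
  obtain ⟨c', hc', hcN⟩ := Submodule.exists_sub_one_mem_and_smul_eq_zero_of_fg_of_le_smul 𝔶
    (⊤ : Submodule S (R ⧸ N)) Module.Finite.fg_top (by
      have h := Submodule.map_mono (f := N.mkQ) hle
      rw [Submodule.map_sup, Submodule.mkQ_map_self, bot_sup_eq, Submodule.map_smul'', Submodule.map_top,
        Submodule.range_mkQ] at h
      exact h)
  have hc : c' ∈ C := fun f => by
    have h := hcN (N.mkQ f) Submodule.mem_top
    rw [← map_smul, Submodule.mkQ_apply, Submodule.Quotient.mk_eq_zero, Algebra.smul_def] at h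
    exact h
  exact h𝔶.ne_top ((Ideal.eq_top_iff_one _).mpr (by simpa using 𝔶.sub_mem (hC𝔶 hc) hc'))

omit [IsAlgClosed k] [Algebra.FiniteType k R] [Algebra.FiniteType k S] in
/-- Elements of an extended ideal come from the base up to a product. -/
theorem exists_mem_sub_mem_mul {Q M : Ideal R} (h0 : ∀ r : R, ∃ a : S, r - algebraMap S R a ∈ Q) {I : Ideal S}
    (hIM : ∀ a ∈ I, algebraMap S R a ∈ M) {u : R} (hu : u ∈ Ideal.map (algebraMap S R) I) :
    ∃ a ∈ I, u - algebraMap S R a ∈ M * Q := by
  induction hu using Submodule.span_induction with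
  | mem u hu =>
    obtain ⟨a, ha, rfl⟩ := hu
    exact ⟨a, ha, by rw [sub_self]; exact zero_mem _⟩
  | zero => exact ⟨0, zero_mem _, by rw [map_zero, sub_self]; exact zero_mem _⟩
  | add u v _ _ hu hv =>
    obtain ⟨a, ha, hu⟩ := hu
    obtain ⟨b, hb, hv⟩ := hv
    exact ⟨a + b, add_mem ha hb, by rw [map_add, add_sub_add_comm]; exact add_mem hu hv⟩
  | smul r u hu' hu =>
    obtain ⟨a, ha, hu⟩ := hu
    obtain ⟨b, hb⟩ := h0 r
    refine ⟨b * a, Ideal.mul_mem_left _ b ha, ?_⟩
    have e : r • u - algebraMap S R (b * a) =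
        r * (u - algebraMap S R a) + algebraMap S R a * (r - algebraMap S R b) := by
      rw [smul_eq_mul, map_mul]; ring
    rw [e]
    exact add_mem (Ideal.mul_mem_left _ r hu) (Ideal.mul_mem_mul (hIM a ha) hb)

/-- The ideal of the orbit is generated by the ideal of its image and its own square. -/
theorem ker_orbitHom_le_map_sup_sq (hφ : Hoch.IsComodHom A (IsScalarTower.toAlgHom k S R).toLinearMap)
    (x : R →ₐ[k] k) (hu : ∀ g : A →ₐ[k] k, IsUnramPt S (GLin.actPt k g x))
    (horb : ∀ z : R →ₐ[k] k, RingHom.ker (orbitHom k A x) ≤ RingHom.ker z → ∃ g : A →ₐ[k] k, z = GLin.actPt k g x)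
    (hsurj : ∀ r : R, ∃ a : S, r - algebraMap S R a ∈ RingHom.ker (orbitHom k A x)) :
    RingHom.ker (orbitHom k A x) ≤ Ideal.map (algebraMap S R) ((RingHom.ker (orbitHom k A x)).comap
      (algebraMap S R)) ⊔ RingHom.ker (orbitHom k A x) * RingHom.ker (orbitHom k A x) := by
  haveI : IsNoetherianRing R := Algebra.FiniteType.isNoetherianRing k R
  let Q : Ideal R := RingHom.ker (orbitHom k A x)
  let P : Ideal S := Q.comap (algebraMap S R)
  let I₂ : Ideal R := Ideal.map (algebraMap S R) P ⊔ Q * Q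
  let J : Ideal R := I₂.colon (Q : Set R)
  intro z hz
  by_contra hne
  have hJne : J ≠ ⊤ := fun h => hne (by
    simpa using Submodule.mem_colon.mp (h ▸ Submodule.mem_top : (1 : R) ∈ J) z hz)
  obtain ⟨x', hx'⟩ := exists_point (k := k) J hJne
  have hQx' : Q ≤ RingHom.ker x' := le_trans (fun q hq => Submodule.mem_colon.mpr fun q' hq' =>
    Submodule.mem_sup_right (Ideal.mul_mem_mul hq hq')) hx'
  obtain ⟨g, rfl⟩ := horb x' hQx'
  obtain ⟨s, hs, hsf⟩ := hu g
  set x' := GLin.actPt k g x
  set y' := x'.comp (IsScalarTower.toAlgHom k S R)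
  let m' : Ideal R := RingHom.ker x'
  have hstep : ∀ q ∈ Q, s * q ∈ I₂ ⊔ m' * Q := by
    intro q hq
    obtain ⟨a, ha, hu⟩ := exists_mem_sub_mem_mul (M := m') hsurj (I := RingHom.ker y') (fun a ha => ha)
      (hsf q (hQx' hq))
    have hu' : s * q - algebraMap S R a ∈ Q := (Ideal.mul_le_right : m' * Q ≤ Q) hu
    have haQ : algebraMap S R a ∈ Q := by
      have h := Q.sub_mem (Q.mul_mem_left s hq) hu'
      rwa [sub_sub_cancel] at h
    have haI : algebraMap S R a ∈ I₂ := Submodule.mem_sup_left (Ideal.mem_map_of_mem _ (show a ∈ P from haQ))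
    have h := Submodule.add_mem_sup haI hu
    rwa [add_sub_cancel] at h
  have hle : Q ≤ I₂ ⊔ m' • Q := by
    intro q hq
    rw [show m' • Q = m' * Q from smul_eq_mul _ _]
    set c := x' s
    have hc : s - algebraMap k R c ∈ m' := by
      show x' _ = 0
      rw [map_sub, AlgHom.commutes, Algebra.algebraMap_self_apply, sub_self]
    have e : q = algebraMap k R c⁻¹ * (s * q - (s - algebraMap k R c) * q) := by
      rw [show s * q - (s - algebraMap k R c) * q = algebraMap k R c * q by ring, ← mul_assoc, ← map_mul,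
        inv_mul_cancel₀ hs, map_one, one_mul]
    rw [e]
    exact Ideal.mul_mem_left _ _ (sub_mem (hstep q hq) (Submodule.mem_sup_right (Ideal.mul_mem_mul hc hq)))
  obtain ⟨r, hr, hrQ⟩ := Submodule.exists_sub_one_mem_and_smul_eq_zero_of_fg_of_le_smul m'
    (Submodule.map I₂.mkQ Q) ((IsNoetherian.noetherian Q).map _) (by
      have h := Submodule.map_mono (f := I₂.mkQ) hle
      rwa [Submodule.map_sup, Submodule.mkQ_map_self, bot_sup_eq, Submodule.map_smul''] at h)
  have hrJ : r ∈ J := Submodule.mem_colon.mpr fun q hq => by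
    have h := hrQ _ (Submodule.mem_map_of_mem hq)
    rwa [← map_smul, Submodule.mkQ_apply, Submodule.Quotient.mk_eq_zero] at h
  have : x' 1 = 0 := by
    have h1 : x' (r - 1) = 0 := hr
    have h2 : x' r = 0 := hx' hrJ
    rwa [map_sub, h2, zero_sub, neg_eq_zero] at h1
  exact one_ne_zero (this ▸ map_one x').symm

omit [IsAlgClosed k] [Algebra.FiniteType k R] [Algebra.FiniteType k S] in
/-- Every function is, to any order along the orbit, the pullback of a function. -/
theorem exists_sub_mem_pow {Q : Ideal R} (h0 : ∀ r : R, ∃ a : S, r - algebraMap S R a ∈ Q)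
    (h1 : Q ≤ Ideal.map (algebraMap S R) (Q.comap (algebraMap S R)) ⊔ Q * Q) (n : ℕ) (r : R) :
    ∃ a : S, r - algebraMap S R a ∈ Q ^ n := by
  have h2 : ∀ q ∈ Q, ∃ a : S, q - algebraMap S R a ∈ Q * Q := fun q hq => by
    obtain ⟨u, hu, w, hw, rfl⟩ := Submodule.mem_sup.mp (h1 hq)
    obtain ⟨a, -, ha⟩ := exists_mem_sub_mem_mul (M := Q) h0 (fun a ha => ha) hu
    exact ⟨a, by rw [add_sub_right_comm]; exact add_mem ha hw⟩
  have key : ∀ n, ∀ z ∈ Q ^ (n + 1), ∃ a : S, z - algebraMap S R a ∈ Q ^ (n + 2) := by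
    intro n
    induction n with
    | zero =>
      intro z hz
      rw [zero_add, pow_one] at hz
      rw [show (0 : ℕ) + 2 = 2 from rfl, pow_two]
      exact h2 z hz
    | succ n ih =>
      intro z hz
      rw [pow_succ] at hz
      induction hz using Submodule.mul_induction_on' with
      | add u _ v _ hu hv =>
        obtain ⟨a, ha⟩ := hu
        obtain ⟨b, hb⟩ := hv
        exact ⟨a + b, by rw [map_add, add_sub_add_comm]; exact add_mem ha hb⟩
      | mem_mul_mem p hp q hq =>
        obtain ⟨a, ha⟩ := ih p hp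
        obtain ⟨b, hb⟩ := h2 q hq
        refine ⟨a * b, ?_⟩
        have haQ : algebraMap S R a ∈ Q ^ (n + 1) := by
          have := sub_mem hp (Ideal.pow_le_pow_right (Nat.le_succ _) ha)
          simpa using this
        have e : p * q - algebraMap S R (a * b) =
            (p - algebraMap S R a) * q + algebraMap S R a * (q - algebraMap S R b) := by
          rw [map_mul]; ring
        rw [e, show n + 1 + 2 = (n + 2) + 1 from rfl]
        refine add_mem (by rw [pow_succ]; exact Ideal.mul_mem_mul ha hq) ?_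
        rw [show (n + 2) + 1 = (n + 1) + 2 from rfl, pow_add Q (n + 1) 2, pow_two]
        exact Ideal.mul_mem_mul haQ hb
  induction n with
  | zero => exact ⟨0, by rw [pow_zero, Ideal.one_eq_top]; trivial⟩
  | succ n ih =>
    rcases n with _ | n
    · simpa using h0 r
    · obtain ⟨a, ha⟩ := ih
      obtain ⟨b, hb⟩ := key n _ ha
      exact ⟨a + b, by rw [map_add, ← sub_sub]; exact hb⟩

end Finite

end Groth.Agent.GLinEt
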