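import Groth.Agent.GLinEt.Slice
import Groth.Agent.GLinEt.SubComod
import Groth.Agent.ComodLib.CartierChar0
import Groth.Agent.ComodLib.Invariants
import Mathlib.RingTheory.ZariskisMainTheorem
import Mathlib.RingTheory.RingHom.QuasiFinite
import Mathlib.RingTheory.MvPolynomial.Basic
import Mathlib.RingTheory.Localization.Away.Basic

/-!
# Quasi-finite equivariant maps extend to quasi-finite maps of normal varieties
-/

universe u

open TensorProduct

namespace Groth.Agent.GLinEt

open ComodLib GLin

section Poly

variable {k : Type u} [Field k] {A : Type u} [CommRing A] [HopfAlgebra k A]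
variable {W : Type u} [AddCommGroup W] [Module k W] [HopfRep.Comod k A W] {n : ℕ} (b : Module.Basis (Fin n) k W)

/-- A vector as a linear form. -/
noncomputable def polyL : W →ₗ[k] MvPolynomial (Fin n) k := b.constr k MvPolynomial.X

theorem polyL_basis (i : Fin n) : polyL b (b i) = MvPolynomial.X i := b.constr_basis k _ i

/-- The coaction on the polynomial functions. -/
noncomputable def polyRho : MvPolynomial (Fin n) k →ₐ[k] MvPolynomial (Fin n) k ⊗[k] A :=
  MvPolynomial.aeval fun i => (polyL b).rTensor A (HopfRep.Comod.coact (k := k) (A := A) (b i))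

theorem polyRho_comp_L :
    (polyRho (A := A) b).toLinearMap ∘ₗ polyL b = (polyL b).rTensor A ∘ₗ HopfRep.Comod.coact (k := k) (A := A) :=
  b.ext fun i => by simp [polyL_basis, polyRho]

theorem assoc_eq {V : Type u} [CommRing V] [Algebra k V] (ρ : V →ₐ[k] V ⊗[k] A) (f : V) :
    TensorProduct.assoc k V A A (ρ.toLinearMap.rTensor A (ρ f)) =
      (Algebra.TensorProduct.assoc k k k V A A).toAlgHom.comp
        ((Algebra.TensorProduct.map ρ (AlgHom.id k A)).comp ρ) f := by
  show _ = Algebra.TensorProduct.assoc k k k V A A (Algebra.TensorProduct.map ρ (AlgHom.id k A) (ρ f))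
  induction ρ f using TensorProduct.induction_on with
  | zero => simp
  | add p q hp hq => simp only [map_add, hp, hq]
  | tmul a c =>
    rw [LinearMap.rTensor_tmul, Algebra.TensorProduct.map_tmul, AlgHom.id_apply, AlgHom.toLinearMap_apply]
    induction ρ a using TensorProduct.induction_on with
    | zero => simp
    | add p q hp hq => simp only [TensorProduct.add_tmul, map_add, hp, hq]
    | tmul v w => simp

theorem comul_eq {V : Type u} [CommRing V] [Algebra k V] (ρ : V →ₐ[k] V ⊗[k] A) (f : V) :
    (Coalgebra.comul (R := k) (A := A)).lTensor V (ρ f) =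
      (Algebra.TensorProduct.map (AlgHom.id k V) (Bialgebra.comulAlgHom k A)).comp ρ f := by
  show _ = Algebra.TensorProduct.map (AlgHom.id k V) (Bialgebra.comulAlgHom k A) (ρ f)
  induction ρ f using TensorProduct.induction_on with
  | zero => simp
  | tmul a c => simp
  | add p q hp hq => simp only [map_add, hp, hq]

theorem counit_eq {V : Type u} [CommRing V] [Algebra k V] (ρ : V →ₐ[k] V ⊗[k] A) (f : V) :
    (Coalgebra.counit (R := k) (A := A)).lTensor V (ρ f) =
      (Algebra.TensorProduct.map (AlgHom.id k V) (Bialgebra.counitAlgHom k A)).comp ρ f := by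
  show _ = Algebra.TensorProduct.map (AlgHom.id k V) (Bialgebra.counitAlgHom k A) (ρ f)
  induction ρ f using TensorProduct.induction_on with
  | zero => simp
  | tmul a c => simp
  | add p q hp hq => simp only [map_add, hp, hq]

/-- The comodule structure on the polynomial functions. -/
@[reducible] noncomputable def polyComod : HopfRep.Comod k A (MvPolynomial (Fin n) k) where
  coact := (polyRho b).toLinearMap
  coassoc := by
    have key : (Algebra.TensorProduct.assoc k k k (MvPolynomial (Fin n) k) A A).toAlgHom.comp
        ((Algebra.TensorProduct.map (polyRho (A := A) b) (AlgHom.id k A)).comp (polyRho b)) =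
        (Algebra.TensorProduct.map (AlgHom.id k _) (Bialgebra.comulAlgHom k A)).comp (polyRho b) :=
      MvPolynomial.algHom_ext fun i => by
        rw [← assoc_eq, ← comul_eq, ← polyL_basis b i]
        exact ComodTens.coassoc_apply_of_hom (inferInstance : HopfRep.Comod k A W) _ (polyL b) (polyRho_comp_L b) (b i)
    refine LinearMap.ext fun f => ?_
    simp only [LinearMap.coe_comp, Function.comp_apply, LinearEquiv.coe_coe, AlgHom.toLinearMap_apply]
    rw [assoc_eq, key, ← comul_eq]
  counit_comp := by
    have key : (Algebra.TensorProduct.map (AlgHom.id k _) (Bialgebra.counitAlgHom k A)).comp (polyRho b) =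
        (Algebra.TensorProduct.includeLeft : MvPolynomial (Fin n) k →ₐ[k] _) :=
      MvPolynomial.algHom_ext fun i => by
        rw [← counit_eq, ← polyL_basis b i]
        exact ComodTens.counit_apply_of_hom (inferInstance : HopfRep.Comod k A W) _ (polyL b) (polyRho_comp_L b) (b i)
    refine LinearMap.ext fun f => ?_
    simp only [LinearMap.coe_comp, Function.comp_apply, AlgHom.toLinearMap_apply]
    rw [counit_eq, key]
    rfl

theorem isCoactAlg_poly : letI := polyComod (A := A) b; GLin.IsCoactAlg k A (MvPolynomial (Fin n) k) := by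
  letI := polyComod (A := A) b
  exact ⟨map_one (polyRho b), map_mul (polyRho b)⟩

end Poly

section Loc

variable {k : Type u} [Field k] {A : Type u} [CommRing A] [HopfAlgebra k A]
variable {P : Type u} [CommRing P] [Algebra k P] [HopfRep.Comod k A P] [GLin.IsCoactAlg k A P]

/-- The coaction on the locus where an invariant function does not vanish. -/
noncomputable def locRho (h : P) (hh : h ∈ GLin.invariants k A P) :
    Localization.Away h →ₐ[k] Localization.Away h ⊗[k] A :=
  IsLocalization.liftAlgHom (M := Submonoid.powers h)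
    (f := (Algebra.TensorProduct.map (IsScalarTower.toAlgHom k P (Localization.Away h)) (AlgHom.id k A)).comp
      (GLin.coactAlgHom k A P)) (by
    rintro ⟨_, m, rfl⟩
    show IsUnit (Algebra.TensorProduct.map (IsScalarTower.toAlgHom k P (Localization.Away h)) (AlgHom.id k A)
      (HopfRep.Comod.coact (k := k) (A := A) (h ^ m)))
    rw [show HopfRep.Comod.coact (k := k) (A := A) (h ^ m) = (h ^ m) ⊗ₜ[k] (1 : A) from
        (GLin.invariants k A P).pow_mem hh m, Algebra.TensorProduct.map_tmul, map_one, IsScalarTower.toAlgHom_apply, map_pow]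
    exact ((IsLocalization.Away.algebraMap_isUnit h).pow m).map
      (Algebra.TensorProduct.includeLeft : Localization.Away h →ₐ[k] Localization.Away h ⊗[k] A))

theorem locRho_algebraMap (h : P) (hh : h ∈ GLin.invariants k A P) (f : P) :
    locRho h hh (algebraMap P (Localization.Away h) f) =
      Algebra.TensorProduct.map (IsScalarTower.toAlgHom k P (Localization.Away h)) (AlgHom.id k A)
        (HopfRep.Comod.coact (k := k) (A := A) f) := by
  exact IsLocalization.lift_eq _ f

theorem locRho_comp (h : P) (hh : h ∈ GLin.invariants k A P) :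
    (locRho h hh).toLinearMap ∘ₗ (IsScalarTower.toAlgHom k P (Localization.Away h)).toLinearMap =
      (IsScalarTower.toAlgHom k P (Localization.Away h)).toLinearMap.rTensor A ∘ₗ
        HopfRep.Comod.coact (k := k) (A := A) :=
  LinearMap.ext fun f => (locRho_algebraMap h hh f).trans rfl

/-- The comodule structure on the localisation at an invariant function. -/
@[reducible] noncomputable def locComod (h : P) (hh : h ∈ GLin.invariants k A P) :
    HopfRep.Comod k A (Localization.Away h) where
  coact := (locRho h hh).toLinearMap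
  coassoc := by
    have key : (Algebra.TensorProduct.assoc k k k (Localization.Away h) A A).toAlgHom.comp
        ((Algebra.TensorProduct.map (locRho h hh) (AlgHom.id k A)).comp (locRho h hh)) =
        (Algebra.TensorProduct.map (AlgHom.id k _) (Bialgebra.comulAlgHom k A)).comp (locRho h hh) :=
      IsLocalization.algHom_ext (Submonoid.powers h) (AlgHom.ext fun f => by
        rw [AlgHom.comp_apply _ (Algebra.algHom k P (Localization.Away h)), AlgHom.comp_apply _ (Algebra.algHom k P (Localization.Away h)),
          ← assoc_eq, ← comul_eq]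
        exact ComodTens.coassoc_apply_of_hom (inferInstance : HopfRep.Comod k A P) _
          (IsScalarTower.toAlgHom k P (Localization.Away h)).toLinearMap (locRho_comp h hh) f)
    refine LinearMap.ext fun f => ?_
    simp only [LinearMap.coe_comp, Function.comp_apply, LinearEquiv.coe_coe, AlgHom.toLinearMap_apply]
    rw [assoc_eq, key, ← comul_eq]
  counit_comp := by
    have key : (Algebra.TensorProduct.map (AlgHom.id k _) (Bialgebra.counitAlgHom k A)).comp (locRho h hh) =
        (Algebra.TensorProduct.includeLeft : Localization.Away h →ₐ[k] _) :=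
      IsLocalization.algHom_ext (Submonoid.powers h) (AlgHom.ext fun f => by
        rw [AlgHom.comp_apply _ (Algebra.algHom k P (Localization.Away h)), AlgHom.comp_apply _ (Algebra.algHom k P (Localization.Away h)),
          ← counit_eq]
        exact ComodTens.counit_apply_of_hom (inferInstance : HopfRep.Comod k A P) _
          (IsScalarTower.toAlgHom k P (Localization.Away h)).toLinearMap (locRho_comp h hh) f)
    refine LinearMap.ext fun f => ?_
    simp only [LinearMap.coe_comp, Function.comp_apply, AlgHom.toLinearMap_apply]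
    rw [counit_eq, key]
    rfl

theorem isCoactAlg_loc (h : P) (hh : h ∈ GLin.invariants k A P) :
    letI := locComod h hh; GLin.IsCoactAlg k A (Localization.Away h) := by
  letI := locComod h hh
  exact ⟨map_one (locRho h hh), map_mul (locRho h hh)⟩

theorem isSubcomod_adjoin (s : Set P) {U : Submodule k P} (hU : HopfRep.IsSubcomod (k := k) (A := A) U)
    (hs : s = U) : HopfRep.IsSubcomod (k := k) (A := A) (Subalgebra.toSubmodule (Algebra.adjoin k s)) := by
  subst hs
  intro f hf
  have hle : Algebra.adjoin k (U : Set P) ≤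
      ((Algebra.TensorProduct.map (Algebra.adjoin k (U : Set P)).val (AlgHom.id k A)).range).comap (GLin.coactAlgHom k A P) := by
    rw [Algebra.adjoin_le_iff]
    intro u hu
    obtain ⟨y, hy⟩ := hU u hu
    rw [SetLike.mem_coe, Subalgebra.mem_comap, GLin.coactAlgHom_apply, ← hy]
    clear hy
    induction y using TensorProduct.induction_on with
    | zero => rw [map_zero]; exact zero_mem _
    | add p q hp hq => rw [map_add]; exact add_mem hp hq
    | tmul c a => exact ⟨(⟨c.1, Algebra.subset_adjoin c.2⟩ : Algebra.adjoin k (U : Set P)) ⊗ₜ[k] a, by simp⟩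
  obtain ⟨y, hy⟩ := hle hf
  refine ⟨y, ?_⟩
  rw [show HopfRep.Comod.coact (k := k) (A := A) f = _ from hy.symm]
  rfl

end Loc

section Main

variable {k : Type u} [Field k] [IsAlgClosed k] [CharZero k] {A : Type u} [CommRing A] [HopfAlgebra k A]
  [Algebra.FiniteType k A]

/-- An element off `p` on whose non-vanishing locus the algebra is quasi-finite. -/
theorem exists_away_quasiFinite {T P : Type u} [CommRing T] [CommRing P] [Algebra T P] [Algebra.FiniteType T P]
    (p : Ideal P) [p.IsPrime] [Algebra.QuasiFiniteAt T p] :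
    ∃ r : P, r ∉ p ∧ ((algebraMap P (Localization.Away r)).comp (algebraMap T P)).QuasiFinite := by
  obtain ⟨S'', hS'', r, hrp, H⟩ := Algebra.QuasiFiniteAt.exists_fg_and_exists_notMem_and_awayMap_bijective (R := T) p
  haveI : Module.Finite T S'' := ⟨(Submodule.fg_top _).mpr hS''⟩
  haveI : Algebra.QuasiFinite T (Localization.Away r) := .trans _ S'' _
  refine ⟨r.1, hrp, ?_⟩
  rw [← IsScalarTower.algebraMap_eq, RingHom.quasiFinite_algebraMap]
  exact .of_surjective_algHom (Localization.awayMapₐ S''.val r) H.2

theorem quasiFinite_of_forall_quasiFiniteAt {T P : Type u} [CommRing T] [CommRing P] [Algebra T P]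
    [Algebra.FiniteType T P] (h : ∀ (p : Ideal P) [p.IsPrime], Algebra.QuasiFiniteAt T p) :
    Algebra.QuasiFinite T P := by
  rw [Algebra.QuasiFinite.iff_finite_comap_preimage_singleton]
  intro q
  have hc : IsCompact (PrimeSpectrum.comap (algebraMap T P) ⁻¹' {q}) := by
    rw [isCompact_iff_compactSpace]
    exact (PrimeSpectrum.preimageHomeomorphFiber T P q).symm.compactSpace
  refine hc.finite (isDiscrete_iff_discreteTopology.mpr (discreteTopology_iff_isOpen_singleton.mpr ?_))
  rintro ⟨p, rfl⟩
  exact (Algebra.quasiFiniteAt_iff_isOpen_singleton_fiber p).mp (h p.asIdeal)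

theorem quasiFiniteAt_of_away {T P : Type u} [CommRing T] [CommRing P] [Algebra T P] (r : P)
    (hr : ((algebraMap P (Localization.Away r)).comp (algebraMap T P)).QuasiFinite) (p : Ideal P) [p.IsPrime] (hrp : r ∉ p) :
    Algebra.QuasiFiniteAt T p := by
  rw [← IsScalarTower.algebraMap_eq, RingHom.quasiFinite_algebraMap] at hr
  haveI := hr
  let f : Localization.Away r →ₐ[P] Localization.AtPrime p :=
    IsLocalization.Away.liftAlgHom r (f := Algebra.ofId _ _)
      (IsLocalization.map_units (M := p.primeCompl) (Localization.AtPrime p) ⟨r, hrp⟩)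
  refine .of_forall_exists_mul_mem_range (f.restrictScalars T) fun x => ?_
  obtain ⟨x, ⟨s, hs⟩, rfl⟩ := IsLocalization.exists_mk'_eq p.primeCompl x
  exact ⟨algebraMap _ _ s, by simpa using IsLocalization.map_units _ ⟨s, hs⟩, algebraMap _ _ x, by simp⟩

set_option maxHeartbeats 1000000 in
theorem exists_normal_extension {α : A →ₗ[k] k} (hα : IsIntegral k α) (h1 : α 1 = 1)
    {S : Type u} [CommRing S] [Algebra k S] [Algebra.FiniteType k S] [HopfRep.Comod k A S] [GLin.IsCoactAlg k A S]
    {R : Type u} [CommRing R] [Nontrivial R] [Algebra k R] [Algebra.FiniteType k R] [HopfRep.Comod k A R] [GLin.IsCoactAlg k A R]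
    [Algebra S R] [IsScalarTower k S R] [Algebra.QuasiFinite S R] (hinj : Function.Injective (algebraMap S R))
    (hφ : Hoch.IsComodHom A (IsScalarTower.toAlgHom k S R).toLinearMap) :
    ∃ (R' : Type u) (_ : CommRing R') (_ : IsDomain R') (_ : IsIntegrallyClosed R') (_ : Algebra k R')
      (_ : HopfRep.Comod k A R') (_ : GLin.IsCoactAlg k A R')
      (S' : Type u) (_ : CommRing S') (_ : IsDomain S') (_ : Algebra k S')
      (_ : HopfRep.Comod k A S') (_ : GLin.IsCoactAlg k A S'),
      Algebra.FiniteType k R' ∧ Algebra.FiniteType k S' ∧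
      ∃ (pR : R' →ₐ[k] R) (pS : S' →ₐ[k] S) (φ' : S' →ₐ[k] R'),
        Function.Surjective pR ∧ Function.Surjective pS ∧ Function.Injective φ' ∧ φ'.toRingHom.QuasiFinite ∧
        Hoch.IsComodHom A pR.toLinearMap ∧ Hoch.IsComodHom A pS.toLinearMap ∧ Hoch.IsComodHom A φ'.toLinearMap ∧
        pR.comp φ' = (IsScalarTower.toAlgHom k S R).comp pS := by
  classical
  haveI : _root_.IsReduced A := isReduced_of_charZero' (k := k) (A := A)
  -- generators
  obtain ⟨gR, hgR⟩ := (inferInstance : Algebra.FiniteType k R).out
  obtain ⟨W, hWfin, hgW, hW⟩ := exists_finite_subcomod_le (C := A) (k := k) (V := R) gR.finite_toSet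
  haveI := hWfin
  letI := subComod hW
  let b := Module.finBasis k W
  letI : HopfRep.Comod k A (MvPolynomial (Fin (Module.finrank k W)) k) := polyComod b
  haveI : GLin.IsCoactAlg k A (MvPolynomial (Fin (Module.finrank k W)) k) := isCoactAlg_poly b
  let p : MvPolynomial (Fin (Module.finrank k W)) k →ₐ[k] R := MvPolynomial.aeval fun i => (b i : R)
  have hpX : ∀ i, p (MvPolynomial.X i) = (b i : R) := fun i => MvPolynomial.aeval_X _ i
  have hpL : p.toLinearMap ∘ₗ polyL b = W.subtype := b.ext fun i => by simp [polyL_basis, hpX]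
  have hp : Hoch.IsComodHom A p.toLinearMap := by
    have key : (GLin.coactAlgHom k A R).comp p = (Algebra.TensorProduct.map p (AlgHom.id k A)).comp (polyRho b) :=
      MvPolynomial.algHom_ext fun i => by
        rw [AlgHom.comp_apply, AlgHom.comp_apply, hpX, GLin.coactAlgHom_apply, polyRho, MvPolynomial.aeval_X]
        show _ = p.toLinearMap.rTensor A ((polyL b).rTensor A (subCoact hW (b i)))
        rw [← LinearMap.rTensor_comp_apply, hpL, rTensor_subCoact]
    exact LinearMap.ext fun f => AlgHom.congr_fun key f
  have hps : Function.Surjective p := by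
    rw [← AlgHom.range_eq_top, eq_top_iff, ← hgR, Algebra.adjoin_le_iff]
    intro r hr
    obtain ⟨y, hy⟩ : ∃ y, (W.subtype : W →ₗ[k] R) y = r := ⟨⟨r, hgW hr⟩, rfl⟩
    exact ⟨polyL b y, (LinearMap.congr_fun hpL y).trans hy⟩
  -- the base
  let jS := IsScalarTower.toAlgHom k S R
  let Pre : Submodule k (MvPolynomial (Fin (Module.finrank k W)) k) := (LinearMap.range jS.toLinearMap).comap p.toLinearMap
  have hPre : HopfRep.IsSubcomod (k := k) (A := A) Pre := isSubcomod_comap hp (isSubcomod_range hφ)
  obtain ⟨gS, hgS⟩ := (inferInstance : Algebra.FiniteType k S).out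
  choose lift hlift using fun s : S => hps (algebraMap S R s)
  obtain ⟨gI, hgI⟩ := IsNoetherian.noetherian (RingHom.ker p : Ideal (MvPolynomial (Fin (Module.finrank k W)) k))
  obtain ⟨U₀, hU₀fin, hgU, hU₀⟩ := exists_finite_subcomod_le (C := A) (k := k)
    (V := MvPolynomial (Fin (Module.finrank k W)) k) ((gI ∪ gS.image lift).finite_toSet)
  haveI := hU₀fin
  let U := U₀ ⊓ Pre
  have hU : HopfRep.IsSubcomod (k := k) (A := A) U := isSubcomod_inf hU₀ hPre
  have hUI : ∀ f ∈ gI, f ∈ U := fun f hf =>
    ⟨hgU (Finset.mem_coe.mpr (Finset.mem_union_left _ hf)), 0, by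
      rw [map_zero]; exact (RingHom.mem_ker.mp (hgI ▸ Submodule.subset_span hf : f ∈ RingHom.ker p)).symm⟩
  have hUS : ∀ s ∈ gS, lift s ∈ U := fun s hs =>
    ⟨hgU (Finset.mem_coe.mpr (Finset.mem_union_right _ (Finset.mem_image_of_mem _ hs))), s, (hlift s).symm⟩
  haveI : Module.Finite k U := Submodule.finiteDimensional_inf_left _ _
  let S' := Algebra.adjoin k (U : Set (MvPolynomial (Fin (Module.finrank k W)) k))
  have hS' : HopfRep.IsSubcomod (k := k) (A := A) (Subalgebra.toSubmodule S') := isSubcomod_adjoin _ hU rfl
  letI := subalgComod hS'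
  haveI := isCoactAlg_sub hS'
  haveI : Algebra.FiniteType k S' := by
    obtain ⟨g, hg⟩ := Module.Finite.iff_fg.mp (inferInstance : Module.Finite k U)
    refine (Subalgebra.fg_iff_finiteType _).mp ⟨g, ?_⟩
    show Algebra.adjoin k (g : Set (MvPolynomial (Fin (Module.finrank k W)) k)) = Algebra.adjoin k (U : Set (MvPolynomial (Fin (Module.finrank k W)) k))
    rw [← hg, Algebra.adjoin_span]
  have hS'range : ∀ f : S', p f.1 ∈ jS.range := fun f => by
    have hle : S' ≤ jS.range.comap p := Algebra.adjoin_le_iff.mpr fun u hu => hu.2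
    exact hle f.2
  let e := AlgEquiv.ofInjective jS hinj
  let pS : S' →ₐ[k] S := e.symm.toAlgHom.comp ((p.comp S'.val).codRestrict jS.range hS'range)
  have hpS : ∀ f : S', algebraMap S R (pS f) = p f.1 := fun f => by
    show ((e (e.symm _)) : R) = _
    rw [AlgEquiv.apply_symm_apply]
    rfl
  have hpSs : Function.Surjective pS := by
    rw [← AlgHom.range_eq_top, eq_top_iff, ← hgS, Algebra.adjoin_le_iff]
    exact fun s hs => ⟨⟨lift s, Algebra.subset_adjoin (hUS s hs)⟩, hinj ((hpS _).trans (hlift s))⟩
  -- quasi-finiteness near `Spec R`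
  haveI : Algebra.FiniteType S' (MvPolynomial (Fin (Module.finrank k W)) k) :=
    Algebra.FiniteType.of_restrictScalars_finiteType k S' _
  have hQF : ∀ (P : Ideal (MvPolynomial (Fin (Module.finrank k W)) k)) [P.IsPrime],
      RingHom.ker p ≤ P → Algebra.QuasiFiniteAt S' P := by
    intro P hP hIP
    refine Algebra.QuasiFiniteAt.of_isOpen_singleton_fiber ⟨P, hP⟩ ?_
    set q : PrimeSpectrum S' := PrimeSpectrum.comap (algebraMap S' _) ⟨P, hP⟩
    have hIF : ∀ Q : PrimeSpectrum (MvPolynomial (Fin (Module.finrank k W)) k),
        PrimeSpectrum.comap (algebraMap S' _) Q = q → ∃ Qb : PrimeSpectrum R, PrimeSpectrum.comap p.toRingHom Qb = Q := by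
      intro Q hQ
      have hIQ : RingHom.ker p ≤ Q.asIdeal := by
        rw [← hgI, Submodule.span_le]
        intro f hf
        have h2 : (⟨f, Algebra.subset_adjoin (hUI f hf)⟩ : S') ∈ q.asIdeal :=
          hIP (hgI ▸ Submodule.subset_span hf : f ∈ RingHom.ker p)
        rw [← hQ] at h2
        exact h2
      have h := range_comap_of_surjective R p.toRingHom hps
      exact h.ge hIQ
    obtain ⟨Pb, hPb⟩ := hIF ⟨P, hP⟩ rfl
    have hbase : ∀ Qb : PrimeSpectrum R,
        PrimeSpectrum.comap (algebraMap S' _) (PrimeSpectrum.comap p.toRingHom Qb) =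
          PrimeSpectrum.comap pS.toRingHom (PrimeSpectrum.comap (algebraMap S R) Qb) := fun Qb => by
      ext f
      show p f.1 ∈ Qb.asIdeal ↔ algebraMap S R (pS f) ∈ Qb.asIdeal
      rw [hpS]
    have hsame : ∀ Qb : PrimeSpectrum R,
        PrimeSpectrum.comap (algebraMap S' _) (PrimeSpectrum.comap p.toRingHom Qb) = q →
          PrimeSpectrum.comap (algebraMap S R) Qb = PrimeSpectrum.comap (algebraMap S R) Pb := fun Qb hQb => by
      refine PrimeSpectrum.comap_injective_of_surjective pS.toRingHom hpSs ?_
      rw [← hbase, ← hbase, hQb, hPb]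
    set F := PrimeSpectrum.comap (algebraMap S' (MvPolynomial (Fin (Module.finrank k W)) k)) ⁻¹' {q}
    have hfin : F.Finite := by
      refine ((Algebra.QuasiFinite.finite_comap_preimage_singleton (R := S) (S := R)
        (PrimeSpectrum.comap (algebraMap S R) Pb)).image (PrimeSpectrum.comap p.toRingHom)).subset ?_
      intro Q hQ
      obtain ⟨Qb, rfl⟩ := hIF Q hQ
      exact ⟨Qb, hsame Qb hQ, rfl⟩
    haveI : Finite F := hfin.to_subtype
    haveI : T1Space F := t1Space_iff_specializes_imp_eq.mpr fun Q Q' hQQ' => by
      have hle : Q.1.asIdeal ≤ Q'.1.asIdeal :=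
        (PrimeSpectrum.le_iff_specializes Q.1 Q'.1).mpr (hQQ'.map continuous_subtype_val)
      obtain ⟨Qb, hQb⟩ := hIF Q.1 Q.2
      obtain ⟨Qb', hQb'⟩ := hIF Q'.1 Q'.2
      have hle' : Qb.asIdeal ≤ Qb'.asIdeal := fun r hr => by
        obtain ⟨f, rfl⟩ := hps r
        have h : f ∈ Q.1.asIdeal := by rw [← hQb]; exact hr
        have h' := hle h
        rw [← hQb'] at h'
        exact h'
      have h := Algebra.QuasiFinite.eq_of_le_of_under_eq (R := S) Qb.asIdeal Qb'.asIdeal hle'
        (congrArg PrimeSpectrum.asIdeal ((hsame Qb (by rw [hQb]; exact Q.2)).trans (hsame Qb' (by rw [hQb']; exact Q'.2)).symm))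
      exact Subtype.ext (by rw [← hQb, ← hQb', PrimeSpectrum.ext h])
    exact isOpen_discrete _
  -- an invariant function
  let good : Set (MvPolynomial (Fin (Module.finrank k W)) k) :=
    {r | ((algebraMap (MvPolynomial (Fin (Module.finrank k W)) k) (Localization.Away r)).comp S'.val.toRingHom).QuasiFinite}
  let J := Ideal.span good
  have hJ : HopfRep.IsSubcomod (k := k) (A := A) (J.restrictScalars k) := by
    refine isSubcomod_of_forall_act fun g u hu => ?_
    rw [transHom_eq_act]
    have hgoodg : ∀ r ∈ good, transHom g r ∈ good := by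
      intro r hr
      let σ := transEquiv (MvPolynomial (Fin (Module.finrank k W)) k) g
      let e' : Localization.Away r ≃+* Localization.Away (transHom g r) :=
        IsLocalization.ringEquivOfRingEquiv _ _ σ.toRingEquiv (M := Submonoid.powers r)
          (T := Submonoid.powers (transHom g r)) (by rw [Submonoid.map_powers]; rfl)
      let gi := g.comp (HopfAlgebra.antipodeAlgHom k A)
      have hmem : ∀ (h : A →ₐ[k] k) (f : S'), transHom h f.1 ∈ S' := fun h f => by
        rw [transHom_apply]
        exact subcomod_actF_mem hS' h.toLinearMap f.2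
      let σ' : S' ≃+* S' :=
        { ((σ.symm.toAlgHom.comp S'.val).codRestrict S' fun f => hmem gi f).toRingHom with
          invFun := fun f => ⟨σ f.1, hmem g f⟩
          left_inv := fun f => Subtype.ext (σ.apply_symm_apply f.1)
          right_inv := fun f => Subtype.ext (σ.symm_apply_apply f.1) }
      have hcomp : (algebraMap (MvPolynomial (Fin (Module.finrank k W)) k) (Localization.Away (transHom g r))).comp
          S'.val.toRingHom = ((e' : Localization.Away r →+* _).comp
            ((algebraMap (MvPolynomial (Fin (Module.finrank k W)) k) (Localization.Away r)).comp S'.val.toRingHom)).comp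
              (σ' : S' →+* S') := by
        refine RingHom.ext fun f => ?_
        show algebraMap (MvPolynomial (Fin (Module.finrank k W)) k) _ f.1 = e' (algebraMap _ _ (σ.symm f.1))
        rw [IsLocalization.ringEquivOfRingEquiv_eq]
        exact congrArg _ (σ.apply_symm_apply f.1).symm
      show RingHom.QuasiFinite _
      rw [hcomp]
      exact RingHom.QuasiFinite.comp (RingHom.QuasiFinite.comp (.of_finite e'.finite) hr) (.of_finite σ'.finite)
    have hmap : J.map (transHom (A := A) g : MvPolynomial (Fin (Module.finrank k W)) k →ₐ[k] _).toRingHom ≤ J := by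
      rw [Ideal.map_span]
      exact Ideal.span_mono (Set.image_subset_iff.mpr hgoodg)
    exact hmap (Ideal.mem_map_of_mem _ hu)
  have htop : J ⊔ RingHom.ker p = ⊤ := by
    by_contra hne
    obtain ⟨M, hM, hle⟩ := Ideal.exists_le_maximal _ hne
    haveI := hQF M (le_sup_right.trans hle)
    obtain ⟨r, hr, hgood⟩ := exists_away_quasiFinite (T := S') M
    exact hr (hle (Submodule.mem_sup_left (Ideal.subset_span (show r ∈ good from hgood))))
  obtain ⟨a, ha, c, hc, hac⟩ := Submodule.mem_sup.mp ((Ideal.eq_top_iff_one _).mp htop)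
  set h := rey α a with hh
  have hhinv : h ∈ GLin.invariants k A (MvPolynomial (Fin (Module.finrank k W)) k) := rey_mem_fixedPts hα a
  have hph : p h = 1 := by
    have h2 := map_rey (α := α) hp a
    simp only [AlgHom.toLinearMap_apply] at h2
    have hpa : p a = 1 := by rw [← map_one p, ← hac, map_add, show p c = 0 from hc, add_zero]
    rw [hh, h2, hpa, rey_of_fixed h1 (show (1 : R) ∈ HopfRep.fixedPts k A R from (GLin.invariants k A R).one_mem)]
  have hhJ : h ∈ J := rey_mem_of_isSubcomod hJ ha
  have hh0 : h ≠ 0 := fun h0 => one_ne_zero (α := R) (by rw [← hph, h0, map_zero])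
  letI := locComod h hhinv
  haveI := isCoactAlg_loc h hhinv
  haveI : IsDomain (Localization.Away h) :=
    IsLocalization.isDomain_localization (powers_le_nonZeroDivisors_of_noZeroDivisors hh0)
  haveI : IsIntegrallyClosed (Localization.Away h) :=
    isIntegrallyClosed_of_isLocalization _ (Submonoid.powers h) (powers_le_nonZeroDivisors_of_noZeroDivisors hh0)
  haveI : Algebra.FiniteType k (Localization.Away h) :=
    Algebra.FiniteType.trans (S := MvPolynomial (Fin (Module.finrank k W)) k) inferInstance
      (IsLocalization.finiteType_of_monoid_fg (Submonoid.powers h) _)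
  let pR : Localization.Away h →ₐ[k] R := IsLocalization.liftAlgHom (M := Submonoid.powers h) (f := p) (by
    rintro ⟨_, m, rfl⟩
    show IsUnit (p (h ^ m))
    rw [map_pow, hph, one_pow]
    exact isUnit_one)
  have hpR : ∀ f, pR (algebraMap _ _ f) = p f := fun f => IsLocalization.lift_eq _ f
  haveI : Algebra.QuasiFinite S' (Localization.Away h) := by
    haveI : Algebra.FiniteType S' (Localization.Away h) := Algebra.FiniteType.of_restrictScalars_finiteType k S' _
    refine quasiFinite_of_forall_quasiFiniteAt fun P hP => ?_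
    set P₀ := P.comap (algebraMap (MvPolynomial (Fin (Module.finrank k W)) k) (Localization.Away h))
    have hhP : h ∉ P₀ := fun hmem => hP.ne_top (Ideal.eq_top_of_isUnit_mem _ hmem (IsLocalization.Away.algebraMap_isUnit h))
    obtain ⟨r, hrgood, hr⟩ : ∃ r ∈ good, r ∉ P₀ := by
      by_contra hall
      push Not at hall
      exact hhP (Ideal.span_le.mpr hall hhJ)
    haveI : Algebra.QuasiFiniteAt S' P₀ :=
      quasiFiniteAt_of_away r hrgood P₀ hr
    exact Algebra.QuasiFiniteAt.of_surjectiveOnStalks P₀ (IsScalarTower.toAlgHom S' _ _)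
      (RingHom.surjectiveOnStalks_of_isLocalization (Submonoid.powers h) _) P rfl
  refine ⟨Localization.Away h, inferInstance, inferInstance, inferInstance, inferInstance, inferInstance, inferInstance,
    S', inferInstance, inferInstance, inferInstance, inferInstance, inferInstance, inferInstance, inferInstance,
    pR, pS, IsScalarTower.toAlgHom k S' (Localization.Away h), ?_, hpSs, ?_, ?_, ?_, ?_, ?_, ?_⟩
  · exact fun r => (hps r).imp' (algebraMap _ _) fun f hf => (hpR f).trans hf
  · show Function.Injective ((algebraMap (MvPolynomial (Fin (Module.finrank k W)) k) (Localization.Away h)).comp S'.val.toRingHom)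
    exact (IsLocalization.injective _ (powers_le_nonZeroDivisors_of_noZeroDivisors hh0)).comp Subtype.val_injective
  · exact RingHom.quasiFinite_algebraMap.mpr inferInstance
  · have key : (GLin.coactAlgHom k A R).comp pR =
        (Algebra.TensorProduct.map pR (AlgHom.id k A)).comp (locRho h hhinv) :=
      IsLocalization.algHom_ext (Submonoid.powers h) (AlgHom.ext fun f => by
        show GLin.coactAlgHom k A R (pR (algebraMap _ _ f)) = Algebra.TensorProduct.map pR (AlgHom.id k A) (locRho h hhinv (algebraMap _ _ f))
        rw [hpR, locRho_algebraMap, ← AlgHom.comp_apply (Algebra.TensorProduct.map pR _), ← Algebra.TensorProduct.map_comp,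
          AlgHom.id_comp, show pR.comp (IsScalarTower.toAlgHom k _ (Localization.Away h)) = p from AlgHom.ext hpR]
        exact LinearMap.congr_fun hp f)
    exact LinearMap.ext fun f => AlgHom.congr_fun key f
  · refine LinearMap.ext fun f => ?_
    apply Module.Flat.rTensor_preserves_injective_linearMap (M := A) jS.toLinearMap hinj
    show jS.toLinearMap.rTensor A (HopfRep.Comod.coact (k := k) (A := A) (pS f)) =
      jS.toLinearMap.rTensor A (pS.toLinearMap.rTensor A (HopfRep.Comod.coact (k := k) (A := A) f))
    rw [← LinearMap.rTensor_comp_apply,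
      show jS.toLinearMap ∘ₗ pS.toLinearMap = p.toLinearMap ∘ₗ S'.val.toLinearMap from LinearMap.ext hpS,
      LinearMap.rTensor_comp_apply]
    refine (LinearMap.congr_fun hφ (pS f)).symm.trans ?_
    show HopfRep.Comod.coact (k := k) (A := A) (algebraMap S R (pS f)) = _
    rw [hpS]
    refine (LinearMap.congr_fun hp f.1).trans ?_
    show p.toLinearMap.rTensor A _ = _
    rw [← rTensor_subCoact hS' f]
    rfl
  · refine LinearMap.ext fun f => ?_
    refine (locRho_algebraMap h hhinv f.1).trans ?_
    rw [← map_val_coact hS' f, ← AlgHom.comp_apply, ← Algebra.TensorProduct.map_comp, AlgHom.id_comp]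
    rfl
  · exact AlgHom.ext fun f => (hpR f.1).trans (hpS f).symm

end Main

end Groth.Agent.GLinEt
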