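import Groth.Agent.GLinEt.Finite
import Groth.Prelude.Def_ComodTens
import Groth.Prelude.Def_ComodSub
import Mathlib.RingTheory.Kaehler.Basic
import Mathlib.RingTheory.TensorProduct.Maps
import Mathlib.RingTheory.Smooth.Basic

/-!
# An averaged section of the conormal of a graph
-/

universe u

open TensorProduct WithConv

namespace Groth.Agent.GLinEt

open ComodLib GLin

section Trans

variable {k : Type u} [Field k] {A : Type u} [CommRing A] [HopfAlgebra k A]
variable {R : Type u} [CommRing R] [Algebra k R] [HopfRep.Comod k A R] [GLin.IsCoactAlg k A R]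

theorem transHom_transHom (h g : A →ₐ[k] k) (f : R) :
    transHom h (transHom g f) = transHom (g.comp (translatePt h)) f := by
  rw [transHom_apply, transHom_apply, transHom_apply, ← actF_convMul (toConv h.toLinearMap) (toConv g.toLinearMap) f]
  refine LinearMap.congr_fun (congrArg actF (LinearMap.ext fun a => ?_)) f
  show LinearMap.mul' k k (TensorProduct.map h.toLinearMap g.toLinearMap (Coalgebra.comul (R := k) a)) =
    g (Algebra.TensorProduct.lid k A
      (Algebra.TensorProduct.map h (AlgHom.id k A) (Coalgebra.comul (R := k) a)))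
  induction Coalgebra.comul (R := k) a using TensorProduct.induction_on with
  | zero => simp
  | tmul p q => simp
  | add p q hp hq => simp only [map_add, hp, hq]

theorem integral_translatePt {α : A →ₗ[k] k} (hα : ComodLib.IsIntegral k α) (h1 : α 1 = 1) (h : A →ₐ[k] k) (a : A) :
    α (translatePt h a) = α a := by
  have hr : IsRightIntegral k α := by
    have := hα.isRightIntegral_antipode
    rwa [comp_antipode_eq hα h1] at this
  have e : ∀ z : A ⊗[k] A, α (Algebra.TensorProduct.lid k A (Algebra.TensorProduct.map h (AlgHom.id k A) z)) =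
      TensorProduct.rid k k (h.toLinearMap.rTensor k (α.lTensor A z)) := fun z => by
    induction z using TensorProduct.induction_on with
    | zero => simp
    | tmul p q => simp [_root_.mul_comm]
    | add p q hp hq => simp only [map_add, hp, hq]
  refine (e _).trans ?_
  show TensorProduct.rid k k (h.toLinearMap.rTensor k (α.lTensor A (Coalgebra.comul (R := k) a))) = α a
  rw [hr a]
  simp

variable (R) in
/-- The translation as an automorphism. -/
noncomputable def transEquiv (g : A →ₐ[k] k) : R ≃ₐ[k] R :=
  AlgEquiv.ofAlgHom (transHom g) (transHom (g.comp (HopfAlgebra.antipodeAlgHom k A)))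
    (AlgHom.ext fun f => by
      have h := transHom_antipode (g.comp (HopfAlgebra.antipodeAlgHom k A)) f
      rwa [show (g.comp (HopfAlgebra.antipodeAlgHom k A)).comp (HopfAlgebra.antipodeAlgHom k A) = g from
        AlgHom.ext fun b => by simp [antipode_antipode_apply]] at h)
    (AlgHom.ext fun f => transHom_antipode g f)

theorem transEquiv_apply (g : A →ₐ[k] k) (f : R) : transEquiv R g f = transHom g f := rfl

end Trans

section Product

variable {k : Type u} [Field k] (A : Type u) [CommRing A] [HopfAlgebra k A]
variable (R : Type u) [CommRing R] [Algebra k R] [HopfRep.Comod k A R] [GLin.IsCoactAlg k A R]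
variable (C : Type u) [CommRing C] [Algebra k C] [HopfRep.Comod k A C] [GLin.IsCoactAlg k A C]

/-- The coaction of the product. -/
noncomputable def coactP : R ⊗[k] C →ₐ[k] (R ⊗[k] C) ⊗[k] A :=
  Algebra.TensorProduct.productMap
    ((Algebra.TensorProduct.map Algebra.TensorProduct.includeLeft (AlgHom.id k A)).comp (GLin.coactAlgHom k A R))
    ((Algebra.TensorProduct.map Algebra.TensorProduct.includeRight (AlgHom.id k A)).comp (GLin.coactAlgHom k A C))

/-- The product of two comodules. -/
@[reducible] noncomputable def prodComod : HopfRep.Comod k A (R ⊗[k] C) :=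
  ComodTens.Comod.tensor inferInstance inferInstance

theorem coact_prodComod (F : R ⊗[k] C) : (prodComod A R C).coact F = coactP A R C F := by
  induction F using TensorProduct.induction_on with
  | zero => simp
  | add p q hp hq => simp only [map_add, hp, hq]
  | tmul r c =>
    rw [ComodTens.tensor_coact_tmul, coactP, Algebra.TensorProduct.productMap_apply_tmul]
    simp only [AlgHom.comp_apply, GLin.coactAlgHom_apply]
    induction HopfRep.Comod.coact (k := k) (A := A) r using TensorProduct.induction_on with
    | zero => simp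
    | add p q hp hq => simp only [map_add, TensorProduct.add_tmul, add_mul, hp, hq]
    | tmul r' a =>
      induction HopfRep.Comod.coact (k := k) (A := A) c using TensorProduct.induction_on with
      | zero => simp
      | add p q hp hq => simp only [map_add, TensorProduct.tmul_add, mul_add, hp, hq]
      | tmul c' b => simp

theorem isCoactAlg_prod : letI : HopfRep.Comod k A (R ⊗[k] C) := prodComod A R C; GLin.IsCoactAlg k A (R ⊗[k] C) := by
  letI : HopfRep.Comod k A (R ⊗[k] C) := prodComod A R C
  refine ⟨?_, fun f g => ?_⟩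
  · rw [coact_prodComod, map_one]
  · rw [coact_prodComod, coact_prodComod, coact_prodComod, map_mul]

variable {A R C}

variable (R C) in
/-- Translation on the product. -/
noncomputable def transProd (g : A →ₐ[k] k) : R ⊗[k] C →ₐ[k] R ⊗[k] C :=
  Algebra.TensorProduct.map (transHom g) (transHom g)

theorem slice_coactP (g : A →ₐ[k] k) (F : R ⊗[k] C) : slice g.toLinearMap (coactP A R C F) = transProd R C g F := by
  have h : ∀ z : (R ⊗[k] C) ⊗[k] A, slice g.toLinearMap z =
      Algebra.TensorProduct.rid k k (R ⊗[k] C) (Algebra.TensorProduct.map (AlgHom.id k _) g z) := fun z => by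
    induction z using TensorProduct.induction_on with
    | zero => simp
    | tmul a b => simp
    | add p q hp hq => simp only [map_add, hp, hq]
  rw [h]
  show ((Algebra.TensorProduct.rid k k (R ⊗[k] C)).toAlgHom.comp
    ((Algebra.TensorProduct.map (AlgHom.id k _) g).comp (coactP A R C))) F = _
  congr 1
  refine Algebra.TensorProduct.ext' fun r c => ?_
  show Algebra.TensorProduct.rid k k (R ⊗[k] C) (Algebra.TensorProduct.map (AlgHom.id k _) g (coactP A R C (r ⊗ₜ c))) =
    transHom g r ⊗ₜ[k] transHom g c
  rw [← h, coactP, Algebra.TensorProduct.productMap_apply_tmul, transHom_apply, transHom_apply, actF_apply, actF_apply]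
  simp only [AlgHom.comp_apply, GLin.coactAlgHom_apply]
  induction HopfRep.Comod.coact (k := k) (A := A) r using TensorProduct.induction_on with
  | zero => simp
  | add p q hp hq => simp only [map_add, add_mul, TensorProduct.add_tmul, hp, hq]
  | tmul r' a =>
    induction HopfRep.Comod.coact (k := k) (A := A) c using TensorProduct.induction_on with
    | zero => simp
    | add p q hp hq => simp only [map_add, mul_add, TensorProduct.tmul_add, hp, hq]
    | tmul c' b =>
      simp only [Algebra.TensorProduct.map_tmul, Algebra.TensorProduct.tmul_mul_tmul, AlgHom.id_apply,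
        Algebra.TensorProduct.includeLeft_apply, Algebra.TensorProduct.includeRight_apply, slice_tmul,
        AlgHom.toLinearMap_apply, map_mul, mul_one, one_mul, TensorProduct.smul_tmul', TensorProduct.tmul_smul,
        smul_smul]
      rw [_root_.mul_comm]

theorem transProd_transProd (h g : A →ₐ[k] k) (F : R ⊗[k] C) :
    transProd R C h (transProd R C g F) = transProd R C (g.comp (translatePt h)) F := by
  induction F using TensorProduct.induction_on with
  | zero => simp
  | tmul r c => simp [transProd, transHom_transHom]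
  | add p q hp hq => simp only [map_add, hp, hq]

/-- The two projections of the graph agree: the restriction to the graph. -/
noncomputable def graphRestr (π : R →ₐ[k] C) : R ⊗[k] C →ₐ[k] C :=
  Algebra.TensorProduct.productMap π (AlgHom.id k C)

theorem graphRestr_tmul (π : R →ₐ[k] C) (r : R) (c : C) : graphRestr π (r ⊗ₜ[k] c) = π r * c := by
  simp [graphRestr]

theorem graphRestr_transProd {π : R →ₐ[k] C} (hπ : Hoch.IsComodHom A π.toLinearMap) (g : A →ₐ[k] k) (F : R ⊗[k] C) :
    graphRestr π (transProd R C g F) = transHom g (graphRestr π F) := by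
  induction F using TensorProduct.induction_on with
  | zero => simp
  | tmul r c => simp [transProd, graphRestr_tmul, transHom_comp π hπ]
  | add p q hp hq => simp only [map_add, hp, hq]

/-- The ideal of the graph, squared, together with the functions vanishing on the orbit. -/
noncomputable def graphSq (π : R →ₐ[k] C) : Ideal (R ⊗[k] C) :=
  RingHom.ker (graphRestr π) * RingHom.ker (graphRestr π) ⊔
    Ideal.map (Algebra.TensorProduct.includeLeftRingHom) (RingHom.ker π)

theorem transProd_mem_graphSq {π : R →ₐ[k] C} (hπ : Hoch.IsComodHom A π.toLinearMap) (g : A →ₐ[k] k)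
    {F : R ⊗[k] C} (hF : F ∈ graphSq π) : transProd R C g F ∈ graphSq π := by
  have hD : (RingHom.ker (graphRestr π)).map (transProd R C g).toRingHom ≤ RingHom.ker (graphRestr π) := by
    rw [Ideal.map_le_iff_le_comap]
    intro G hG
    show graphRestr π (transProd R C g G) = 0
    rw [graphRestr_transProd hπ, show graphRestr π G = 0 from hG, map_zero]
  have h1 : (graphSq π).map (transProd R C g).toRingHom ≤ graphSq π := by
    rw [graphSq, Ideal.map_sup, Ideal.map_mul]
    refine sup_le_sup (Ideal.mul_mono hD hD) ?_
    rw [Ideal.map_le_iff_le_comap, Ideal.map_le_iff_le_comap]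
    intro r hr
    show transHom g r ⊗ₜ[k] transHom g (1 : C) ∈
      Ideal.map Algebra.TensorProduct.includeLeftRingHom (RingHom.ker π)
    rw [map_one]
    refine Ideal.mem_map_of_mem _ ?_
    show π (transHom g r) = 0
    rw [← transHom_comp π hπ, show π r = 0 from hr, map_zero]
  exact h1 (Ideal.mem_map_of_mem _ hF)

theorem transProd_mem_of_translate {π : R →ₐ[k] C} (hπ : Hoch.IsComodHom A π.toLinearMap) (g : A →ₐ[k] k) (r : R) (c : C)
    (h : π r = c) :
    transProd R C g (r ⊗ₜ[k] 1 - 1 ⊗ₜ[k] c) = transHom g r ⊗ₜ[k] 1 - 1 ⊗ₜ[k] transHom g c ∧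
      π (transHom g r) = transHom g c := by
  refine ⟨by simp [transProd], ?_⟩
  rw [← transHom_comp π hπ, h]

/-- An equivariant derivation lifting the differential to the ideal of the graph. -/
theorem exists_equivariant_derivation [IsAlgClosed k] [Algebra.FiniteType k A] [_root_.IsReduced A] {α : A →ₗ[k] k}
    (hα : ComodLib.IsIntegral k α) (h1 : α 1 = 1) (π : R →ₐ[k] C) (hπ : Hoch.IsComodHom A π.toLinearMap)
    (hsurj : Function.Surjective π) [Algebra.FormallySmooth k C] :
    ∃ δ : C →ₗ[k] R ⊗[k] C,
      (∀ c c', δ (c * c') = ((1 : R) ⊗ₜ[k] c) * δ c' + ((1 : R) ⊗ₜ[k] c') * δ c) ∧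
      (∀ c, graphRestr π (δ c) = 0) ∧
      (∀ r, δ (π r) - (r ⊗ₜ[k] 1 - 1 ⊗ₜ[k] π r) ∈ graphSq π) ∧
      ∀ (g : A →ₐ[k] k) (c : C), transProd R C g (δ c) = δ (transHom g c) := by
  classical
  letI : Algebra C (R ⊗[k] C) := Algebra.TensorProduct.rightAlgebra
  haveI : IsScalarTower k C (R ⊗[k] C) := IsScalarTower.of_algebraMap_eq fun a => by
    rw [RingHom.algebraMap_toAlgebra]
    exact ((Algebra.TensorProduct.includeRight (R := k) (A := R) (B := C)).commutes a).symm
  choose lift hlift using hsurj
  let W : Submodule C (R ⊗[k] C) := (graphSq π).restrictScalars C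
  let D : Submodule C (R ⊗[k] C) := (RingHom.ker (graphRestr π)).restrictScalars C
  let f : D →ₗ[C] (R ⊗[k] C) ⧸ W := W.mkQ ∘ₗ D.subtype
  have hsmul : ∀ (c : C) (F : R ⊗[k] C), c • F = ((1 : R) ⊗ₜ[k] c) * F := fun c F => by
    rw [Algebra.smul_def, RingHom.algebraMap_toAlgebra]
    rfl
  have hdiff : ∀ c, lift c ⊗ₜ[k] (1 : C) - (1 : R) ⊗ₜ[k] c ∈ RingHom.ker (graphRestr π) := fun c => by
    rw [RingHom.mem_ker, map_sub, graphRestr_tmul, graphRestr_tmul, hlift, map_one, mul_one, one_mul, sub_self]
  have hchange : ∀ r c, π r = c →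
      (r ⊗ₜ[k] (1 : C) - (1 : R) ⊗ₜ[k] c) - (lift c ⊗ₜ[k] (1 : C) - (1 : R) ⊗ₜ[k] c) ∈ graphSq π := fun r c h => by
    rw [sub_sub_sub_cancel_right, ← TensorProduct.sub_tmul]
    exact Submodule.mem_sup_right (Ideal.mem_map_of_mem (Algebra.TensorProduct.includeLeftRingHom)
      (show r - lift c ∈ RingHom.ker π by rw [RingHom.mem_ker, map_sub, h, hlift, sub_self]))
  -- the tautological derivation
  let d₀l : C →ₗ[k] LinearMap.range f :=
    { toFun := fun c => ⟨f ⟨lift c ⊗ₜ[k] 1 - 1 ⊗ₜ[k] c, hdiff c⟩, ⟨_, rfl⟩⟩
      map_add' := fun c c' => by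
        apply Subtype.ext
        show W.mkQ _ = W.mkQ _ + W.mkQ _
        rw [← map_add, Submodule.mkQ_apply, Submodule.mkQ_apply, Submodule.Quotient.eq]
        have h := hchange (lift c + lift c') (c + c') (by rw [map_add, hlift, hlift])
        rw [← neg_mem_iff, neg_sub] at h
        show _ ∈ graphSq π
        convert h using 1
        simp only [D, Submodule.subtype_apply, TensorProduct.add_tmul, TensorProduct.tmul_add]
        ring
      map_smul' := fun a c => by
        apply Subtype.ext
        show W.mkQ _ = a • W.mkQ _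
        rw [← LinearMap.map_smul_of_tower, Submodule.mkQ_apply, Submodule.mkQ_apply, Submodule.Quotient.eq]
        have h := hchange (a • lift c) (a • c) (by rw [map_smul, hlift])
        rw [← neg_mem_iff, neg_sub] at h
        show _ ∈ graphSq π
        convert h using 1
        simp only [D, Submodule.subtype_apply, smul_sub, TensorProduct.smul_tmul', TensorProduct.tmul_smul] }
  let d₀ : Derivation k C (LinearMap.range f) := Derivation.mk' d₀l fun c c' => by
    apply Subtype.ext
    show W.mkQ _ = c • W.mkQ _ + c' • W.mkQ _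
    rw [← W.mkQ.map_smul, ← W.mkQ.map_smul, ← W.mkQ.map_add, Submodule.mkQ_apply, Submodule.mkQ_apply, Submodule.Quotient.eq]
    show _ ∈ graphSq π
    have h := hchange (lift c * lift c') (c * c') (by rw [map_mul, hlift, hlift])
    rw [← neg_mem_iff, neg_sub] at h
    have h2 : (lift c ⊗ₜ[k] (1 : C) - (1 : R) ⊗ₜ[k] c) * (lift c' ⊗ₜ[k] (1 : C) - (1 : R) ⊗ₜ[k] c') ∈ graphSq π :=
      Submodule.mem_sup_left (Ideal.mul_mem_mul (hdiff c) (hdiff c'))
    convert add_mem h h2 using 1
    simp only [D, Submodule.subtype_apply, hsmul, sub_mul, mul_sub, Algebra.TensorProduct.tmul_mul_tmul, one_mul, mul_one,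
      mul_comm c' c]
    ring
  haveI : Module.Projective C Ω[C⁄k] := inferInstance
  obtain ⟨s, hs⟩ := Module.projective_lifting_property f.rangeRestrict d₀.liftKaehlerDifferential f.surjective_rangeRestrict
  let σ : C →ₗ[k] R ⊗[k] C :=
    (D.subtype.restrictScalars k) ∘ₗ (s.restrictScalars k) ∘ₗ (KaehlerDifferential.D k C).toLinearMap
  have hσD : ∀ c, graphRestr π (σ c) = 0 := fun c => (s (KaehlerDifferential.D k C c)).2
  have hσmul : ∀ c c', σ (c * c') = ((1 : R) ⊗ₜ[k] c) * σ c' + ((1 : R) ⊗ₜ[k] c') * σ c := fun c c' => by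
    rw [← hsmul, ← hsmul]
    show D.subtype (s (KaehlerDifferential.D k C (c * c'))) = _
    rw [Derivation.leibniz, map_add, map_smul, map_smul, map_add, map_smul, map_smul]
    rfl
  have hσq : ∀ r, σ (π r) - (r ⊗ₜ[k] (1 : C) - (1 : R) ⊗ₜ[k] π r) ∈ graphSq π := fun r => by
    have h := congrArg Subtype.val (LinearMap.congr_fun hs (KaehlerDifferential.D k C (π r)))
    rw [LinearMap.comp_apply, Derivation.liftKaehlerDifferential_comp_D] at h
    have h' : σ (π r) - (lift (π r) ⊗ₜ[k] (1 : C) - (1 : R) ⊗ₜ[k] π r) ∈ graphSq π :=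
      (Submodule.Quotient.eq W).mp h
    have h2 := sub_mem h' (hchange r (π r) rfl)
    rwa [sub_sub_sub_cancel_right] at h2
  -- averaging
  let Φ : C →ₗ[k] (R ⊗[k] C) ⊗[k] A :=
    LinearMap.mul' k ((R ⊗[k] C) ⊗[k] A) ∘ₗ
      TensorProduct.map ((coactP A R C).toLinearMap ∘ₗ σ)
        ((Algebra.TensorProduct.includeRight : A →ₐ[k] (R ⊗[k] C) ⊗[k] A).toLinearMap ∘ₗ HopfAlgebra.antipode k) ∘ₗ
      HopfRep.Comod.coact (k := k) (A := A)
  have hev : ∀ (g : A →ₐ[k] k) (z w : (R ⊗[k] C) ⊗[k] A),
      slice g.toLinearMap (z * w) = slice g.toLinearMap z * slice g.toLinearMap w := fun g z w => by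
    induction z using TensorProduct.induction_on with
    | zero => simp
    | add p q hp hq => simp only [map_add, add_mul, hp, hq]
    | tmul a b =>
      induction w using TensorProduct.induction_on with
      | zero => simp
      | add p q hp hq => simp only [map_add, mul_add, hp, hq]
      | tmul a' b' => simp [smul_smul, _root_.mul_comm]
  have hΦ : ∀ (g : A →ₐ[k] k) (c : C), slice g.toLinearMap (Φ c) =
      transProd R C g (σ (transHom (g.comp (HopfAlgebra.antipodeAlgHom k A)) c)) := by
    intro g c
    rw [transHom_apply, actF_apply]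
    show slice g.toLinearMap (LinearMap.mul' k _ (TensorProduct.map _ _ (HopfRep.Comod.coact (k := k) (A := A) c))) = _
    induction HopfRep.Comod.coact (k := k) (A := A) c using TensorProduct.induction_on with
    | zero => simp
    | add p q hp hq => simp only [map_add, hp, hq]
    | tmul c₀ a =>
      simp only [TensorProduct.map_tmul, LinearMap.mul'_apply, LinearMap.comp_apply, AlgHom.toLinearMap_apply,
        slice_tmul, map_smul, HopfAlgebra.antipodeAlgHom_apply, AlgHom.comp_apply]
      rw [hev, slice_coactP, Algebra.TensorProduct.includeRight_apply, slice_tmul, mul_smul_comm, mul_one]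
      rfl
  have hinv : ∀ (g : A →ₐ[k] k) (c : C),
      transHom g (transHom (g.comp (HopfAlgebra.antipodeAlgHom k A)) c) = c := fun g c =>
    AlgHom.congr_fun (AlgHom.ext fun f => by
      have h := transHom_antipode (g.comp (HopfAlgebra.antipodeAlgHom k A)) f
      rwa [show (g.comp (HopfAlgebra.antipodeAlgHom k A)).comp (HopfAlgebra.antipodeAlgHom k A) = g from
        AlgHom.ext fun b => by simp [antipode_antipode_apply]] at h :
      (transHom g).comp (transHom (g.comp (HopfAlgebra.antipodeAlgHom k A))) = AlgHom.id k C) c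
  have hαp : ∀ (p : R ⊗[k] C) (w : (R ⊗[k] C) ⊗[k] A), slice α ((p ⊗ₜ[k] (1 : A)) * w) = p * slice α w := fun p w => by
    induction w using TensorProduct.induction_on with
    | zero => simp
    | add u v hu hv => simp only [mul_add, map_add, hu, hv]
    | tmul a b => simp
  let δ : C →ₗ[k] R ⊗[k] C := slice α ∘ₗ Φ
  refine ⟨δ, fun c c' => ?_, fun c => ?_, fun r => ?_, fun h c => ?_⟩
  · have h : Φ (c * c') = (((1 : R) ⊗ₜ[k] c) ⊗ₜ[k] (1 : A)) * Φ c' + (((1 : R) ⊗ₜ[k] c') ⊗ₜ[k] (1 : A)) * Φ c := by
      refine sub_eq_zero.mp (eq_zero_of_forall_pt fun g => ?_)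
      rw [map_sub, map_add, hev, hev, hΦ, hΦ, hΦ, slice_tmul, slice_tmul, show g.toLinearMap (1 : A) = 1 from map_one g,
        one_smul, one_smul, map_mul, hσmul, map_add, map_mul, map_mul, sub_eq_zero]
      simp only [transProd, Algebra.TensorProduct.map_tmul, map_one, hinv]
    show slice α (Φ (c * c')) = _
    rw [h, map_add, hαp, hαp]
    rfl
  · have h : (graphRestr π).toLinearMap.rTensor A (Φ c) = 0 := eq_zero_of_forall_pt fun g => by
      rw [slice_rTensor, hΦ, AlgHom.toLinearMap_apply, graphRestr_transProd hπ, hσD, map_zero]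
    show graphRestr π (slice α (Φ c)) = 0
    rw [← AlgHom.toLinearMap_apply, ← slice_rTensor, h, map_zero]
  · let Q : R ⊗[k] C →ₗ[k] (R ⊗[k] C) ⧸ (graphSq π).restrictScalars k := ((graphSq π).restrictScalars k).mkQ
    have h : Q.rTensor A (Φ (π r) - (r ⊗ₜ[k] (1 : C) - (1 : R) ⊗ₜ[k] π r) ⊗ₜ[k] (1 : A)) = 0 :=
      eq_zero_of_forall_pt fun g => by
        rw [slice_rTensor, map_sub, hΦ, slice_tmul, show g.toLinearMap (1 : A) = 1 from map_one g, one_smul,
          Submodule.mkQ_apply, Submodule.Quotient.mk_eq_zero]
        set gi := g.comp (HopfAlgebra.antipodeAlgHom k A)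
        have hr : π (transHom gi r) = transHom gi (π r) := (transHom_comp π hπ gi r).symm
        have h1 := transProd_mem_graphSq hπ g (hσq (transHom gi r))
        rw [map_sub, (transProd_mem_of_translate hπ g _ _ rfl).1, hr, hinv] at h1
        have h2 := add_mem h1 (sub_mem (hchange (transHom g (transHom gi r)) (π r) (by
          rw [← transHom_comp π hπ, hr, hinv])) (hchange r (π r) rfl))
        rw [sub_sub_sub_cancel_right, sub_add_sub_cancel] at h2
        exact h2
    have h2 := congrArg (slice α) h
    rw [slice_rTensor, map_sub, map_zero, slice_tmul, h1, one_smul, Submodule.mkQ_apply, Submodule.Quotient.mk_eq_zero] at h2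
    exact h2
  · have h2 : (transProd R C h).toLinearMap.rTensor A (Φ c) =
        (translatePt h).toLinearMap.lTensor (R ⊗[k] C) (Φ (transHom h c)) := by
      refine sub_eq_zero.mp (eq_zero_of_forall_pt fun g => ?_)
      rw [map_sub, sub_eq_zero, slice_rTensor, hΦ, AlgHom.toLinearMap_apply, transProd_transProd, slice_lTensor,
        ← AlgHom.comp_toLinearMap, hΦ]
      congr 2
      have e := hinv g c
      set e₀ := transHom (g.comp (HopfAlgebra.antipodeAlgHom k A)) c
      have e2 : transHom h c = transHom (g.comp (translatePt h)) e₀ := by rw [← transHom_transHom, e]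
      rw [e2, transHom_antipode]
    show transProd R C h (slice α (Φ c)) = slice α (Φ (transHom h c))
    rw [← AlgHom.toLinearMap_apply, ← slice_rTensor, h2, slice_lTensor]
    rw [show α ∘ₗ (translatePt h).toLinearMap = α from LinearMap.ext fun a => integral_translatePt hα h1 h a]

end Product

end Groth.Agent.GLinEt
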