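import Groth.Agent.GLinEt.Slice
import Mathlib.RingTheory.Etale.Kaehler
import Mathlib.RingTheory.Etale.Locus
import Mathlib.RingTheory.OrzechProperty
import Mathlib.RingTheory.Finiteness.Nakayama

/-!
# The slice cut out by a lift of the differential is étale over the ambient space
-/

universe u

open TensorProduct

namespace Groth.Agent.GLinEt

set_option maxHeartbeats 1000000 in
theorem formallyEtale_of_section {k : Type u} [Field k] {R C : Type u} [CommRing R] [Algebra k R]
    [CommRing C] [Algebra k C] (π : R →ₐ[k] C) (hsurj : Function.Surjective π) (δ : C →ₗ[k] R ⊗[k] C)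
    (hmul : ∀ c c', δ (c * c') = ((1 : R) ⊗ₜ[k] c) * δ c' + ((1 : R) ⊗ₜ[k] c') * δ c)
    (hq : ∀ r, δ (π r) - (r ⊗ₜ[k] 1 - 1 ⊗ₜ[k] π r) ∈ graphSq π)
    (Pl Tl : Type u) [CommRing Pl] [IsLocalRing Pl] [IsNoetherianRing Pl] [Algebra (R ⊗[k] C) Pl] [Algebra R Pl]
    [IsScalarTower R (R ⊗[k] C) Pl] [Algebra k Pl] [IsScalarTower k R Pl] [IsScalarTower k (R ⊗[k] C) Pl] [Algebra.EssFiniteType R Pl] [Algebra.FormallySmooth R Pl]
    [Algebra.FormallyEtale (R ⊗[k] C) Pl] [CommRing Tl] [Algebra R Tl] [Algebra Pl Tl] [IsScalarTower R Pl Tl]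
    (hPlT : Function.Surjective (algebraMap Pl Tl))
    (hδK : ∀ c, algebraMap (R ⊗[k] C) Pl (δ c) ∈ RingHom.ker (algebraMap Pl Tl))
    (hKle : RingHom.ker (algebraMap Pl Tl) ≤ Ideal.span (Set.range fun c => algebraMap (R ⊗[k] C) Pl (δ c)))
    (hmax : ∀ G, graphRestr π G = 0 → algebraMap (R ⊗[k] C) Pl G ∈ IsLocalRing.maximalIdeal Pl) :
    Algebra.FormallyEtale R Tl := by
  classical
  let K := RingHom.ker (algebraMap Pl Tl)
  let c := KaehlerDifferential.kerCotangentToTensor R Pl Tl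
  let 𝔪 := IsLocalRing.maximalIdeal Pl
  let Dl : Derivation R Pl Ω[Pl⁄R] := KaehlerDifferential.D R Pl
  have hv : ∀ (p : Pl) (w : Ω[Pl⁄R]), (1 : Tl) ⊗ₜ[Pl] (p • w) = p • ((1 : Tl) ⊗ₜ[Pl] w) := fun p w =>
    (TensorProduct.mk Pl Tl Ω[Pl⁄R] 1).map_smul p w
  -- elements of the square are negligible
  let L : Ideal (R ⊗[k] C) :=
    { carrier := {G | algebraMap (R ⊗[k] C) Pl G ∈ 𝔪 ∧ (1 : Tl) ⊗ₜ[Pl] Dl (algebraMap (R ⊗[k] C) Pl G) ∈ 𝔪 • (⊤ : Submodule Pl (Tl ⊗[Pl] Ω[Pl⁄R]))}
      add_mem' := fun {a b} ha hb => ⟨by rw [map_add]; exact add_mem ha.1 hb.1, by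
        rw [map_add, map_add, TensorProduct.tmul_add]; exact add_mem ha.2 hb.2⟩
      zero_mem' := ⟨by rw [map_zero]; exact zero_mem _, by rw [map_zero, map_zero, TensorProduct.tmul_zero]; exact zero_mem _⟩
      smul_mem' := fun p G hG => ⟨by rw [smul_eq_mul, map_mul]; exact Ideal.mul_mem_left _ _ hG.1, by
        rw [smul_eq_mul, map_mul, Dl.leibniz, TensorProduct.tmul_add, hv, hv]
        exact add_mem (Submodule.smul_mem _ _ hG.2) (Submodule.smul_mem_smul
          hG.1 Submodule.mem_top)⟩ }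
  have hLsq : graphSq π ≤ L := by
    refine sup_le (Ideal.mul_le.mpr fun a ha b hb => ?_) (Ideal.map_le_iff_le_comap.mpr fun r hr => ?_)
    · refine ⟨by rw [map_mul]; exact Ideal.mul_mem_left _ _ (hmax b hb), ?_⟩
      rw [map_mul, Dl.leibniz, TensorProduct.tmul_add, hv, hv]
      exact add_mem (Submodule.smul_mem_smul (hmax a ha) Submodule.mem_top)
        (Submodule.smul_mem_smul (hmax b hb) Submodule.mem_top)
    · refine ⟨hmax _ ?_, ?_⟩
      · show graphRestr π (r ⊗ₜ[k] (1 : C)) = 0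
        rw [graphRestr_tmul, show π r = 0 from hr, zero_mul]
      · show (1 : Tl) ⊗ₜ[Pl] Dl (algebraMap (R ⊗[k] C) Pl (algebraMap R (R ⊗[k] C) r)) ∈ _
        rw [← IsScalarTower.algebraMap_apply R (R ⊗[k] C) Pl, Dl.map_algebraMap, TensorProduct.tmul_zero]
        exact zero_mem _
  let v : C → Tl ⊗[Pl] Ω[Pl⁄R] := fun e => (1 : Tl) ⊗ₜ[Pl] Dl (algebraMap (R ⊗[k] C) Pl ((1 : R) ⊗ₜ[k] e))
  have hgen : (⊤ : Submodule Pl (Tl ⊗[Pl] Ω[Pl⁄R])) ≤ Submodule.span Pl (Set.range v) := by
    intro z hz0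
    clear hz0
    obtain ⟨z, rfl⟩ := TensorProduct.mk_surjective Pl Ω[Pl⁄R] Tl hPlT z
    have hz : z ∈ Submodule.span Pl (Set.range fun e : C => Dl (algebraMap (R ⊗[k] C) Pl ((1 : R) ⊗ₜ[k] e))) := by
      obtain ⟨y, rfl⟩ := (KaehlerDifferential.tensorKaehlerEquivOfFormallyEtale R (R ⊗[k] C) Pl).surjective z
      induction y using TensorProduct.induction_on with
      | zero => simp
      | add a b ha hb => rw [map_add]; exact add_mem ha hb
      | tmul p w =>
        rw [show p ⊗ₜ[R ⊗[k] C] w = p • ((1 : Pl) ⊗ₜ[R ⊗[k] C] w) by rw [TensorProduct.smul_tmul', smul_eq_mul, mul_one], map_smul]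
        refine Submodule.smul_mem _ _ ?_
        have hw : w ∈ Submodule.span (R ⊗[k] C) (Set.range (KaehlerDifferential.D R (R ⊗[k] C))) :=
          KaehlerDifferential.span_range_derivation R (R ⊗[k] C) ▸ Submodule.mem_top
        induction hw using Submodule.span_induction with
        | zero => simp
        | add a b _ _ ha hb => rw [TensorProduct.tmul_add, map_add]; exact add_mem ha hb
        | smul q w _ h =>
          rw [TensorProduct.tmul_smul, ← algebraMap_smul Pl q, map_smul]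
          exact Submodule.smul_mem _ _ h
        | mem w hw =>
          obtain ⟨F, rfl⟩ := hw
          rw [KaehlerDifferential.tensorKaehlerEquivOfFormallyEtale_apply, KaehlerDifferential.mapBaseChange_tmul,
            one_smul, KaehlerDifferential.map_D]
          induction F using TensorProduct.induction_on with
          | zero => simp
          | add a b ha hb => rw [map_add, map_add]; exact add_mem ha hb
          | tmul r e =>
            rw [show r ⊗ₜ[k] e = r • ((1 : R) ⊗ₜ[k] e) by rw [TensorProduct.smul_tmul', smul_eq_mul, mul_one],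
              Algebra.smul_def, map_mul, ← IsScalarTower.algebraMap_apply R (R ⊗[k] C) Pl, ← Algebra.smul_def, Dl.map_smul]
            exact Submodule.smul_of_tower_mem _ r (Submodule.subset_span ⟨e, rfl⟩)
    induction hz using Submodule.span_induction with
    | zero => simp
    | add a b _ _ ha hb => rw [map_add]; exact add_mem ha hb
    | smul q w _ h => rw [map_smul]; exact Submodule.smul_mem _ _ h
    | mem w hw =>
      obtain ⟨e, rfl⟩ := hw
      exact Submodule.subset_span ⟨e, rfl⟩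
  have hcv : ∀ e, v e ∈ LinearMap.range c ⊔ 𝔪 • (⊤ : Submodule Pl (Tl ⊗[Pl] Ω[Pl⁄R])) := by
    intro e
    obtain ⟨r, rfl⟩ := hsurj e
    have hG := (hLsq (hq r)).2
    rw [map_sub, map_sub, map_sub, map_sub, show (r ⊗ₜ[k] (1 : C)) = algebraMap R (R ⊗[k] C) r from rfl,
      ← IsScalarTower.algebraMap_apply R (R ⊗[k] C) Pl, Dl.map_algebraMap, zero_sub, sub_neg_eq_add, TensorProduct.tmul_add] at hG
    have hc : (1 : Tl) ⊗ₜ[Pl] Dl (algebraMap (R ⊗[k] C) Pl (δ (π r))) = c (Ideal.toCotangent _ ⟨_, hδK (π r)⟩) := rfl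
    rw [hc] at hG
    have h := sub_mem (Submodule.mem_sup_right hG : _ ∈ LinearMap.range c ⊔ 𝔪 • (⊤ : Submodule Pl (Tl ⊗[Pl] Ω[Pl⁄R])))
      (Submodule.mem_sup_left (LinearMap.mem_range_self c (Ideal.toCotangent _ ⟨_, hδK (π r)⟩)))
    rwa [add_sub_cancel_left] at h
  haveI : Module.Finite Pl Tl := Module.Finite.of_surjective (Algebra.linearMap Pl Tl) hPlT
  haveI : Module.Finite Pl (Tl ⊗[Pl] Ω[Pl⁄R]) := inferInstance
  have hcsurj : Function.Surjective c := by
    rw [← LinearMap.range_eq_top, eq_top_iff]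
    refine Submodule.le_of_le_smul_of_le_jacobson_bot Module.Finite.fg_top (I := 𝔪) ?_ (hgen.trans ?_)
    · exact le_of_eq (IsLocalRing.jacobson_eq_maximalIdeal ⊥ bot_ne_top).symm
    · rw [Submodule.span_le]
      rintro _ ⟨e, rfl⟩
      exact hcv e
  -- the inverse direction
  let δc : C →ₗ[k] K.Cotangent :=
    { toFun := fun e => Ideal.toCotangent K ⟨algebraMap (R ⊗[k] C) Pl (δ e), hδK e⟩
      map_add' := fun a b => by
        rw [← map_add]; congr 1; exact Subtype.ext (by simp)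
      map_smul' := fun a b => by
        rw [RingHom.id_apply, ← LinearMap.map_smul_of_tower]
        congr 1
        apply Subtype.ext
        show algebraMap (R ⊗[k] C) Pl (δ (a • b)) = a • algebraMap (R ⊗[k] C) Pl (δ b)
        rw [map_smul, Algebra.smul_def, map_mul, ← IsScalarTower.algebraMap_apply, ← Algebra.smul_def] }
  have hδc : ∀ a b, δc (a * b) =
      algebraMap (R ⊗[k] C) Pl ((1 : R) ⊗ₜ[k] a) • δc b + algebraMap (R ⊗[k] C) Pl ((1 : R) ⊗ₜ[k] b) • δc a := fun a b => by
    show Ideal.toCotangent K _ = _ • Ideal.toCotangent K _ + _ • Ideal.toCotangent K _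
    rw [← map_smul, ← map_smul, ← map_add]
    congr 1
    apply Subtype.ext
    show algebraMap (R ⊗[k] C) Pl (δ (a * b)) = _
    rw [hmul, map_add, map_mul, map_mul]
    rfl
  let εlin : (R ⊗[k] C) →ₗ[R] K.Cotangent :=
    TensorProduct.AlgebraTensorModule.lift
      { toFun := fun r => r • δc
        map_add' := fun a b => add_smul a b δc
        map_smul' := fun a b => by rw [smul_eq_mul, mul_smul]; rfl }
  have hεlin : ∀ (r : R) (e : C), εlin (r ⊗ₜ[k] e) = algebraMap R Pl r • δc e := fun r e => by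
    show r • δc e = _
    rw [algebraMap_smul]
  let εd : Derivation R (R ⊗[k] C) K.Cotangent := Derivation.mk' εlin fun F G => by
    induction F using TensorProduct.induction_on with
    | zero => simp
    | add a b ha hb =>
      rw [add_mul, map_add, ha, hb, map_add, add_smul, smul_add]
      abel
    | tmul r e =>
      induction G using TensorProduct.induction_on with
      | zero => simp
      | add a b ha hb =>
        rw [mul_add, map_add, ha, hb, map_add, add_smul, smul_add]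
        abel
      | tmul r' e' =>
        rw [Algebra.TensorProduct.tmul_mul_tmul, hεlin, hεlin, hεlin, hδc, ← algebraMap_smul Pl (r ⊗ₜ[k] e),
          ← algebraMap_smul Pl (r' ⊗ₜ[k] e'), smul_add, smul_smul, smul_smul, smul_smul, smul_smul]
        have h1 : ∀ (r : R) (e : C), algebraMap (R ⊗[k] C) Pl (r ⊗ₜ[k] e) = algebraMap R Pl r * algebraMap (R ⊗[k] C) Pl ((1 : R) ⊗ₜ[k] e) :=
          fun r e => by
            rw [IsScalarTower.algebraMap_apply R (R ⊗[k] C) Pl, ← map_mul, Algebra.TensorProduct.algebraMap_apply,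
              Algebra.algebraMap_self_apply, Algebra.TensorProduct.tmul_mul_tmul, mul_one, one_mul]
        rw [h1 r e, h1 r' e', map_mul]
        congr 2 <;> ring
  let εl : Ω[Pl⁄R] →ₗ[Pl] K.Cotangent :=
    (εd.liftKaehlerDifferential).liftBaseChange Pl ∘ₗ
      (KaehlerDifferential.tensorKaehlerEquivOfFormallyEtale R (R ⊗[k] C) Pl).symm.toLinearMap
  have hεl : ∀ e, εl (Dl (algebraMap (R ⊗[k] C) Pl ((1 : R) ⊗ₜ[k] e))) = δc e := fun e => by
    show (εd.liftKaehlerDifferential).liftBaseChange Pl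
      ((KaehlerDifferential.tensorKaehlerEquivOfFormallyEtale R (R ⊗[k] C) Pl).symm _) = _
    rw [KaehlerDifferential.tensorKaehlerEquivOfFormallyEtale_symm_D_algebraMap, LinearMap.liftBaseChange_tmul,
      Derivation.liftKaehlerDifferential_comp_D, one_smul]
    show εlin ((1 : R) ⊗ₜ[k] e) = _
    rw [hεlin, map_one, one_smul]
  have hkill : LinearMap.ker (Algebra.linearMap Pl Tl) ≤ LinearMap.ker (LinearMap.toSpanSingleton Pl _ εl) := by
    intro p hp
    rw [LinearMap.mem_ker, LinearMap.toSpanSingleton_apply]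
    refine LinearMap.ext fun w => ?_
    rw [LinearMap.smul_apply, LinearMap.zero_apply]
    obtain ⟨y, hy⟩ := Ideal.toCotangent_surjective _ (εl w)
    rw [← hy, ← map_smul, Ideal.toCotangent_eq_zero, sq]
    exact Ideal.mul_mem_mul hp y.2
  let g : Tl →ₗ[Pl] Ω[Pl⁄R] →ₗ[Pl] K.Cotangent :=
    (LinearMap.ker (Algebra.linearMap Pl Tl)).liftQ (LinearMap.toSpanSingleton Pl _ εl) hkill ∘ₗ
      ((Algebra.linearMap Pl Tl).quotKerEquivOfSurjective hPlT).symm.toLinearMap
  let ε : Tl ⊗[Pl] Ω[Pl⁄R] →ₗ[Pl] K.Cotangent := TensorProduct.lift g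
  have hεv : ∀ e, ε (v e) = δc e := fun e => by
    show g 1 _ = _
    have h1 : ((Algebra.linearMap Pl Tl).quotKerEquivOfSurjective hPlT).symm 1 = Submodule.Quotient.mk 1 := by
      rw [LinearEquiv.symm_apply_eq, LinearMap.quotKerEquivOfSurjective_apply_mk, Algebra.linearMap_apply, map_one]
    show (LinearMap.ker (Algebra.linearMap Pl Tl)).liftQ _ hkill _ _ = _
    rw [LinearEquiv.coe_coe, h1, Submodule.liftQ_apply, LinearMap.toSpanSingleton_apply, one_smul]
    exact hεl e
  have hεsurj : Function.Surjective ε := by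
    intro z
    obtain ⟨⟨y, hy⟩, rfl⟩ := Ideal.toCotangent_surjective _ z
    suffices h : ∀ y (hy : y ∈ Ideal.span (Set.range fun e => algebraMap (R ⊗[k] C) Pl (δ e))) (hyK : y ∈ K),
        Ideal.toCotangent K ⟨y, hyK⟩ ∈ LinearMap.range ε from h y (hKle hy) hy
    intro y hy
    induction hy using Submodule.span_induction with
    | mem y hy =>
      obtain ⟨e, rfl⟩ := hy
      exact fun _ => ⟨v e, hεv e⟩
    | zero => exact fun hK0 => ⟨0, by rw [map_zero]; exact (map_zero _).symm⟩
    | add a b ha hb iha ihb =>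
      intro hab
      have hspanK : Ideal.span (Set.range fun e => algebraMap (R ⊗[k] C) Pl (δ e)) ≤ K :=
        Ideal.span_le.mpr (by rintro _ ⟨e, rfl⟩; exact hδK e)
      have := add_mem (iha (hspanK ha)) (ihb (hspanK hb))
      rwa [← map_add] at this
    | smul q a ha iha =>
      intro hqa
      have hspanK : Ideal.span (Set.range fun e => algebraMap (R ⊗[k] C) Pl (δ e)) ≤ K :=
        Ideal.span_le.mpr (by rintro _ ⟨e, rfl⟩; exact hδK e)
      have := Submodule.smul_mem (LinearMap.range ε) q (iha (hspanK ha))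
      rwa [← map_smul] at this
  haveI : Module.Finite Pl K.Cotangent := Module.Finite.of_surjective ε hεsurj
  have hcinj : Function.Injective c := fun a b h =>
    OrzechProperty.injective_of_surjective_endomorphism (ε ∘ₗ c) (hεsurj.comp hcsurj) (congrArg ε h)
  haveI : Algebra.FormallySmooth R Tl := by
    refine (Algebra.FormallySmooth.iff_split_injection hPlT).mpr ⟨(LinearEquiv.ofBijective c ⟨hcinj, hcsurj⟩).symm.toLinearMap, ?_⟩
    exact LinearMap.ext fun z => (LinearEquiv.ofBijective c ⟨hcinj, hcsurj⟩).symm_apply_apply z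
  haveI : Algebra.FormallyUnramified R Tl := by
    refine ⟨⟨fun a b => ?_⟩⟩
    suffices h : ∀ w : Ω[Tl⁄R], w = 0 by rw [h a, h b]
    intro w
    obtain ⟨z, rfl⟩ := KaehlerDifferential.mapBaseChange_surjective R Pl Tl hPlT w
    have hz : z ∈ LinearMap.range c := LinearMap.range_eq_top.mpr hcsurj ▸ Submodule.mem_top
    rw [KaehlerDifferential.range_kerCotangentToTensor R Pl Tl hPlT] at hz
    exact hz
  exact Algebra.FormallyEtale.of_formallyUnramified_and_formallySmooth

set_option maxHeartbeats 1000000 in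
theorem isEtaleAt_quotient_span {k : Type u} [Field k] {R C : Type u} [CommRing R] [Algebra k R] [Algebra.FiniteType k R]
    [CommRing C] [Algebra k C] [Algebra.FiniteType k C] [Algebra.FormallySmooth k C]
    (π : R →ₐ[k] C) (hsurj : Function.Surjective π) (δ : C →ₗ[k] R ⊗[k] C)
    (hmul : ∀ c c', δ (c * c') = ((1 : R) ⊗ₜ[k] c) * δ c' + ((1 : R) ⊗ₜ[k] c') * δ c)
    (hD : ∀ c, graphRestr π (δ c) = 0)
    (hq : ∀ r, δ (π r) - (r ⊗ₜ[k] 1 - 1 ⊗ₜ[k] π r) ∈ graphSq π)
    (xC : C →ₐ[k] k) (mT : Ideal ((R ⊗[k] C) ⧸ Ideal.span (Set.range δ))) [mT.IsPrime]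
    (hmT : ∀ F, Ideal.Quotient.mk _ F ∈ mT ↔ xC (graphRestr π F) = 0) :
    Algebra.IsEtaleAt R mT := by
  classical
  let P := R ⊗[k] C
  let J : Ideal P := Ideal.span (Set.range δ)
  let mP : Ideal P := mT.comap (Ideal.Quotient.mk J)
  have hmP : ∀ F, F ∈ mP ↔ xC (graphRestr π F) = 0 := fun F => hmT F
  haveI : IsNoetherianRing R := Algebra.FiniteType.isNoetherianRing k R
  haveI : Algebra.FiniteType R P := inferInstance
  haveI : IsNoetherianRing P := Algebra.FiniteType.isNoetherianRing R P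
  haveI : mT.LiesOver mP := ⟨rfl⟩
  let Pl := Localization.AtPrime mP
  let Tl := Localization.AtPrime mT
  letI : Algebra Pl Tl := Localization.AtPrime.algebraOfLiesOver mP mT
  haveI : IsNoetherianRing Pl := IsLocalization.isNoetherianRing mP.primeCompl Pl inferInstance
  haveI : Algebra.FormallySmooth R Pl := Algebra.FormallySmooth.comp R P Pl
  haveI : Algebra.EssFiniteType R Pl := Algebra.EssFiniteType.comp R P Pl
  have hPT : ∀ p : P, algebraMap Pl Tl (algebraMap P Pl p) = algebraMap (P ⧸ J) Tl (Ideal.Quotient.mk J p) := fun p => by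
    rw [← IsScalarTower.algebraMap_apply P Pl Tl, IsScalarTower.algebraMap_apply P (P ⧸ J) Tl]
    rfl
  have hPlT : Function.Surjective (algebraMap Pl Tl) := by
    intro t
    obtain ⟨a, ⟨b, hb⟩, rfl⟩ := IsLocalization.exists_mk'_eq mT.primeCompl t
    obtain ⟨a, rfl⟩ := Ideal.Quotient.mk_surjective a
    obtain ⟨b, rfl⟩ := Ideal.Quotient.mk_surjective b
    refine ⟨IsLocalization.mk' Pl a (⟨b, hb⟩ : mP.primeCompl), ?_⟩
    rw [eq_comm, IsLocalization.mk'_eq_iff_eq_mul, ← hPT a, ← hPT b, ← map_mul, IsLocalization.mk'_spec]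
  set K := RingHom.ker (algebraMap Pl Tl) with hK
  have hδK : ∀ c, algebraMap P Pl (δ c) ∈ K := fun c => by
    rw [hK, RingHom.mem_ker, hPT, Ideal.Quotient.eq_zero_iff_mem.mpr (Ideal.subset_span ⟨c, rfl⟩ : δ c ∈ J), map_zero]
  have hKle : K ≤ Ideal.span (Set.range fun c => algebraMap P Pl (δ c)) := by
    intro y hy
    obtain ⟨a, ⟨s, hs⟩, rfl⟩ := IsLocalization.exists_mk'_eq mP.primeCompl y
    rw [hK, RingHom.mem_ker] at hy
    have h0 : algebraMap Pl Tl (algebraMap P Pl a) = 0 := by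
      rw [← IsLocalization.mk'_spec Pl a ⟨s, hs⟩, map_mul, hy, zero_mul]
    rw [hPT, IsLocalization.map_eq_zero_iff mT.primeCompl] at h0
    obtain ⟨⟨t, ht⟩, hta⟩ := h0
    obtain ⟨t, rfl⟩ := Ideal.Quotient.mk_surjective t
    rw [← map_mul, Ideal.Quotient.eq_zero_iff_mem] at hta
    have hmem : algebraMap P Pl (t * a) ∈ Ideal.map (algebraMap P Pl) J := Ideal.mem_map_of_mem _ hta
    rw [Ideal.map_span, ← Set.range_comp] at hmem
    rw [IsLocalization.mk'_eq_mul_mk'_one]
    refine Ideal.mul_mem_right _ _ ?_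
    rw [map_mul] at hmem
    exact (Ideal.unit_mul_mem_iff_mem _ (IsLocalization.map_units Pl (⟨t, ht⟩ : mP.primeCompl))).mp hmem
  exact formallyEtale_of_section π hsurj δ hmul hq Pl Tl hPlT hδK hKle fun G hG =>
    (IsLocalization.AtPrime.to_map_mem_maximal_iff Pl mP G).mpr ((hmP G).mpr (by rw [hG, map_zero]))

end Groth.Agent.GLinEt
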