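import Groth.Agent.GLinEt.SliceEt
import Groth.Agent.GLinEt.SubComod
import Groth.Agent.GLinEt.Main
import Groth.Agent.ComodLib.ReducedSmooth

/-!
# Near a closed orbit the stabilisers of closed orbits are subconjugate
-/

universe u

open TensorProduct

namespace Groth.Agent.GLinEt

open ComodLib GLin

section QuotAlg

variable {k : Type u} [Field k] {A : Type u} [CommRing A] [HopfAlgebra k A]
variable {P : Type u} [CommRing P] [Algebra k P] [HopfRep.Comod k A P] [GLin.IsCoactAlg k A P]

/-- The coaction descended to the quotient by a stable ideal. -/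
noncomputable def quotCoact (J : Ideal P) (hJ : HopfRep.IsSubcomod (k := k) (A := A) (J.restrictScalars k)) :
    P ⧸ J →ₐ[k] (P ⧸ J) ⊗[k] A :=
  Ideal.Quotient.liftₐ J
    ((Algebra.TensorProduct.map (Ideal.Quotient.mkₐ k J) (AlgHom.id k A)).comp (GLin.coactAlgHom k A P)) fun a ha => by
      obtain ⟨y, hy⟩ := hJ a ha
      rw [AlgHom.comp_apply, GLin.coactAlgHom_apply, ← hy]
      clear hy
      induction y using TensorProduct.induction_on with
      | zero => simp
      | tmul b c => simp [Ideal.Quotient.eq_zero_iff_mem.mpr (show (b : P) ∈ J from b.2)]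
      | add p q hp hq => simp only [map_add, hp, hq, add_zero]

theorem quotCoact_mk (J : Ideal P) (hJ : HopfRep.IsSubcomod (k := k) (A := A) (J.restrictScalars k)) (a : P) :
    quotCoact J hJ (Ideal.Quotient.mk J a) =
      Algebra.TensorProduct.map (Ideal.Quotient.mkₐ k J) (AlgHom.id k A) (HopfRep.Comod.coact (k := k) (A := A) a) :=
  rfl

theorem quotCoact_comp (J : Ideal P) (hJ : HopfRep.IsSubcomod (k := k) (A := A) (J.restrictScalars k)) :
    (quotCoact J hJ).toLinearMap ∘ₗ (Ideal.Quotient.mkₐ k J).toLinearMap =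
      (Ideal.Quotient.mkₐ k J).toLinearMap.rTensor A ∘ₗ (HopfRep.Comod.coact (k := k) (A := A)) :=
  LinearMap.ext fun _ => rfl

/-- The quotient by a stable ideal, as a comodule. -/
@[reducible] noncomputable def quotComod (J : Ideal P)
    (hJ : HopfRep.IsSubcomod (k := k) (A := A) (J.restrictScalars k)) : HopfRep.Comod k A (P ⧸ J) where
  coact := (quotCoact J hJ).toLinearMap
  coassoc := by
    refine LinearMap.ext fun q => ?_
    obtain ⟨v, rfl⟩ := Ideal.Quotient.mk_surjective q
    have := ComodTens.coassoc_apply_of_hom (inferInstance : HopfRep.Comod k A P) (quotCoact J hJ).toLinearMap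
      (Ideal.Quotient.mkₐ k J).toLinearMap (quotCoact_comp J hJ) v
    simp only [LinearMap.coe_comp, Function.comp_apply, LinearEquiv.coe_coe] at this ⊢
    exact this
  counit_comp := by
    refine LinearMap.ext fun q => ?_
    obtain ⟨v, rfl⟩ := Ideal.Quotient.mk_surjective q
    have := ComodTens.counit_apply_of_hom (inferInstance : HopfRep.Comod k A P) (quotCoact J hJ).toLinearMap
      (Ideal.Quotient.mkₐ k J).toLinearMap (quotCoact_comp J hJ) v
    simp only [LinearMap.coe_comp, Function.comp_apply, LinearMap.flip_apply, TensorProduct.mk_apply] at this ⊢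
    exact this

theorem isCoactAlg_quot (J : Ideal P) (hJ : HopfRep.IsSubcomod (k := k) (A := A) (J.restrictScalars k)) :
    letI := quotComod J hJ
    GLin.IsCoactAlg k A (P ⧸ J) := by
  letI := quotComod J hJ
  exact ⟨map_one (quotCoact J hJ), map_mul (quotCoact J hJ)⟩

end QuotAlg

section Stab

variable {k : Type u} [Field k] {A : Type u} [CommRing A] [HopfAlgebra k A]
variable {R : Type u} [CommRing R] [Algebra k R] [HopfRep.Comod k A R] [GLin.IsCoactAlg k A R]
variable {S : Type u} [CommRing S] [Algebra k S] [HopfRep.Comod k A S] [GLin.IsCoactAlg k A S]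

theorem stabIdeal_comp_le (φ : S →ₐ[k] R) (hφ : Hoch.IsComodHom A φ.toLinearMap) (x : R →ₐ[k] k) :
    GLin.stabIdeal k A (x.comp φ) ≤ GLin.stabIdeal k A x := by
  refine Ideal.map_le_iff_le_comap.mpr fun s hs => ?_
  rw [Ideal.mem_comap, ← orbitHom_comp φ hφ, AlgHom.comp_apply]
  exact Ideal.mem_map_of_mem _ (show φ s ∈ RingHom.ker x from hs)

theorem actPt_apply_invariant (g : A →ₐ[k] k) (x : R →ₐ[k] k) {f : R} (hf : f ∈ GLin.invariants k A R) :
    GLin.actPt k g x f = x f := by
  show g (orbitHom k A x f) = x f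
  rw [orbitHom_of_invariant x hf, AlgHom.commutes, Algebra.algebraMap_self_apply]

end Stab

set_option maxHeartbeats 1000000 in
theorem exists_nhd_of_slice {k : Type u} [Field k] [IsAlgClosed k] {A : Type u} [CommRing A] [IsDomain A]
    [HopfAlgebra k A] [Algebra.FiniteType k A] {α : A →ₗ[k] k} (hα : IsIntegral k α) (h1 : α 1 = 1)
    {R : Type u} [CommRing R] [Algebra k R] [Algebra.FiniteType k R] [HopfRep.Comod k A R] [GLin.IsCoactAlg k A R]
    (x : R →ₐ[k] k) (hx : GLin.IsClosedOrbit k A x)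
    {C : Type u} [CommRing C] [Algebra k C] [HopfRep.Comod k A C] [GLin.IsCoactAlg k A C]
    (π : R →ₐ[k] C) (hπs : Function.Surjective π) (hπ : Hoch.IsComodHom A π.toLinearMap)
    (xC : C →ₐ[k] k) (hxC : xC.comp π = x) (hpts : ∀ w : C →ₐ[k] k, ∃ g : A →ₐ[k] k, w = GLin.actPt k g xC)
    {T : Type u} [CommRing T] [Algebra k T] [Algebra.FiniteType k T] [HopfRep.Comod k A T] [GLin.IsCoactAlg k A T]
    [Algebra R T] [IsScalarTower k R T]
    (hφ : Hoch.IsComodHom A (IsScalarTower.toAlgHom k R T).toLinearMap)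
    (ι : C →ₐ[k] T) (hι : Hoch.IsComodHom A ι.toLinearMap)
    (hext : ∀ u v : T →ₐ[k] k, u.comp (IsScalarTower.toAlgHom k R T) = v.comp (IsScalarTower.toAlgHom k R T) →
      u.comp ι = v.comp ι → u = v)
    (z₀ : T →ₐ[k] k) (hz₀φ : z₀.comp (IsScalarTower.toAlgHom k R T) = x) (hz₀ι : z₀.comp ι = xC)
    (m : Ideal T) [m.IsPrime] (hm : m = RingHom.ker z₀) (het : Algebra.IsEtaleAt R m) :
    ∃ f ∈ GLin.invariants k A R, x f ≠ 0 ∧
      ∀ x' : R →ₐ[k] k, x' f ≠ 0 → GLin.IsClosedOrbit k A x' →
        ∃ g : A →ₐ[k] k, GLin.stabIdeal k A x ≤ GLin.stabIdeal k A (GLin.actPt k g x') := by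
  classical
  let φ : R →ₐ[k] T := IsScalarTower.toAlgHom k R T
  have hinj : ∀ g : A →ₐ[k] k,
      GLin.actPt k g (z₀.comp φ) = z₀.comp φ → GLin.actPt k g z₀ = z₀ := by
    intro g hg
    have h2 : GLin.actPt k g xC = xC := AlgHom.ext fun c => by
      obtain ⟨r, rfl⟩ := hπs c
      rw [← AlgHom.comp_apply, actPt_comp π hπ, hxC, ← hz₀φ, hg, hz₀φ, ← AlgHom.comp_apply xC, hxC]
    exact hext _ _ ((actPt_comp φ hφ g z₀).trans hg) (by rw [actPt_comp ι hι, hz₀ι, h2])
  -- invariants
  let S₀ := GLin.invariants k A R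
  let R₀ := GLin.invariants k A T
  have hinvφ : ∀ s : S₀, φ s.1 ∈ R₀ := fun s => by
    have h := LinearMap.congr_fun hφ s.1
    simp only [LinearMap.comp_apply, AlgHom.toLinearMap_apply] at h
    rw [show (R₀ : Subalgebra k T) = GLin.invariants k A _ from rfl, GLin.mem_invariants_iff, h,
      show HopfRep.Comod.coact (k := k) (A := A) s.1 = s.1 ⊗ₜ[k] (1 : A) from s.2]
    rfl
  letI : Algebra S₀ R₀ := ((φ.comp S₀.val).codRestrict R₀ hinvφ).toRingHom.toAlgebra
  haveI : IsScalarTower S₀ R₀ T := IsScalarTower.of_algebraMap_eq fun s => rfl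
  obtain ⟨f, g, hfg, hsurj, -, -, -, -, hmain⟩ := exists_stronglyEtale_nhd hα h1 (S := R) (R := T) hφ
    (S₀ := S₀) Subtype.val_injective (Subalgebra.range_val S₀) (R₀ := R₀) Subtype.val_injective
    (Subalgebra.range_val R₀) z₀ m hm het
    (show GLin.IsClosedOrbit k A (z₀.comp φ) by rw [hz₀φ]; exact hx) hinj
  refine ⟨g.1, g.2, ?_, fun x' hx'g _ => ?_⟩
  · intro h
    apply hfg
    show z₀ ((f.1 : T) * φ g.1) = 0
    rw [map_mul, ← AlgHom.comp_apply z₀ φ, hz₀φ, h, mul_zero]
  obtain ⟨Q, hQ, hhQ, hQx⟩ := hsurj (RingHom.ker x') (RingHom.ker_isPrime _) hx'g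
  set hh : T := algebraMap R₀ T (f * algebraMap S₀ R₀ g)
  obtain ⟨zq, hzq⟩ := exists_point_ne_zero (k := k) (a := Ideal.Quotient.mk Q hh) fun ⟨n, hn⟩ => by
    rw [← map_pow, Ideal.Quotient.eq_zero_iff_mem] at hn
    exact hhQ (hQ.mem_of_pow_mem n hn)
  let z : T →ₐ[k] k := zq.comp (Ideal.Quotient.mkₐ k Q)
  have hzφ : z.comp φ = x' := AlgHom.ext fun r => by
    have h : φ (r - algebraMap k R (x' r)) ∈ Q := by
      have : r - algebraMap k R (x' r) ∈ RingHom.ker x' := by
        rw [RingHom.mem_ker, map_sub, AlgHom.commutes, Algebra.algebraMap_self_apply, sub_self]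
      rw [← hQx] at this
      exact this
    have h2 : z (φ (r - algebraMap k R (x' r))) = 0 := by
      show zq (Ideal.Quotient.mk Q _) = 0
      rw [Ideal.Quotient.eq_zero_iff_mem.mpr h, map_zero]
    rw [map_sub, map_sub, AlgHom.commutes, AlgHom.commutes, Algebra.algebraMap_self_apply, sub_eq_zero] at h2
    exact h2
  obtain ⟨g₀, hg₀⟩ := hpts (z.comp ι)
  refine ⟨g₀.comp (HopfAlgebra.antipodeAlgHom k A), ?_⟩
  set gi := g₀.comp (HopfAlgebra.antipodeAlgHom k A)
  set z' := GLin.actPt k gi z with hz'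
  have hz'ι : z'.comp ι = xC := by rw [hz', actPt_comp ι hι, hg₀, actPt_inv]
  have hz'φ : z'.comp φ = GLin.actPt k gi x' := by rw [hz', actPt_comp φ hφ, hzφ]
  rw [← hz'φ]
  have hle : GLin.stabIdeal k A x ≤ GLin.stabIdeal k A z' := by
    refine le_trans (le_of_eq ?_) (stabIdeal_comp_le (ι.comp π) ?_ z')
    · rw [← AlgHom.comp_assoc, hz'ι, hxC]
    · refine LinearMap.ext fun r => ?_
      have ha := LinearMap.congr_fun hι (π r)
      have hb := LinearMap.congr_fun hπ r
      simp only [LinearMap.comp_apply, AlgHom.toLinearMap_apply] at ha hb ⊢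
      refine ha.trans ?_
      rw [hb]
      exact (LinearMap.rTensor_comp_apply _ _ _ _).symm
  refine hle.trans (Ideal.map_le_iff_le_comap.mpr fun t ht => ?_)
  obtain ⟨n, w, hw⟩ := hmain t
  set y := z'.comp φ
  have hkey : ∀ w : R ⊗[S₀] R₀, ∃ a : R,
      orbitHom k A z' (Algebra.TensorProduct.productMap (IsScalarTower.toAlgHom S₀ R T)
        (IsScalarTower.toAlgHom S₀ R₀ T) w) = orbitHom k A y a ∧
      y a = z' (Algebra.TensorProduct.productMap (IsScalarTower.toAlgHom S₀ R T)
        (IsScalarTower.toAlgHom S₀ R₀ T) w) := fun w => by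
    induction w using TensorProduct.induction_on with
    | zero => exact ⟨0, by simp, by simp⟩
    | add p q hp hq =>
      obtain ⟨a, ha, ha'⟩ := hp
      obtain ⟨b, hb, hb'⟩ := hq
      exact ⟨a + b, by simp only [map_add, ha, hb], by simp only [map_add, ha', hb']⟩
    | tmul r u =>
      refine ⟨z' u.1 • r, ?_, ?_⟩
      · rw [Algebra.TensorProduct.productMap_apply_tmul, map_mul, IsScalarTower.toAlgHom_apply,
          IsScalarTower.toAlgHom_apply, map_smul, Algebra.smul_def, ← orbitHom_of_invariant z' u.2, mul_comm]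
        show _ * orbitHom k A z' (φ r) = _
        rw [← AlgHom.comp_apply, orbitHom_comp φ hφ]
        rfl
      · rw [Algebra.TensorProduct.productMap_apply_tmul, map_mul, IsScalarTower.toAlgHom_apply,
          IsScalarTower.toAlgHom_apply, map_smul, smul_eq_mul, mul_comm]
        rfl
  obtain ⟨a, ha, ha'⟩ := hkey w
  rw [hw] at ha ha'
  have hhinv : hh ∈ GLin.invariants k A T := (f * algebraMap S₀ R₀ g).2
  have hc : z' hh ≠ 0 := by
    rw [hz', actPt_apply_invariant gi z hhinv]
    exact hzq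
  rw [map_mul, map_pow, show z' t = 0 from ht, mul_zero] at ha'
  rw [map_mul, map_pow, orbitHom_of_invariant z' hhinv, ← map_pow, ← Algebra.smul_def] at ha
  rw [Ideal.mem_comap]
  have hmem : orbitHom k A y a ∈ GLin.stabIdeal k A y := Ideal.mem_map_of_mem _ (show a ∈ RingHom.ker y from ha')
  rw [← ha] at hmem
  have h3 := Submodule.smul_of_tower_mem (GLin.stabIdeal k A y) ((z' hh ^ n)⁻¹) hmem
  rwa [inv_smul_smul₀ (pow_ne_zero n hc)] at h3


set_option maxHeartbeats 1000000 in
theorem exists_invariant_nhd_subconjugate {k : Type u} [Field k] [IsAlgClosed k] {A : Type u} [CommRing A] [IsDomain A]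
    [HopfAlgebra k A] [Algebra.FiniteType k A] {α : A →ₗ[k] k} (hα : IsIntegral k α) (h1 : α 1 = 1)
    {R : Type u} [CommRing R] [Algebra k R] [Algebra.FiniteType k R] [HopfRep.Comod k A R] [GLin.IsCoactAlg k A R]
    (x : R →ₐ[k] k) (hx : GLin.IsClosedOrbit k A x) :
    ∃ f ∈ GLin.invariants k A R, x f ≠ 0 ∧
      ∀ x' : R →ₐ[k] k, x' f ≠ 0 → GLin.IsClosedOrbit k A x' →
        ∃ g : A →ₐ[k] k, GLin.stabIdeal k A x ≤ GLin.stabIdeal k A (GLin.actPt k g x') := by
  classical
  haveI hAA : GLin.IsCoactAlg k A A := ⟨Bialgebra.comul_one, fun f f' => Bialgebra.comul_mul f f'⟩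
  -- the orbit
  let C := (orbitHom k A x).range
  have hC : HopfRep.IsSubcomod (k := k) (A := A) (Subalgebra.toSubmodule C) := by
    have h := isSubcomod_range (C := A) (isComodHom_orbitHom (A := A) x)
    rw [show Subalgebra.toSubmodule C = LinearMap.range (orbitHom k A x).toLinearMap from SetLike.ext fun a => Iff.rfl]
    exact h
  letI := subalgComod hC
  haveI := isCoactAlg_sub hC
  let π : R →ₐ[k] C := (orbitHom k A x).rangeRestrict
  have hπs : Function.Surjective π := (orbitHom k A x).rangeRestrict_surjective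
  have hπv : C.val.comp π = orbitHom k A x := AlgHom.ext fun _ => rfl
  have hπ : Hoch.IsComodHom A π.toLinearMap := by
    refine LinearMap.ext fun r => map_val_injective C ?_
    refine (map_val_coact hC (π r)).trans ?_
    have h := LinearMap.congr_fun (isComodHom_orbitHom (A := A) x) r
    simp only [LinearMap.comp_apply, AlgHom.toLinearMap_apply] at h ⊢
    refine h.trans ?_
    induction HopfRep.Comod.coact (k := k) (A := A) r using TensorProduct.induction_on with
    | zero => simp
    | tmul a b => rfl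
    | add p q hp hq => simp only [map_add, hp, hq]
  let xC : C →ₐ[k] k := (Bialgebra.counitAlgHom k A).comp C.val
  have hxC : xC.comp π = x := AlgHom.ext fun r => counit_orbitHom x r
  have hpts : ∀ w : C →ₐ[k] k, ∃ g : A →ₐ[k] k, w = GLin.actPt k g xC := fun w => by
    obtain ⟨g, hg⟩ := mem_orbit_of_isClosedOrbit hx (z := w.comp π) fun r hr => by
      show w (π r) = 0
      rw [show π r = 0 from Subtype.ext (RingHom.mem_ker.mp hr), map_zero]
    refine ⟨g, AlgHom.ext fun c => ?_⟩
    obtain ⟨r, rfl⟩ := hπs c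
    have h := AlgHom.congr_fun hg r
    rw [AlgHom.comp_apply] at h
    rw [h, ← AlgHom.comp_apply, actPt_comp π hπ, hxC]
  haveI : Algebra.FiniteType k C := Algebra.FiniteType.of_surjective π hπs
  haveI : _root_.IsReduced C := isReduced_of_injective C.val Subtype.val_injective
  haveI : Algebra.FormallySmooth k C := RedSm.formallySmooth_of_transitive fun g h => by
    obtain ⟨g₀, rfl⟩ := hpts g
    obtain ⟨g₁, rfl⟩ := hpts h
    obtain ⟨e, he⟩ := exists_actPt_actPt_eq g₀ g₁ xC
    refine ⟨transEquiv C e, AlgHom.ext fun c => ?_⟩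
    show _ = GLin.actPt k g₀ xC (transEquiv C e c)
    rw [transEquiv_apply, apply_transHom, he]
  -- the slice
  obtain ⟨δ, hmul, hD, hq, hδ⟩ := exists_equivariant_derivation hα h1 π hπ hπs
  letI : HopfRep.Comod k A (R ⊗[k] C) := prodComod A R C
  haveI : GLin.IsCoactAlg k A (R ⊗[k] C) := isCoactAlg_prod A R C
  let J : Ideal (R ⊗[k] C) := Ideal.span (Set.range δ)
  have hJ : HopfRep.IsSubcomod (k := k) (A := A) (J.restrictScalars k) :=
    isSubcomod_of_forall_act fun g u hu => by
      have e : transHom g u = transProd R C g u := by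
        rw [transHom_apply, actF_apply, ← slice_coactP, ← coact_prodComod]
      rw [transHom_eq_act, e]
      have hmap : J.map (transProd R C g).toRingHom ≤ J := by
        rw [Ideal.map_le_iff_le_comap, Ideal.span_le]
        rintro _ ⟨c, rfl⟩
        show transProd R C g (δ c) ∈ J
        rw [hδ]
        exact Ideal.subset_span ⟨_, rfl⟩
      exact hmap (Ideal.mem_map_of_mem _ hu)
  letI : HopfRep.Comod k A ((R ⊗[k] C) ⧸ J) := quotComod J hJ
  haveI : GLin.IsCoactAlg k A ((R ⊗[k] C) ⧸ J) := isCoactAlg_quot J hJ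
  have hco : ∀ F, HopfRep.Comod.coact (k := k) (A := A) (Ideal.Quotient.mk J F) =
      Algebra.TensorProduct.map (Ideal.Quotient.mkₐ k J) (AlgHom.id k A) (coactP A R C F) := fun F => by
    rw [← coact_prodComod]
    rfl
  let φ : R →ₐ[k] (R ⊗[k] C) ⧸ J := IsScalarTower.toAlgHom k R ((R ⊗[k] C) ⧸ J)
  let ι : C →ₐ[k] (R ⊗[k] C) ⧸ J := (Ideal.Quotient.mkₐ k J).comp Algebra.TensorProduct.includeRight
  have hφmk : ∀ r, φ r = Ideal.Quotient.mk J (r ⊗ₜ[k] 1) := fun r => rfl
  have hφ : Hoch.IsComodHom A φ.toLinearMap := by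
    refine LinearMap.ext fun r => ?_
    show HopfRep.Comod.coact (k := k) (A := A) (Ideal.Quotient.mk J (r ⊗ₜ[k] 1)) = _
    rw [hco, coactP, Algebra.TensorProduct.productMap_apply_tmul, map_one, mul_one, LinearMap.comp_apply]
    simp only [AlgHom.comp_apply, GLin.coactAlgHom_apply]
    induction HopfRep.Comod.coact (k := k) (A := A) r using TensorProduct.induction_on with
    | zero => simp
    | tmul a b => rfl
    | add p q hp hq => simp only [map_add, hp, hq]
  have hι : Hoch.IsComodHom A ι.toLinearMap := by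
    refine LinearMap.ext fun c => ?_
    show HopfRep.Comod.coact (k := k) (A := A) (Ideal.Quotient.mk J ((1 : R) ⊗ₜ[k] c)) = _
    rw [hco, coactP, Algebra.TensorProduct.productMap_apply_tmul, map_one, one_mul, LinearMap.comp_apply]
    simp only [AlgHom.comp_apply, GLin.coactAlgHom_apply]
    induction HopfRep.Comod.coact (k := k) (A := A) c using TensorProduct.induction_on with
    | zero => simp
    | tmul a b => rfl
    | add p q hp hq => simp only [map_add, hp, hq]
  let z₀ : (R ⊗[k] C) ⧸ J →ₐ[k] k := Ideal.Quotient.liftₐ J (xC.comp (graphRestr π)) fun F hF =>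
    (Ideal.span_le (I := RingHom.ker (xC.comp (graphRestr π)))).mpr (by
      rintro _ ⟨c, rfl⟩
      show xC (graphRestr π (δ c)) = 0
      rw [hD, map_zero]) hF
  have hz₀φ : z₀.comp φ = x := AlgHom.ext fun r => by
    show xC (graphRestr π (r ⊗ₜ[k] (1 : C))) = x r
    rw [graphRestr_tmul, mul_one, ← AlgHom.comp_apply, hxC]
  have hz₀ι : z₀.comp ι = xC := AlgHom.ext fun c => by
    show xC (graphRestr π ((1 : R) ⊗ₜ[k] c)) = xC c
    rw [graphRestr_tmul, map_one, one_mul]
  let K : Ideal (R ⊗[k] C) := RingHom.ker (xC.comp (graphRestr π))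
  have hJK : J ≤ K := Ideal.span_le.mpr (by
    rintro _ ⟨c, rfl⟩
    show xC (graphRestr π (δ c)) = 0
    rw [hD, map_zero])
  haveI : Algebra.FiniteType R (R ⊗[k] C) := inferInstance
  haveI : Algebra.FiniteType k (R ⊗[k] C) := Algebra.FiniteType.trans (S := R) inferInstance inferInstance
  haveI : Algebra.FiniteType k ((R ⊗[k] C) ⧸ J) :=
    Algebra.FiniteType.of_surjective (Ideal.Quotient.mkₐ k J) (Ideal.Quotient.mkₐ_surjective k J)
  haveI : K.IsPrime := RingHom.ker_isPrime _
  haveI : (K.map (Ideal.Quotient.mk J)).IsPrime :=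
    Ideal.map_isPrime_of_surjective Ideal.Quotient.mk_surjective (by rw [Ideal.mk_ker]; exact hJK)
  refine exists_nhd_of_slice hα h1 x hx π hπs hπ xC hxC hpts hφ ι hι (fun u v h h' => ?_) z₀ hz₀φ hz₀ι
    (K.map (Ideal.Quotient.mk J)) ?_
    (isEtaleAt_quotient_span π hπs δ hmul hD hq xC _ fun F => (Ideal.mem_quotient_iff_mem hJK).trans Iff.rfl)
  · exact Ideal.Quotient.algHom_ext _ (Algebra.TensorProduct.ext
      (AlgHom.ext fun r => AlgHom.congr_fun h r) (AlgHom.ext fun c => AlgHom.congr_fun h' c))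
  · refine Ideal.ext fun t => ?_
    obtain ⟨F, rfl⟩ := Ideal.Quotient.mk_surjective t
    exact (Ideal.mem_quotient_iff_mem hJK).trans Iff.rfl

end Groth.Agent.GLinEt
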